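import Mathlib

set_option autoImplicit false

namespace Cfsg.Agent.H74

/-- For a normal subgroup `R` of a finite group, `|R : H ∩ R|` equals `|HR : H|`. -/
theorem relIndex_sup_eq_relIndex_of_normal {G : Type*} [Group G] [Finite G] (H R : Subgroup G)
    [R.Normal] : H.relIndex (H ⊔ R) = H.relIndex R := by
  have e1 : (H ⊓ R).relIndex H * H.relIndex (H ⊔ R) = (H ⊓ R).relIndex (H ⊔ R) :=
    Subgroup.relIndex_mul_relIndex _ _ _ inf_le_left le_sup_left
  have e2 : (H ⊓ R).relIndex R * R.relIndex (H ⊔ R) = (H ⊓ R).relIndex (H ⊔ R) :=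
    Subgroup.relIndex_mul_relIndex _ _ _ inf_le_right le_sup_right
  have e3 : R.relIndex (H ⊔ R) = R.relIndex H := Subgroup.relIndex_sup_right H R
  have e4 : (H ⊓ R).relIndex H = R.relIndex H := Subgroup.inf_relIndex_left H R
  have e5 : (H ⊓ R).relIndex R = H.relIndex R := Subgroup.inf_relIndex_right H R
  have hpos : 0 < R.relIndex H := Nat.pos_of_ne_zero (Subgroup.index_ne_zero_of_finite)
  rw [e3, e5] at e2
  rw [e4] at e1
  have : R.relIndex H * H.relIndex (H ⊔ R) = R.relIndex H * H.relIndex R := by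
    rw [e1, ← e2, mul_comm]
  exact Nat.eq_of_mul_eq_mul_left hpos this

/-- For a normal subgroup `R` of a finite group, `|R : H ∩ R|` divides `|G : H|`. -/
theorem relIndex_dvd_index_of_normal_right {G : Type*} [Group G] [Finite G] (H R : Subgroup G)
    [R.Normal] : H.relIndex R ∣ H.index := by
  rw [← relIndex_sup_eq_relIndex_of_normal H R]
  exact Subgroup.relIndex_dvd_index_of_le le_sup_left

/-- If for every prime `p` some power `z ^ c` with `p ∤ c` lies in `H`, then `z ∈ H`. -/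
theorem mem_of_forall_prime_pow_mem {G : Type*} [Group G] [Finite G] (H : Subgroup G) (z : G)
    (h : ∀ p : ℕ, p.Prime → ∃ c : ℕ, ¬ p ∣ c ∧ z ^ c ∈ H) : z ∈ H := by
  classical
  have hex : ∃ k : ℕ, 0 < k ∧ z ^ k ∈ H := ⟨orderOf z, orderOf_pos z, by simp [pow_orderOf_eq_one]⟩
  set d := Nat.find hex with hd
  have hd1 : 0 < d ∧ z ^ d ∈ H := Nat.find_spec hex
  have hmin : ∀ k, 0 < k → z ^ k ∈ H → d ≤ k := fun k hk hk' => Nat.find_min' hex ⟨hk, hk'⟩
  have hdvd : ∀ k, z ^ k ∈ H → d ∣ k := by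
    intro k hk
    by_contra hnd
    have hmod : 0 < k % d := Nat.pos_of_ne_zero (fun h0 => hnd (Nat.dvd_of_mod_eq_zero h0))
    have hmem : z ^ (k % d) ∈ H := by
      have hk2 : z ^ k = z ^ (k % d) * (z ^ d) ^ (k / d) := by
        rw [← pow_mul, ← pow_add, Nat.mod_add_div]
      have h3 : z ^ (k % d) = z ^ k * ((z ^ d) ^ (k / d))⁻¹ := by
        rw [hk2]; group
      rw [h3]
      exact H.mul_mem hk (H.inv_mem (H.pow_mem hd1.2 _))
    have := hmin _ hmod hmem
    have := Nat.mod_lt k hd1.1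
    omega
  by_cases h1 : d = 1
  · have := hd1.2
    rw [h1, pow_one] at this
    exact this
  · exfalso
    obtain ⟨q, hq, hqd⟩ := Nat.exists_prime_and_dvd h1
    obtain ⟨c, hc, hzc⟩ := h q hq
    exact hc (hqd.trans (hdvd c hzc))

end Cfsg.Agent.H74
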