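import Mathlib

/-!
# JZ-LT (S2951, case `T < S`): the abstract element chase

`Zs = Ω₁Z(S)`, `Z0 = Ω₁Z(J(T))`, `Z1 = Z0 ∩ Z(⟨K, J(T)⟩)`, `x ∈ N_S(T) ∖ T` (so `x ∉ L`).
`ltCore`: either `Zs = Z0` has order 2, or `Z0` has order 4, is centralized by `T`, and
`C_L(Z0)` has index 2 in `N_G(Z0)`.
-/

set_option autoImplicit false

namespace Cfsg.Agent.H74.Jz

universe u

theorem ltc_cj_mul {G : Type u} [Group G] (g a b : G) :
    g * (a * b) * g⁻¹ = (g * a * g⁻¹) * (g * b * g⁻¹) := by group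

theorem ltc_cj_cj {G : Type u} [Group G] (g h a : G) :
    (g * h) * a * (g * h)⁻¹ = g * (h * a * h⁻¹) * g⁻¹ := by group

theorem ltc_cj_inv_of {G : Type u} [Group G] {g a b : G} (h : g * a * g⁻¹ = b) :
    g⁻¹ * b * g⁻¹⁻¹ = a := by subst h; group

/-- If `Z1 ⊔ W = Z0`, `Z1` and `W` commute elementwise and `|W| = 2`, then `|Z0| ≤ 2 |Z1|`. -/
theorem card_le_two_mul {G : Type u} [Group G] (Z0 Z1 W : Subgroup G) [Finite ↥Z0]
    (hc : ∀ a ∈ Z1, ∀ b ∈ W, a * b = b * a) (hsup : Z1 ⊔ W = Z0) (hW : Nat.card ↥W = 2) :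
    Nat.card ↥Z0 ≤ 2 * Nat.card ↥Z1 := by
  have hZ1 : Z1 ≤ Z0 := hsup ▸ le_sup_left
  have hWle : W ≤ Z0 := hsup ▸ le_sup_right
  have hfin1 : Finite ↥Z1 := Finite.of_injective _ (Subgroup.inclusion_injective hZ1)
  have hfinW : Finite ↥W := Finite.of_injective _ (Subgroup.inclusion_injective hWle)
  let P : Subgroup G :=
    { carrier := {v | ∃ a ∈ Z1, ∃ b ∈ W, a * b = v}
      mul_mem' := by
        rintro _ _ ⟨a, ha, b, hb, rfl⟩ ⟨a', ha', b', hb', rfl⟩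
        refine ⟨a * a', Z1.mul_mem ha ha', b * b', W.mul_mem hb hb', ?_⟩
        calc (a * a') * (b * b') = a * (a' * b) * b' := by group
          _ = a * (b * a') * b' := by rw [hc a' ha' b hb]
          _ = (a * b) * (a' * b') := by group
      one_mem' := ⟨1, Z1.one_mem, 1, W.one_mem, mul_one 1⟩
      inv_mem' := by
        rintro _ ⟨a, ha, b, hb, rfl⟩
        refine ⟨a⁻¹, Z1.inv_mem ha, b⁻¹, W.inv_mem hb, ?_⟩
        rw [mul_inv_rev]
        exact hc a⁻¹ (Z1.inv_mem ha) b⁻¹ (W.inv_mem hb) }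
  have hP : Z1 ⊔ W ≤ P :=
    sup_le (fun a ha => ⟨a, ha, 1, W.one_mem, mul_one a⟩)
      (fun b hb => ⟨1, Z1.one_mem, b, hb, one_mul b⟩)
  let f : ↥Z1 × ↥W → ↥Z0 :=
    fun p => ⟨(p.1 : G) * (p.2 : G), Z0.mul_mem (hZ1 p.1.2) (hWle p.2.2)⟩
  have hf : Function.Surjective f := by
    rintro ⟨v, hv⟩
    have hv' : v ∈ Z1 ⊔ W := by rw [hsup]; exact hv
    obtain ⟨a, ha, b, hb, hab⟩ := hP hv'
    exact ⟨(⟨a, ha⟩, ⟨b, hb⟩), Subtype.ext hab⟩
  have h1 := Nat.card_le_card_of_surjective f hf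
  rw [Nat.card_prod, hW] at h1
  omega

/-- The element chase of the case `T < S` of S2951. -/
theorem ltCore {G : Type u} [Group G] (L T Zs Z0 Z1 : Subgroup G) [Finite ↥Z0] (x : G)
    (hZ1 : Z1 ≤ Z0) (hcard : Nat.card ↥Z0 ≤ 2 * Nat.card ↥Z1)
    (hY : ∀ g : G, ∀ y ∈ Z1, y ≠ 1 → g * y * g⁻¹ ∈ Z1 → g ∈ L)
    (hxL : x ∉ L) (hxN : ∀ v ∈ Z0, x * v * x⁻¹ ∈ Z0) (hxZ : ∀ z ∈ Zs, x * z * x⁻¹ = z)
    (hTL : T ≤ L) (hTN : ∀ t ∈ T, ∀ v ∈ Z0, t * v * t⁻¹ ∈ Z0)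
    (hTZ : ∀ t ∈ T, ∀ z ∈ Zs, t * z * t⁻¹ = z)
    (hZs : Zs ≤ Z0) (hZs1 : ∀ z ∈ Zs, z ∈ Z1 → z = 1) (hZsne : Zs ≠ ⊥)
    (h6 : ∀ y : G, ∀ z1 ∈ Z1, z1 ≠ 1 → y * z1 * y⁻¹ ∉ Zs) :
    (Zs = Z0 ∧ Nat.card ↥Z0 = 2) ∨
    (Nat.card ↥Z0 = 4 ∧ (∀ t ∈ T, ∀ v ∈ Z0, t * v * t⁻¹ = v) ∧
      (L ⊓ Subgroup.centralizer (Z0 : Set G)).relIndex
        (Subgroup.normalizer (Z0 : Set G)) = 2) := by
  have hfin1 : Finite ↥Z1 := Finite.of_injective _ (Subgroup.inclusion_injective hZ1)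
  have hfins : Finite ↥Zs := Finite.of_injective _ (Subgroup.inclusion_injective hZs)
  -- (alpha)
  have hA : Nat.card ↥Z1 * Nat.card ↥Z1 ≤ Nat.card ↥Z0 := by
    let f : ↥Z1 × ↥Z1 → ↥Z0 := fun p =>
      ⟨(p.1 : G) * (x * (p.2 : G) * x⁻¹), Z0.mul_mem (hZ1 p.1.2) (hxN _ (hZ1 p.2.2))⟩
    have hf : Function.Injective f := by
      rintro ⟨a, b⟩ ⟨a', b'⟩ h
      have h1 : (a : G) * (x * (b : G) * x⁻¹) = (a' : G) * (x * (b' : G) * x⁻¹) :=
        congrArg Subtype.val h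
      have h2 : x * ((b' : G) * (b : G)⁻¹) * x⁻¹ = (a' : G)⁻¹ * (a : G) := by
        calc x * ((b' : G) * (b : G)⁻¹) * x⁻¹
            = (a' : G)⁻¹ * ((a' : G) * (x * (b' : G) * x⁻¹)) * (x * (b : G) * x⁻¹)⁻¹ := by group
          _ = (a' : G)⁻¹ * ((a : G) * (x * (b : G) * x⁻¹)) * (x * (b : G) * x⁻¹)⁻¹ := by rw [h1]
          _ = (a' : G)⁻¹ * (a : G) := by group
      have h3 : (b' : G) * (b : G)⁻¹ = 1 := by
        by_contra hne
        exact hxL (hY x _ (Z1.mul_mem b'.2 (Z1.inv_mem b.2)) hne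
          (by rw [h2]; exact Z1.mul_mem (Z1.inv_mem a'.2) a.2))
      have hb : (b' : G) = (b : G) := by
        rwa [mul_inv_eq_one] at h3
      have ha : (a : G) = (a' : G) := by
        rw [hb] at h1; exact mul_right_cancel h1
      exact Prod.ext (Subtype.ext ha) (Subtype.ext hb.symm)
    have h1 := Nat.card_le_card_of_injective f hf
    rwa [Nat.card_prod] at h1
  let g : ↥Zs × ↥Z1 → ↥Z0 :=
    fun p => ⟨(p.1 : G) * (p.2 : G), Z0.mul_mem (hZs p.1.2) (hZ1 p.2.2)⟩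
  have hg : Function.Injective g := by
    rintro ⟨a, b⟩ ⟨a', b'⟩ h
    have h1 : (a : G) * (b : G) = (a' : G) * (b' : G) := congrArg Subtype.val h
    have h2 : (a' : G)⁻¹ * (a : G) = (b' : G) * (b : G)⁻¹ := by
      calc (a' : G)⁻¹ * (a : G) = (a' : G)⁻¹ * ((a : G) * (b : G)) * (b : G)⁻¹ := by group
        _ = (a' : G)⁻¹ * ((a' : G) * (b' : G)) * (b : G)⁻¹ := by rw [h1]
        _ = (b' : G) * (b : G)⁻¹ := by group
    have h3 : (a' : G)⁻¹ * (a : G) = 1 :=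
      hZs1 _ (Zs.mul_mem (Zs.inv_mem a'.2) a.2)
        (by rw [h2]; exact Z1.mul_mem b'.2 (Z1.inv_mem b.2))
    have ha : (a : G) = (a' : G) := by
      rw [inv_mul_eq_one] at h3; exact h3.symm
    have hb : (b : G) = (b' : G) := by
      rw [ha] at h1; exact mul_left_cancel h1
    exact Prod.ext (Subtype.ext ha) (Subtype.ext hb)
  have hB : Nat.card ↥Zs * Nat.card ↥Z1 ≤ Nat.card ↥Z0 := by
    have h1 := Nat.card_le_card_of_injective g hg
    rwa [Nat.card_prod] at h1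
  have h1pos : 0 < Nat.card ↥Z1 := Nat.card_pos
  have hs2 : 1 < Nat.card ↥Zs := (Subgroup.one_lt_card_iff_ne_bot Zs).mpr hZsne
  have hn1 : Nat.card ↥Z1 ≤ 2 := Nat.le_of_mul_le_mul_right (hA.trans hcard) h1pos
  have hns : Nat.card ↥Zs = 2 :=
    le_antisymm (Nat.le_of_mul_le_mul_right (hB.trans hcard) h1pos) hs2
  rcases (by omega : Nat.card ↥Z1 = 1 ∨ Nat.card ↥Z1 = 2) with h11 | h12
  · left
    rw [h11] at hcard hB
    rw [hns] at hB
    exact ⟨Subgroup.eq_of_le_of_card_ge hZs (by omega), by omega⟩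
  · have h04 : Nat.card ↥Z0 = 4 := by
      rw [h12] at hcard hB
      rw [hns] at hB
      omega
    have hgb : Function.Bijective g :=
      hg.bijective_of_nat_card_le (by rw [Nat.card_prod, hns, h12, h04])
    obtain ⟨⟨z, hzS⟩, hz1, hzu⟩ := (Nat.card_eq_two_iff' (1 : ↥Zs)).mp hns
    obtain ⟨⟨z1, hz1Z⟩, hz11, hz1u⟩ := (Nat.card_eq_two_iff' (1 : ↥Z1)).mp h12
    have hzne : z ≠ 1 := fun h => hz1 (Subtype.ext h)
    have hz1ne : z1 ≠ 1 := fun h => hz11 (Subtype.ext h)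
    have hZsel : ∀ a ∈ Zs, a = 1 ∨ a = z := by
      intro a ha
      by_cases h : a = 1
      · exact Or.inl h
      · right
        have h' := hzu ⟨a, ha⟩ (fun h' => h (congrArg Subtype.val h'))
        exact congrArg Subtype.val h'
    have hZ1el : ∀ b ∈ Z1, b = 1 ∨ b = z1 := by
      intro a ha
      by_cases h : a = 1
      · exact Or.inl h
      · right
        have h' := hz1u ⟨a, ha⟩ (fun h' => h (congrArg Subtype.val h'))
        exact congrArg Subtype.val h'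
    have hZ0el : ∀ v ∈ Z0, v = 1 ∨ v = z ∨ v = z1 ∨ v = z * z1 := by
      intro v hv
      obtain ⟨⟨a, b⟩, hab⟩ := hgb.2 ⟨v, hv⟩
      have hv' : (a : G) * (b : G) = v := congrArg Subtype.val hab
      rcases hZsel a a.2 with ha | ha <;> rcases hZ1el b b.2 with hb | hb
      · left; rw [← hv', ha, hb, one_mul]
      · right; right; left; rw [← hv', ha, hb, one_mul]
      · right; left; rw [← hv', ha, hb, mul_one]
      · right; right; right; rw [← hv', ha, hb]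
    have hzz : z * z = 1 := by
      rcases hZsel _ (Zs.mul_mem hzS hzS) with h | h
      · exact h
      · exact absurd (by simpa using h) hzne
    have hzZ0 : z ∈ Z0 := hZs hzS
    have hz1Z0 : z1 ∈ Z0 := hZ1 hz1Z
    have hzz1ne : z * z1 ≠ z1 := fun h => hzne (by simpa using h)
    have hx1 : x * z1 * x⁻¹ = z * z1 := by
      rcases hZ0el _ (hxN z1 hz1Z0) with h | h | h | h
      · exact absurd (by simpa using h) hz1ne
      · exact absurd (by rw [h]; exact hzS) (h6 x z1 hz1Z hz1ne)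
      · exact absurd (hY x z1 hz1Z hz1ne (by rw [h]; exact hz1Z)) hxL
      · exact h
    have hxz : x * z * x⁻¹ = z := hxZ z hzS
    have hx2 : x * (z * z1) * x⁻¹ = z1 := by
      rw [ltc_cj_mul, hxz, hx1, ← mul_assoc, hzz, one_mul]
    have hx3 : x⁻¹ * z1 * x⁻¹⁻¹ = z * z1 := ltc_cj_inv_of hx2
    -- (beta1)
    have hT1 : ∀ t ∈ T, t * z1 * t⁻¹ = z1 := by
      intro t ht
      rcases hZ0el _ (hTN t ht z1 hz1Z0) with h | h | h | h
      · exact absurd (by simpa using h) hz1ne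
      · exact absurd (by rw [h]; exact hzS) (h6 t z1 hz1Z hz1ne)
      · exact h
      · exfalso
        have h' : t⁻¹ * (z * z1) * t⁻¹⁻¹ = z1 := ltc_cj_inv_of h
        have h'' : (t⁻¹ * x) * z1 * (t⁻¹ * x)⁻¹ = z1 := by
          rw [ltc_cj_cj, hx1, h']
        have hm : t⁻¹ * x ∈ L := hY _ z1 hz1Z hz1ne (by rw [h'']; exact hz1Z)
        have hxL' : x ∈ L := by
          have h5 := L.mul_mem (hTL ht) hm
          simpa using h5
        exact hxL hxL'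
    have hT : ∀ t ∈ T, ∀ v ∈ Z0, t * v * t⁻¹ = v := by
      intro t ht v hv
      rcases hZ0el v hv with h | h | h | h
      · rw [h]; simp
      · rw [h]; exact hTZ t ht z hzS
      · rw [h]; exact hT1 t ht
      · rw [h, ltc_cj_mul, hTZ t ht z hzS, hT1 t ht]
    refine Or.inr ⟨h04, hT, ?_⟩
    -- (beta2)
    rw [Subgroup.relIndex_eq_two_iff_exists_notMem_and]
    have hxinv : ∀ v ∈ Z0, x⁻¹ * v * x⁻¹⁻¹ ∈ Z0 := by
      intro v hv
      rcases hZ0el v hv with h | h | h | h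
      · rw [h]; simp
      · rw [h, ltc_cj_inv_of hxz]; exact hzZ0
      · rw [h, hx3]; exact Z0.mul_mem hzZ0 hz1Z0
      · rw [h, ltc_cj_inv_of hx1]; exact hz1Z0
    have hxN' : x ∈ Subgroup.normalizer (Z0 : Set G) := by
      rw [Subgroup.mem_set_normalizer_iff]
      intro h
      constructor
      · exact fun hh => hxN h hh
      · intro hh
        have h5 := hxinv _ hh
        have e : x⁻¹ * (x * h * x⁻¹) * x⁻¹⁻¹ = h := by group
        rw [e] at h5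
        exact h5
    have hcent : ∀ c : G, c * z * c⁻¹ = z → c * z1 * c⁻¹ = z1 →
        c ∈ L ⊓ Subgroup.centralizer (Z0 : Set G) := by
      intro c hc1 hc2
      refine Subgroup.mem_inf.mpr ⟨hY c z1 hz1Z hz1ne (by rw [hc2]; exact hz1Z), ?_⟩
      rw [Subgroup.mem_centralizer_iff]
      intro v hv
      have hcv : c * v * c⁻¹ = v := by
        rcases hZ0el v hv with h | h | h | h
        · rw [h]; simp
        · rw [h]; exact hc1
        · rw [h]; exact hc2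
        · rw [h, ltc_cj_mul, hc1, hc2]
      calc v * c = (c * v * c⁻¹) * c := by rw [hcv]
        _ = c * v := by group
    refine ⟨x, hxN', fun hx => hxL hx.1, ?_⟩
    intro b hb
    have hbN : ∀ v, v ∈ (Z0 : Set G) ↔ b * v * b⁻¹ ∈ (Z0 : Set G) :=
      Subgroup.mem_set_normalizer_iff.mp hb
    have hbz : b * z * b⁻¹ = z := by
      rcases hZ0el _ ((hbN z).mp hzZ0) with h | h | h | h
      · exact absurd (by simpa using h) hzne
      · exact h
      · exfalso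
        have h' : b⁻¹ * z1 * b⁻¹⁻¹ = z := ltc_cj_inv_of h
        exact h6 b⁻¹ z1 hz1Z hz1ne (by rw [h']; exact hzS)
      · exfalso
        have h' : b⁻¹ * (z * z1) * b⁻¹⁻¹ = z := ltc_cj_inv_of h
        have h'' : (b⁻¹ * x⁻¹) * z1 * (b⁻¹ * x⁻¹)⁻¹ = z := by
          rw [ltc_cj_cj, hx3, h']
        exact h6 (b⁻¹ * x⁻¹) z1 hz1Z hz1ne (by rw [h'']; exact hzS)
    rcases hZ0el _ ((hbN z1).mp hz1Z0) with h | h | h | h
    · exact absurd (by simpa using h) hz1ne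
    · exact absurd (by rw [h]; exact hzS) (h6 b z1 hz1Z hz1ne)
    · exact Or.inr (hcent b hbz h)
    · have hbx1 : (b * x) * z1 * (b * x)⁻¹ = z1 := by
        rw [ltc_cj_cj, hx1, ltc_cj_mul, hbz, h, ← mul_assoc, hzz, one_mul]
      have hbxz : (b * x) * z * (b * x)⁻¹ = z := by
        rw [ltc_cj_cj, hxz, hbz]
      exact Or.inl (hcent (b * x) hbxz hbx1)

end Cfsg.Agent.H74.Jz
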