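import Mathlib

/-!
# JZ-LT (S2951, case `T < S`): the index is not 6

`ltH6core`: a subgroup `K = [K, J]` (`J` a 2-group) with a subgroup of relative index 3 has no
conjugate inside `N_G(S)`, `S` a Sylow 2-subgroup.
`ltH6`: hence no conjugate of an element `z1 ≠ 1` of `C_G(⟨K, J⟩)` lies in a subgroup `Zs` of
order 2 with `C_G(Zs) ≤ N_G(S)`.
-/

set_option autoImplicit false

namespace Cfsg.Agent.H74.Jz

universe u

open scoped commutatorElement

theorem ltH6core {G : Type u} [Group G] [Finite G] (S : Sylow 2 G) (K J O : Subgroup G)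
    (hJ : IsPGroup 2 ↥J) (hKJ : ⁅K, J⁆ = K) (hO3 : O.relIndex K = 3) (y : G)
    (hK : ∀ k ∈ K, y * k * y⁻¹ ∈ Subgroup.normalizer ((S : Subgroup G) : Set G))
    (hJN : ∀ j ∈ J, y * j * y⁻¹ ∈ Subgroup.normalizer ((S : Subgroup G) : Set G)) : False := by
  let φ : G →* G := (MulAut.conj y).toMonoidHom
  have hφ : ∀ g : G, φ g = y * g * y⁻¹ := fun g => rfl
  have hφinj : Function.Injective φ := (MulAut.conj y).injective
  -- `J^y ≤ S`
  have hJS : ∀ j ∈ J, y * j * y⁻¹ ∈ (S : Subgroup G) := by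
    intro j hj
    have hP : IsPGroup 2 ↥(J.map φ) := hJ.map φ
    have hmem : y * j * y⁻¹ ∈ J.map φ ⊓ Subgroup.normalizer ((S : Subgroup G) : Set G) :=
      Subgroup.mem_inf.mpr ⟨Subgroup.mem_map.mpr ⟨j, hj, rfl⟩, hJN j hj⟩
    have hmem' : y * j * y⁻¹ ∈ J.map φ ⊓ (S : Subgroup G) := by
      rw [← hP.inf_normalizer_sylow S]; exact hmem
    exact (Subgroup.mem_inf.mp hmem').2
  -- `K^y ≤ S`
  have hKS : K ≤ (S : Subgroup G).comap φ := by
    rw [← hKJ, Subgroup.commutator_le]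
    intro k hk j hj
    rw [Subgroup.mem_comap, hφ]
    have hn := hK k hk
    have hs := hJS j hj
    have hn' : (y * k * y⁻¹) * (y * j * y⁻¹) * (y * k * y⁻¹)⁻¹ ∈ (S : Subgroup G) :=
      (Subgroup.mem_set_normalizer_iff.mp hn _).mp hs
    have e : y * ⁅k, j⁆ * y⁻¹ =
        ((y * k * y⁻¹) * (y * j * y⁻¹) * (y * k * y⁻¹)⁻¹) * (y * j * y⁻¹)⁻¹ := by
      rw [commutatorElement_def]; group
    rw [e]
    exact (S : Subgroup G).mul_mem hn' ((S : Subgroup G).inv_mem hs)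
  have hKmap : K.map φ ≤ (S : Subgroup G) := Subgroup.map_le_iff_le_comap.mpr hKS
  have hK2 : IsPGroup 2 ↥K :=
    (S.2.to_le hKmap).of_equiv (K.equivMapOfInjective φ hφinj).symm
  obtain ⟨n, hn⟩ := hK2.index (O.subgroupOf K)
  rw [Subgroup.relIndex] at hO3
  rw [hO3] at hn
  cases n with
  | zero => simp at hn
  | succ n =>
    obtain ⟨c, hc⟩ : 2 ∣ 2 ^ (n + 1) := dvd_pow_self 2 (Nat.succ_ne_zero n)
    omega

theorem ltH6 {G : Type u} [Group G] [Finite G] (S : Sylow 2 G) (Zs K J O : Subgroup G)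
    (hZS : Subgroup.centralizer (Zs : Set G) ≤ Subgroup.normalizer ((S : Subgroup G) : Set G))
    (hZs2 : Nat.card ↥Zs = 2)
    (hJ : IsPGroup 2 ↥J) (hKJ : ⁅K, J⁆ = K) (hO3 : O.relIndex K = 3)
    (y z1 : G) (hz1 : z1 ∈ Subgroup.centralizer ((K ⊔ J : Subgroup G) : Set G))
    (hz1ne : z1 ≠ 1) : y * z1 * y⁻¹ ∉ Zs := by
  intro hz
  have hzne : y * z1 * y⁻¹ ≠ 1 := fun h => hz1ne (by simpa using h)
  obtain ⟨w, hw1, hwu⟩ := (Nat.card_eq_two_iff' (1 : ↥Zs)).mp hZs2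
  have hel : ∀ a ∈ Zs, a = 1 ∨ a = y * z1 * y⁻¹ := by
    intro a ha
    by_cases h : a = 1
    · exact Or.inl h
    · right
      have h1 := hwu ⟨a, ha⟩ (fun h' => h (congrArg Subtype.val h'))
      have h2 := hwu ⟨y * z1 * y⁻¹, hz⟩ (fun h' => hzne (congrArg Subtype.val h'))
      exact congrArg Subtype.val (h1.trans h2.symm)
  have hcen : ∀ k ∈ K ⊔ J, y * k * y⁻¹ ∈ Subgroup.normalizer ((S : Subgroup G) : Set G) := by
    intro k hk
    apply hZS
    rw [Subgroup.mem_centralizer_iff]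
    intro a ha
    have hk1 : k * z1 = z1 * k := (Subgroup.mem_centralizer_iff.mp hz1) k hk
    rcases hel a ha with h | h
    · rw [h]; simp
    · rw [h]
      calc y * z1 * y⁻¹ * (y * k * y⁻¹) = y * (z1 * k) * y⁻¹ := by group
        _ = y * (k * z1) * y⁻¹ := by rw [hk1]
        _ = y * k * y⁻¹ * (y * z1 * y⁻¹) := by group
  exact ltH6core S K J O hJ hKJ hO3 y (fun k hk => hcen k (le_sup_left (a := K) (b := J) hk))
    (fun j hj => hcen j (le_sup_right (a := K) (b := J) hj))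

end Cfsg.Agent.H74.Jz
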