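import Mathlib

/-!
# Ring identities for splitting automorphisms (helper74)

Abstract identities in a ring `R` (in applications the endomorphism ring of an abelian group)
used for the Hughes--Thompson--Kegel theorem:

* `rank_two_sum`: if `ξ, ζ` commute, `ζ^p = 1` and `∑_{j<p} (ξ ζ^i)^j = 0` for all `i < p`,
  then `∑_{k<p} ζ^k = p`.
* `rank_two_eq_one`: in `End(A)` with `p` acting injectively on `A` this forces `ζ = 1`.
* `frob_partition`: the averaging identity over a Frobenius-like group `Q ⋊ ⟨η⟩`.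
-/

set_option autoImplicit false

namespace Cfsg.Agent.H74.Keg

open Finset

/-- Reindexing: `∑_{i<p} ζ^(i*j) = ∑_{k<p} ζ^k` when `ζ^p = 1` and `0 < j < p`. -/
theorem sum_pow_mul_eq {R : Type*} [Ring R] {p : ℕ} (hp : p.Prime) (ζ : R) (hζ : ζ ^ p = 1)
    {j : ℕ} (hj0 : 0 < j) (hjp : j < p) :
    ∑ i ∈ range p, ζ ^ (i * j) = ∑ k ∈ range p, ζ ^ k := by
  have hmod : ∀ n : ℕ, ζ ^ n = ζ ^ (n % p) := fun n => by
    conv_lhs => rw [← Nat.div_add_mod n p, pow_add, pow_mul, hζ, one_pow, one_mul]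
  have hcop : Nat.Coprime p j := Nat.coprime_of_lt_prime hj0.ne' hjp hp
  have hinj : Set.InjOn (fun i => (i * j) % p) (range p : Set ℕ) := by
    intro a ha b hb hab
    simp only [coe_range, Set.mem_Iio] at ha hb
    have h1 : (a * j) ≡ (b * j) [MOD p] := hab
    have h2 : a ≡ b [MOD p] := Nat.ModEq.cancel_right_of_coprime hcop h1
    exact Nat.ModEq.eq_of_lt_of_lt h2 ha hb
  have himg : (range p).image (fun i => (i * j) % p) = range p := by
    apply eq_of_subset_of_card_le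
    · intro x hx
      obtain ⟨i, -, rfl⟩ := mem_image.1 hx
      exact mem_range.2 (Nat.mod_lt _ hp.pos)
    · rw [card_image_of_injOn hinj]
  calc ∑ i ∈ range p, ζ ^ (i * j) = ∑ i ∈ range p, ζ ^ ((i * j) % p) :=
        sum_congr rfl fun i _ => hmod _
    _ = ∑ k ∈ (range p).image (fun i => (i * j) % p), ζ ^ k := (sum_image hinj).symm
    _ = ∑ k ∈ range p, ζ ^ k := by rw [himg]

/-- `∑_{j<p} (if j = 0 then c else g j) = c + (∑_{j<p} g j - g 0)`. -/
theorem sum_ite_zero {R : Type*} [Ring R] (p : ℕ) (hp : 0 < p) (c : R) (g : ℕ → R) :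
    ∑ j ∈ range p, (if j = 0 then c else g j) = c + (∑ j ∈ range p, g j - g 0) := by
  obtain ⟨m, rfl⟩ : ∃ m, p = m + 1 := Nat.exists_eq_succ_of_ne_zero hp.ne'
  rw [sum_range_succ', sum_range_succ' g]
  simp only [Nat.succ_ne_zero, if_false, if_true, add_sub_cancel_right]
  rw [add_comm]

theorem rank_two_sum {R : Type*} [Ring R] {p : ℕ} (hp : p.Prime) (ξ ζ : R) (hc : Commute ξ ζ)
    (hζ : ζ ^ p = 1) (h : ∀ i < p, ∑ j ∈ range p, (ξ * ζ ^ i) ^ j = 0) :
    ∑ k ∈ range p, ζ ^ k = (p : R) := by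
  have h0 : ∑ j ∈ range p, ξ ^ j = 0 := by simpa using h 0 hp.pos
  have hS : ∑ i ∈ range p, ∑ j ∈ range p, (ξ * ζ ^ i) ^ j = 0 :=
    sum_eq_zero fun i hi => h i (mem_range.1 hi)
  rw [sum_comm] at hS
  have hj : ∀ j ∈ range p, ∑ i ∈ range p, (ξ * ζ ^ i) ^ j
      = if j = 0 then (p : R) else (fun j => ξ ^ j * ∑ k ∈ range p, ζ ^ k) j := by
    intro j hj
    split_ifs with hj0
    · subst hj0; simp
    · show _ = ξ ^ j * ∑ k ∈ range p, ζ ^ k
      rw [← sum_pow_mul_eq hp ζ hζ (Nat.pos_of_ne_zero hj0) (mem_range.1 hj), mul_sum]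
      refine sum_congr rfl fun i _ => ?_
      rw [(hc.pow_right i).mul_pow, ← pow_mul]
  rw [sum_congr rfl hj, sum_ite_zero p hp.pos, ← sum_mul, h0] at hS
  have h3 : (p : R) - ∑ k ∈ range p, ζ ^ k = 0 := by
    rw [← hS]; simp [sub_eq_add_neg]
  exact (sub_eq_zero.1 h3).symm

theorem rank_two_eq_one {A : Type*} [AddCommGroup A] {p : ℕ} (hp : p.Prime)
    (hA : ∀ a : A, p • a = 0 → a = 0) (ξ ζ : AddMonoid.End A) (hc : Commute ξ ζ)
    (hζ : ζ ^ p = 1) (h : ∀ i < p, ∑ j ∈ range p, (ξ * ζ ^ i) ^ j = 0) : ζ = 1 := by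
  have h1 := rank_two_sum hp ξ ζ hc hζ h
  have h2 : (ζ - 1) * ∑ k ∈ range p, ζ ^ k = ζ ^ p - 1 := mul_geom_sum ζ p
  rw [h1, hζ, sub_self] at h2
  ext a
  have h3 : p • (ζ a - a) = 0 := by
    have h4 := congrArg (fun f : AddMonoid.End A => f a) h2
    have h5 : (ζ - 1 : AddMonoid.End A) a = ζ a - a := rfl
    simpa [h5] using h4
  have h6 := hA _ h3
  simpa [sub_eq_zero] using h6

/-- Averaging over a Frobenius-like group: if `η` has vanishing norm and conjugation by `η^i`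
(`0 < i < p`) twists the action of `Q` by a bijection, then `∑_{l ∈ Q} λ(l) = |Q|`. -/
theorem frob_partition {R : Type*} [Ring R] {Q : Type*} [Group Q] [Fintype Q] (lam : Q →* R)
    (η : R) {p : ℕ} (hp : 0 < p) (hη : ∑ i ∈ range p, η ^ i = 0)
    (hβ : ∀ i, 0 < i → i < p → ∃ β : Q → Q, Function.Bijective β ∧
        ∀ l, lam l * η ^ i * lam l⁻¹ = lam (β l) * η ^ i) :
    ∑ l : Q, lam l = (Fintype.card Q : R) := by
  have h1 : ∑ i ∈ range p, ∑ l : Q, lam l * η ^ i * lam l⁻¹ = 0 := by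
    rw [sum_comm]
    refine sum_eq_zero fun l _ => ?_
    rw [← sum_mul, ← mul_sum, hη, mul_zero, zero_mul]
  have h2 : ∀ i ∈ range p, ∑ l : Q, lam l * η ^ i * lam l⁻¹ =
      if i = 0 then (Fintype.card Q : R) else (fun i => (∑ l : Q, lam l) * η ^ i) i := by
    intro i hi
    split_ifs with hi0
    · subst hi0
      have : ∀ l : Q, lam l * η ^ 0 * lam l⁻¹ = 1 := fun l => by
        rw [pow_zero, mul_one, ← map_mul, mul_inv_cancel, map_one]
      rw [sum_congr rfl fun l _ => this l]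
      simp
    · obtain ⟨β, hβb, hβ'⟩ := hβ i (Nat.pos_of_ne_zero hi0) (mem_range.1 hi)
      show _ = (∑ l : Q, lam l) * η ^ i
      rw [sum_congr rfl fun l _ => hβ' l, ← sum_mul]
      congr 1
      exact hβb.sum_comp (fun l => lam l)
  rw [sum_congr rfl h2, sum_ite_zero p hp, ← mul_sum, hη] at h1
  have h3 : (Fintype.card Q : R) - ∑ l : Q, lam l = 0 := by
    rw [← h1]; simp [sub_eq_add_neg]
  exact (sub_eq_zero.1 h3).symm

/-- Consequence: `|Q| * (λ(l) - 1) = 0` for every `l`. -/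
theorem frob_partition_mul {R : Type*} [Ring R] {Q : Type*} [Group Q] [Fintype Q] (lam : Q →* R)
    (η : R) {p : ℕ} (hp : 0 < p) (hη : ∑ i ∈ range p, η ^ i = 0)
    (hβ : ∀ i, 0 < i → i < p → ∃ β : Q → Q, Function.Bijective β ∧
        ∀ l, lam l * η ^ i * lam l⁻¹ = lam (β l) * η ^ i) (l : Q) :
    (lam l - 1) * (Fintype.card Q : R) = 0 := by
  rw [← frob_partition lam η hp hη hβ, sub_mul, one_mul, mul_sum, sub_eq_zero]
  have : ∀ m : Q, lam l * lam m = lam (l * m) := fun m => (map_mul lam l m).symm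
  rw [sum_congr rfl fun m _ => this m]
  exact (Group.mulLeft_bijective l).sum_comp (fun m => lam m)

end Cfsg.Agent.H74.Keg
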