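import Mathlib
import Cfsg.Agent.H74.KegelRing
import Cfsg.Agent.H38.PGroupBasic

/-!
# Splitting elements acting on abelian subgroups; the Hughes--Thompson index theorem (helper74)

Setting: `H ≤ G` with `g ^ p = 1` for all `g ∉ H`.  Then for `g ∉ H` normalizing an abelian
subgroup `A ≤ H` the norm `∑_{i<p} c_g^i` of the conjugation endomorphism vanishes
(`norm_eq_zero_of_notMem`).  Main result: `index_eq_prime`.
-/

set_option autoImplicit false
namespace Cfsg.Agent.H74.Keg
open Finset Subgroup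
open scoped IsMulCommutative Pointwise

variable {G : Type*} [Group G]

/-- Conjugation by an element normalizing `A`, on `Additive A`. -/
def cFun (A : Subgroup G) (g : ↥(normalizer (A : Set G))) (u : Additive A) : Additive A :=
  Additive.ofMul (⟨(g : G) * (Additive.toMul u : A) * (g : G)⁻¹,
        (mem_normalizer_iff.1 g.2 _).1 (Additive.toMul u).2⟩ : A)

theorem cFun_coe (A : Subgroup G) (g : ↥(normalizer (A : Set G))) (u : Additive A) :
    ((Additive.toMul (cFun A g u) : A) : G) = (g : G) * (Additive.toMul u : A) * (g : G)⁻¹ := rfl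

theorem cFun_ext (A : Subgroup G) {u v : Additive A}
    (h : ((Additive.toMul u : A) : G) = (Additive.toMul v : A)) : u = v :=
  Additive.toMul.injective (Subtype.ext h)

/-- Conjugation by elements normalizing an abelian subgroup `A`, in `End(Additive A)`. -/
noncomputable def cEnd (A : Subgroup G) [IsMulCommutative A] :
    ↥(normalizer (A : Set G)) →* AddMonoid.End (Additive A) where
  toFun g := AddMonoidHom.mk' (cFun A g)
    (by intro u v; apply cFun_ext; simp [cFun_coe, mul_assoc])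
  map_one' := by
    ext u
    show ((Additive.toMul (cFun A 1 u) : A) : G) = _
    simp [cFun_coe]
  map_mul' g h := by
    ext u
    show ((Additive.toMul (cFun A (g * h) u) : A) : G) =
      ((Additive.toMul (cFun A g (cFun A h u)) : A) : G)
    simp [cFun_coe, mul_assoc]

theorem cEnd_coe (A : Subgroup G) [IsMulCommutative A] (g : ↥(normalizer (A : Set G)))
    (u : Additive A) :
    ((Additive.toMul (cEnd A g u) : A) : G) = (g : G) * (Additive.toMul u : A) * (g : G)⁻¹ := rfl

/-- `cEnd A g = 1` iff `g` centralizes `A`. -/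
theorem cEnd_eq_one_iff (A : Subgroup G) [IsMulCommutative A] (g : ↥(normalizer (A : Set G))) :
    cEnd A g = 1 ↔ (g : G) ∈ centralizer (A : Set G) := by
  constructor
  · intro h
    rw [mem_centralizer_iff]
    intro a ha
    have h1 := cEnd_coe A g (Additive.ofMul ⟨a, ha⟩)
    rw [h] at h1
    have h2 : a = (g : G) * a * (g : G)⁻¹ := h1
    rw [eq_mul_inv_iff_mul_eq] at h2
    exact h2
  · intro h
    ext u
    rw [cEnd_coe]
    have := (mem_centralizer_iff.1 h) _ (Additive.toMul u).2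
    rw [← this]; simp

/-- The key computation: `(g * u)^n = (∏_{i<n} g^(i+1) u g^-(i+1)) * g^n`, with the product
taken in the abelian group `A`. -/
theorem mul_pow_eq (A : Subgroup G) [IsMulCommutative A] (g : ↥(normalizer (A : Set G)))
    (u : Additive A) (n : ℕ) :
    ((g : G) * (Additive.toMul u : A)) ^ n =
      ((Additive.toMul (∑ i ∈ range n, (cEnd A g ^ (i + 1)) u) : A) : G) * (g : G) ^ n := by
  induction n with
  | zero => simp
  | succ n ih =>
    rw [pow_succ, ih, sum_range_succ, toMul_add, Subgroup.coe_mul, ← map_pow, cEnd_coe]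
    simp only [Subgroup.coe_pow]
    group

/-- If `g^p = 1` and `(g u)^p = 1` for all `u ∈ A` then the norm of `cEnd A g` vanishes. -/
theorem norm_eq_zero (A : Subgroup G) [IsMulCommutative A] (g : ↥(normalizer (A : Set G)))
    (p : ℕ) (hg : (g : G) ^ p = 1) (h : ∀ a ∈ A, ((g : G) * a) ^ p = 1) :
    ∑ i ∈ range p, cEnd A g ^ i = 0 := by
  have h1 : ∑ i ∈ range p, cEnd A g ^ (i + 1) = 0 := by
    ext u
    have h2 := mul_pow_eq A g u p
    rw [h _ (Additive.toMul u).2, hg, mul_one] at h2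
    have h5 : (∑ i ∈ range p, cEnd A g ^ (i + 1)) u = ∑ i ∈ range p, (cEnd A g ^ (i + 1)) u :=
      AddMonoidHom.finsetSum_apply _ _ _
    rw [h5, ← h2]; rfl
  have h3 : cEnd A g ^ p = 1 := by
    rw [← map_pow]
    have : g ^ p = 1 := Subtype.ext (by simpa using hg)
    rw [this, map_one]
  have h4 := sum_range_succ (fun i => cEnd A g ^ i) p
  rw [sum_range_succ' (fun i => cEnd A g ^ i) p, h1, h3] at h4
  simpa using h4.symm


/-- In a `p`-group every nontrivial element has a power of order `p`. -/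
theorem exists_pow_ne_one_pow_eq_one {K : Type*} [Group K] {p : ℕ} (g : K)
    (hg : ∃ k : ℕ, g ^ (p ^ k) = 1) (hg1 : g ≠ 1) : ∃ m : ℕ, g ^ m ≠ 1 ∧ (g ^ m) ^ p = 1 := by
  classical
  have hk0 : Nat.find hg ≠ 0 := by
    intro h0
    have := Nat.find_spec hg
    rw [h0, pow_zero, pow_one] at this
    exact hg1 this
  obtain ⟨k, hk⟩ := Nat.exists_eq_succ_of_ne_zero hk0
  refine ⟨p ^ k, ?_, ?_⟩
  · exact Nat.find_min hg (by omega)
  · rw [← pow_mul, ← pow_succ, ← Nat.succ_eq_add_one, ← hk]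
    exact Nat.find_spec hg

section core
variable {p : ℕ} (H : Subgroup G) (hspl : ∀ g, g ∉ H → g ^ p = 1)
include hspl

theorem norm_eq_zero_of_notMem (A : Subgroup G) [IsMulCommutative A] (hAH : A ≤ H)
    (g : ↥(normalizer (A : Set G))) (hg : (g : G) ∉ H) :
    ∑ i ∈ range p, cEnd A g ^ i = 0 :=
  norm_eq_zero A g p (hspl _ hg) (fun a ha => hspl _ (fun h => hg (by
    have := H.mul_mem h (H.inv_mem (hAH ha))
    simpa using this)))

/-- An element outside `H` normalizing `A ≠ 1` (with `p` acting injectively) acts nontrivially. -/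
theorem mem_of_cEnd_eq_one (A : Subgroup G) [IsMulCommutative A] (hAH : A ≤ H)
    (hAbot : A ≠ ⊥) (hAp : ∀ a ∈ A, a ^ p = 1 → a = 1)
    (g : ↥(normalizer (A : Set G))) (hg : cEnd A g = 1) : (g : G) ∈ H := by
  by_contra hgH
  have h1 := norm_eq_zero_of_notMem H hspl A hAH g hgH
  rw [hg] at h1
  simp only [one_pow, sum_const, card_range] at h1
  apply hAbot
  rw [eq_bot_iff]
  intro a ha
  rw [mem_bot]
  apply hAp a ha
  have h2 := congrArg (fun f : AddMonoid.End (Additive A) => f (Additive.ofMul ⟨a, ha⟩)) h1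
  have h3 : (p • (1 : AddMonoid.End (Additive A))) (Additive.ofMul ⟨a, ha⟩) =
      Additive.ofMul (⟨a, ha⟩ ^ p : A) := by
    rw [ofMul_pow]; rfl
  simp only [h3] at h2
  have h4 : (⟨a, ha⟩ ^ p : A) = 1 := h2
  simpa using congrArg Subtype.val h4

/-- Core of the Hughes--Thompson index theorem: a `p`-group `S` normalizing a nontrivial abelian
`p'`-subgroup `A ≤ H` is generated modulo `H` by a single element. -/
theorem exists_generator [Fact p.Prime] [H.Normal]
    (A : Subgroup G) [IsMulCommutative A] (hAH : A ≤ H) (hAbot : A ≠ ⊥)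
    (hAp : ∀ a ∈ A, a ^ p = 1 → a = 1)
    (S : Subgroup G) [Finite S] (hS : IsPGroup p S) (hSN : S ≤ normalizer (A : Set G))
    (hSH : ¬ S ≤ H) :
    ∃ z ∈ S, ∀ x ∈ S, ∃ i < p, x * z ^ i ∈ H := by
  have hp : p.Prime := Fact.out
  set φ : ↥S →* AddMonoid.End (Additive A) := (cEnd A).comp (inclusion hSN) with hφ
  have hA' : ∀ a : Additive A, p • a = 0 → a = 0 := by
    intro a ha
    have h1 : (Additive.toMul a : A) ^ p = 1 := by
      have := congrArg Additive.toMul ha
      simpa using this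
    have h2 := hAp _ (Additive.toMul a).2 (by simpa using congrArg Subtype.val h1)
    exact Additive.toMul.injective (Subtype.ext h2)
  have hnorm : ∀ s : ↥S, (s : G) ∉ H → ∑ i ∈ range p, φ s ^ i = 0 := fun s hs =>
    norm_eq_zero_of_notMem H hspl A hAH (inclusion hSN s) hs
  have hβ : ∀ s : ↥S, φ s = 1 → (s : G) ∈ H := fun s hs =>
    mem_of_cEnd_eq_one H hspl A hAH hAbot hAp (inclusion hSN s) hs
  obtain ⟨x₀, hx₀S, hx₀H⟩ : ∃ x₀ ∈ S, x₀ ∉ H := by
    by_contra hcon; push Not at hcon; exact hSH hcon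
  -- elements of `S ∩ H` centralize `A`
  have hγ : ∀ s : ↥S, (s : G) ∈ H → φ s = 1 := by
    by_contra hcon
    push Not at hcon
    obtain ⟨s₀, hs₀H, hs₀⟩ := hcon
    let φu : ↥S →* (AddMonoid.End (Additive A))ˣ := φ.toHomUnits
    have hker : ∀ s, s ∈ φu.ker ↔ φ s = 1 := by
      intro s
      rw [MonoidHom.mem_ker, Units.ext_iff]
      rfl
    have hq : IsPGroup p (↥S ⧸ φu.ker) := hS.to_quotient _
    let M : Subgroup (↥S ⧸ φu.ker) := (H.subgroupOf S).map (QuotientGroup.mk' φu.ker)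
    haveI : M.Normal := Subgroup.Normal.map inferInstance _ (QuotientGroup.mk'_surjective _)
    have hM : M ≠ ⊥ := by
      intro hbot
      have h1 : (QuotientGroup.mk' φu.ker s₀) ∈ M :=
        Subgroup.mem_map_of_mem _ (mem_subgroupOf.2 hs₀H)
      rw [hbot, mem_bot] at h1
      exact hs₀ ((hker s₀).1 ((QuotientGroup.eq_one_iff s₀).1 h1))
    obtain ⟨w, hwM, hwc, hw1⟩ := Cfsg.Agent.H38.exists_mem_center_of_normal_ne_bot hq M hM
    obtain ⟨m, hm1, hmp⟩ := exists_pow_ne_one_pow_eq_one w (hq w) hw1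
    obtain ⟨z, hzH, hz⟩ := (Subgroup.mem_map.1 (M.pow_mem hwM m))
    have hzc : w ^ m ∈ center (↥S ⧸ φu.ker) := Subgroup.pow_mem _ hwc m
    have key : ∀ a b : ↥S, (QuotientGroup.mk a : ↥S ⧸ φu.ker) = QuotientGroup.mk b →
        φ a = φ b := by
      intro a b hab
      have h1 := QuotientGroup.eq.1 hab
      rw [MonoidHom.mem_ker, map_mul, map_inv, inv_mul_eq_one] at h1
      exact congrArg Units.val h1
    let x : ↥S := ⟨x₀, hx₀S⟩
    have hcomm : Commute (φ x) (φ z) := by
      show φ x * φ z = φ z * φ x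
      rw [← map_mul, ← map_mul]
      apply key
      rw [QuotientGroup.mk_mul, QuotientGroup.mk_mul]
      have h1 := Subgroup.mem_center_iff.1 hzc (QuotientGroup.mk x)
      rw [← hz] at h1
      exact h1
    have hzp : φ z ^ p = 1 := by
      rw [← map_pow, ← map_one φ]
      apply key
      rw [QuotientGroup.mk_pow]
      show (QuotientGroup.mk' φu.ker z) ^ p = _
      rw [hz, hmp]; rfl
    have hz1 : φ z ≠ 1 := by
      intro h
      apply hm1
      rw [← hz]
      exact (QuotientGroup.eq_one_iff z).2 ((hker z).2 h)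
    have hsum : ∀ i < p, ∑ j ∈ range p, (φ x * φ z ^ i) ^ j = 0 := by
      intro i _
      rw [← map_pow, ← map_mul]
      apply hnorm
      intro hmem
      apply hx₀H
      have h2 : ((z ^ i : ↥S) : G) ∈ H := by
        rw [Subgroup.coe_pow]; exact H.pow_mem (mem_subgroupOf.1 hzH) i
      have h3 := H.mul_mem hmem (H.inv_mem h2)
      simpa [x] using h3
    exact hz1 (rank_two_eq_one hp hA' (φ x) (φ z) hcomm hzp hsum)
  -- a central element of `S / (S ∩ H)`
  have hq : IsPGroup p (↥S ⧸ H.subgroupOf S) := hS.to_quotient _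
  haveI : Nontrivial (↥S ⧸ H.subgroupOf S) := by
    refine ⟨⟨QuotientGroup.mk ⟨x₀, hx₀S⟩, 1, ?_⟩⟩
    intro h
    exact hx₀H (mem_subgroupOf.1 ((QuotientGroup.eq_one_iff _).1 h))
  haveI := hq.center_nontrivial
  obtain ⟨⟨w, hwc⟩, hw1⟩ := exists_ne (1 : center (↥S ⧸ H.subgroupOf S))
  obtain ⟨z, rfl⟩ := QuotientGroup.mk_surjective w
  have hzH : (z : G) ∉ H := by
    intro h
    apply hw1
    apply Subtype.ext
    exact (QuotientGroup.eq_one_iff z).2 (mem_subgroupOf.2 h)
  refine ⟨z, z.2, ?_⟩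
  intro x hx
  by_contra hcon
  push Not at hcon
  let x' : ↥S := ⟨x, hx⟩
  have hcomm : Commute (φ x') (φ z) := by
    show φ x' * φ z = φ z * φ x'
    have h1 := Subgroup.mem_center_iff.1 hwc (QuotientGroup.mk x')
    rw [← QuotientGroup.mk_mul, ← QuotientGroup.mk_mul, QuotientGroup.eq] at h1
    have h2 := hγ _ (mem_subgroupOf.1 h1)
    have h3 : z * x' = (x' * z) * ((x' * z)⁻¹ * (z * x')) := by group
    calc φ x' * φ z = φ (x' * z) := (map_mul _ _ _).symm
      _ = φ (x' * z) * φ ((x' * z)⁻¹ * (z * x')) := by rw [h2, mul_one]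
      _ = φ (z * x') := by rw [← map_mul, ← h3]
      _ = φ z * φ x' := map_mul _ _ _
  have hzp : φ z ^ p = 1 := by
    rw [← map_pow]
    have : z ^ p = 1 := Subtype.ext (by simpa using hspl _ hzH)
    rw [this, map_one]
  have hsum : ∀ i < p, ∑ j ∈ range p, (φ x' * φ z ^ i) ^ j = 0 := by
    intro i hi
    rw [← map_pow, ← map_mul]
    apply hnorm
    simpa [x'] using hcon i hi
  exact hzH (hβ z (rank_two_eq_one hp hA' (φ x') (φ z) hcomm hzp hsum))

end core

/-- A subgroup all of whose elements conjugate `A` into itself normalizes `A`. -/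
theorem le_normalizer_of_conj_mem' {C A : Subgroup G}
    (h : ∀ c ∈ C, ∀ x ∈ A, c * x * c⁻¹ ∈ A) : C ≤ normalizer (A : Set G) := by
  intro c hc
  rw [mem_normalizer_iff]
  intro x
  refine ⟨h c hc x, fun hx => ?_⟩
  have h1 := h c⁻¹ (C.inv_mem hc) _ hx
  have h2 : c⁻¹ * (c * x * c⁻¹) * c⁻¹⁻¹ = x := by group
  rwa [h2] at h1

/-- If `K` has `p`-power index then `K` together with a Sylow `p`-subgroup generates. -/
theorem sup_sylow_eq_top_of_index_dvd {L : Type*} [Group L] [Finite L] {p : ℕ} [Fact p.Prime]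
    (K : Subgroup L) (k : ℕ) (hK : K.index ∣ p ^ k) (S : Sylow p L) :
    K ⊔ (S : Subgroup L) = ⊤ := by
  have hp : p.Prime := Fact.out
  rw [← Subgroup.index_eq_one]
  have h1 : (K ⊔ (S : Subgroup L)).index ∣ K.index := Subgroup.index_dvd_of_le le_sup_left
  have h2 : (K ⊔ (S : Subgroup L)).index ∣ (S : Subgroup L).index :=
    Subgroup.index_dvd_of_le le_sup_right
  have h3 : ¬ p ∣ (S : Subgroup L).index := S.not_dvd_index
  obtain ⟨j, -, hj⟩ := (Nat.dvd_prime_pow hp).1 (h1.trans hK)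
  rw [hj] at h2 ⊢
  cases j with
  | zero => rfl
  | succ j => exact absurd ((dvd_pow_self p (Nat.succ_ne_zero j)).trans h2) h3

/-- **Hughes--Thompson**: if all elements outside the proper normal subgroup `H` have order `p`
and `G` is not a `p`-group, then `H` has index `p`. -/
theorem index_eq_prime [Finite G] {p : ℕ} (hp : p.Prime) (H : Subgroup G) [H.Normal]
    (hH : H ≠ ⊤) (hspl : ∀ g, g ∉ H → g ^ p = 1) (hG : ¬ IsPGroup p G) : H.index = p := by
  haveI : Fact p.Prime := ⟨hp⟩
  have hquot : IsPGroup p (G ⧸ H) := by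
    intro x
    obtain ⟨g, rfl⟩ := QuotientGroup.mk_surjective x
    refine ⟨1, ?_⟩
    rw [pow_one, ← QuotientGroup.mk_pow]
    by_cases hg : g ∈ H
    · exact (QuotientGroup.eq_one_iff _).2 (H.pow_mem hg p)
    · rw [hspl g hg]; rfl
  obtain ⟨k, hk⟩ := IsPGroup.iff_card.1 hquot
  have hidx : H.index = p ^ k := hk
  have hk0 : k ≠ 0 := by
    rintro rfl
    rw [pow_zero] at hidx
    exact hH (Subgroup.index_eq_one.1 hidx)
  obtain ⟨q, hq, hqG, hqp⟩ : ∃ q, q.Prime ∧ q ∣ Nat.card G ∧ q ≠ p := by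
    by_contra hcon
    push Not at hcon
    apply hG
    have := Nat.eq_prime_pow_of_unique_prime_dvd (Nat.card_pos.ne')
      (fun {d} hd hdvd => hcon d hd hdvd)
    exact IsPGroup.of_card this
  have hqH : q ∣ Nat.card H := by
    have h1 : Nat.card G = Nat.card H * H.index := (Subgroup.card_mul_index H).symm
    rw [h1, hidx] at hqG
    rcases (Nat.Prime.dvd_mul hq).1 hqG with h | h
    · exact h
    · exact absurd ((Nat.prime_dvd_prime_iff_eq hq hp).1 (hq.dvd_of_dvd_pow h)) hqp
  haveI : Fact q.Prime := ⟨hq⟩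
  obtain ⟨Q₀⟩ : Nonempty (Sylow q H) := inferInstance
  have hQ₀ : (Q₀ : Subgroup H) ≠ ⊥ := Sylow.ne_bot_of_dvd_card Q₀ hqH
  set Q : Subgroup G := (Q₀ : Subgroup H).map H.subtype with hQ
  have hQH : Q ≤ H := Subgroup.map_subtype_le _
  have hQq : IsPGroup q Q := Q₀.isPGroup'.map _
  set A : Subgroup G := Q ⊓ centralizer (Q : Set G) with hA
  haveI : IsMulCommutative A :=
    ⟨⟨fun a b => Subtype.ext ((mem_centralizer_iff.1 b.2.2) a a.2.1)⟩⟩
  have hAbot : A ≠ ⊥ := by
    haveI : Nontrivial (Q₀ : Subgroup H) := (Subgroup.nontrivial_iff_ne_bot _).2 hQ₀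
    haveI := Q₀.isPGroup'.center_nontrivial
    obtain ⟨⟨c, hc⟩, hc1⟩ := exists_ne (1 : center (Q₀ : Subgroup H))
    intro hbot
    have hmem : ((c : H) : G) ∈ A := by
      refine Subgroup.mem_inf.2 ⟨⟨(c : H), c.2, rfl⟩, ?_⟩
      rw [mem_centralizer_iff]
      rintro _ ⟨u, hu, rfl⟩
      have h1 := Subgroup.mem_center_iff.1 hc ⟨u, hu⟩
      have h2 := congrArg (fun t : (Q₀ : Subgroup H) => ((t : H) : G)) h1
      simpa using h2
    rw [hbot, mem_bot] at hmem
    apply hc1
    apply Subtype.ext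
    apply Subtype.ext
    apply Subtype.ext
    exact hmem
  have hAp : ∀ a ∈ A, a ^ p = 1 → a = 1 := by
    intro a ha hap
    obtain ⟨m, hm⟩ := hQq ⟨a, ha.1⟩
    have h1 : orderOf a ∣ q ^ m := orderOf_dvd_of_pow_eq_one (by simpa using congrArg Subtype.val hm)
    have h2 : orderOf a ∣ p := orderOf_dvd_of_pow_eq_one hap
    have h3 := Nat.dvd_gcd h1 h2
    have hc : Nat.gcd (q ^ m) p = 1 := Nat.Coprime.pow_left m ((Nat.coprime_primes hq hp).2 hqp)
    rw [hc, Nat.dvd_one, orderOf_eq_one_iff] at h3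
    exact h3
  have hfrat : normalizer (Q : Set G) ⊔ H = ⊤ := Sylow.normalizer_sup_eq_top Q₀
  set N := normalizer (Q : Set G) with hN
  obtain ⟨S₀⟩ : Nonempty (Sylow p N) := inferInstance
  set S : Subgroup G := (S₀ : Subgroup N).map N.subtype with hSdef
  have hSp : IsPGroup p S := S₀.isPGroup'.map _
  have hSN : S ≤ N := Subgroup.map_subtype_le _
  have hNA : N ≤ normalizer (A : Set G) := by
    apply le_normalizer_of_conj_mem'
    intro g hg a ha
    refine Subgroup.mem_inf.2 ⟨(mem_normalizer_iff.1 hg a).1 ha.1, ?_⟩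
    rw [mem_centralizer_iff]
    intro u hu
    have hu' : g⁻¹ * u * g⁻¹⁻¹ ∈ Q := (mem_normalizer_iff.1 (N.inv_mem hg) u).1 hu
    have h := (mem_centralizer_iff.1 ha.2) _ hu'
    calc u * (g * a * g⁻¹) = g * ((g⁻¹ * u * g⁻¹⁻¹) * a) * g⁻¹ := by group
      _ = g * (a * (g⁻¹ * u * g⁻¹⁻¹)) * g⁻¹ := by rw [h]
      _ = g * a * g⁻¹ * u := by group
  have hdecomp : ∀ g : G, ∃ h ∈ H, ∃ s ∈ S, g = h * s := by
    intro g
    have hg : g ∈ H ⊔ N := by rw [sup_comm, hfrat]; exact mem_top g
    have hg' : g ∈ (H : Set G) * (N : Set G) := by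
      rw [← Subgroup.normal_mul]; exact hg
    obtain ⟨h, hh, n, hn, rfl⟩ := Set.mem_mul.1 hg'
    have hidxN : (H.subgroupOf N).index ∣ p ^ k := by
      rw [← hidx]; exact Subgroup.relIndex_dvd_index_of_normal H N
    have htop := sup_sylow_eq_top_of_index_dvd (H.subgroupOf N) k hidxN S₀
    have hn' : (⟨n, hn⟩ : N) ∈ ((H.subgroupOf N : Subgroup N) : Set N) * ((S₀ : Subgroup N) : Set N) := by
      rw [← Subgroup.normal_mul, htop]; exact mem_top _
    obtain ⟨h₂, hh₂, s₂, hs₂, h2eq⟩ := Set.mem_mul.1 hn'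
    refine ⟨h * (h₂ : G), H.mul_mem hh (mem_subgroupOf.1 hh₂), (s₂ : G), ⟨s₂, hs₂, rfl⟩, ?_⟩
    have := congrArg Subtype.val h2eq
    simp only [Subgroup.coe_mul] at this
    rw [mul_assoc, this]
  have hSH : ¬ S ≤ H := by
    intro hle
    apply hH
    rw [eq_top_iff]; intro g _
    obtain ⟨h, hh, s, hs, rfl⟩ := hdecomp g
    exact H.mul_mem hh (hle hs)
  obtain ⟨z, hzS, hz⟩ := exists_generator H hspl A (inf_le_left.trans hQH) hAbot hAp S hSp
    (hSN.trans hNA) hSH
  have hle : H.index ≤ p := by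
    have hsurj : Function.Surjective
        (fun i : Fin p => (QuotientGroup.mk ((z ^ (i : ℕ))⁻¹) : G ⧸ H)) := by
      intro x
      obtain ⟨g, rfl⟩ := QuotientGroup.mk_surjective x
      obtain ⟨h, hh, s, hs, rfl⟩ := hdecomp g
      obtain ⟨i, hi, him⟩ := hz s hs
      refine ⟨⟨i, hi⟩, ?_⟩
      show (QuotientGroup.mk ((z ^ i)⁻¹) : G ⧸ H) = QuotientGroup.mk (h * s)
      rw [QuotientGroup.eq, inv_inv]
      apply Subgroup.Normal.mem_comm inferInstance
      rw [mul_assoc]
      exact H.mul_mem hh him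
    have := Nat.card_le_card_of_surjective _ hsurj
    rw [Nat.card_fin] at this
    exact this
  have hge : p ≤ H.index := by
    rw [hidx]
    calc p = p ^ 1 := (pow_one p).symm
      _ ≤ p ^ k := Nat.pow_le_pow_right hp.pos (Nat.one_le_iff_ne_zero.2 hk0)
  exact le_antisymm hle hge

end Cfsg.Agent.H74.Keg
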