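import Mathlib
import Cfsg.Prelude.Def_Transfer
import Cfsg.Agent.H40.PComp
import Cfsg.Agent.H74.KegelAct

/-!
# Auxiliary lemmas for Kegel's theorem (helper74)

* `hasNormalPComplement_of_isNilpotent`, `characteristic_of_normal_of_coprime`,
  `map_equiv_centralizer`, `map_equiv_center_of`;
* `le_centralizer_of_frobenius`: the Frobenius-partition argument.
-/

set_option autoImplicit false
namespace Cfsg.Agent.H74.Keg
open Finset Subgroup
open scoped IsMulCommutative Pointwise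

/-- A finite nilpotent group has a normal `q`-complement for every prime `q`. -/
theorem hasNormalPComplement_of_isNilpotent {L : Type*} [Group L] [Finite L]
    [hL : Group.IsNilpotent L] (q : ℕ) [Fact q.Prime] : Cfsg.HasNormalPComplement q L := by
  have hq : q.Prime := Fact.out
  obtain ⟨P⟩ : Nonempty (Sylow q L) := inferInstance
  by_cases hdvd : q ∣ Nat.card L
  · obtain ⟨e⟩ := ((Group.isNilpotent_of_finite_tfae (G := L)).out 0 4).1 hL
    let qf : (Nat.card L).primeFactors :=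
      ⟨q, Nat.mem_primeFactors.2 ⟨hq, hdvd, Nat.card_pos.ne'⟩⟩
    let φ : L →* ↥(P : Subgroup L) :=
      ((Pi.evalMonoidHom (fun P : Sylow q L => ↥(P : Subgroup L)) P).comp
        (Pi.evalMonoidHom (fun p : (Nat.card L).primeFactors =>
          ∀ P : Sylow (p : ℕ) L, ↥(P : Subgroup L)) qf)).comp e.symm.toMonoidHom
    have hsurj : Function.Surjective φ := by
      intro y
      classical
      refine ⟨e (Pi.mulSingle qf (Pi.mulSingle P y)), ?_⟩
      simp [φ]
    have hK : (Nat.card φ.ker).Coprime q := by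
      have h1 : φ.ker.index = Nat.card (P : Subgroup L) := by
        rw [Subgroup.index_ker, MonoidHom.range_eq_top.2 hsurj, Subgroup.card_top]
      have h2 : Nat.card φ.ker * φ.ker.index = Nat.card L := Subgroup.card_mul_index _
      rw [h1, Sylow.card_eq_multiplicity] at h2
      have h3 : Nat.card φ.ker = Nat.card L / q ^ (Nat.card L).factorization q :=
        (Nat.div_eq_of_eq_mul_left (pow_pos hq.pos _) h2.symm).symm
      rw [h3]
      exact (Nat.coprime_ordCompl hq Nat.card_pos.ne').symm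
    refine Cfsg.Agent.H40.hasNormalPComplement_of_normal_coprime φ.ker hK ?_
    intro g
    obtain ⟨k, hk⟩ := P.isPGroup' (φ g)
    exact ⟨k, by rw [MonoidHom.mem_ker, map_pow, hk]⟩
  · refine Cfsg.Agent.H40.hasNormalPComplement_of_normal_coprime ⊤ ?_ (fun g => ⟨0, mem_top _⟩)
    rw [Subgroup.card_top]
    exact ((Nat.Prime.coprime_iff_not_dvd hq).2 hdvd).symm

/-- A normal Hall subgroup is characteristic. -/
theorem characteristic_of_normal_of_coprime {L : Type*} [Group L] [Finite L] (K : Subgroup L)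
    [K.Normal] (h : (Nat.card K).Coprime K.index) : K.Characteristic := by
  rw [Subgroup.characteristic_iff_map_le]
  intro ϕ
  rintro _ ⟨k, hk, rfl⟩
  show ϕ k ∈ K
  rw [← QuotientGroup.eq_one_iff]
  have h0 : orderOf (ϕ k) = orderOf k := MulEquiv.orderOf_eq ϕ k
  have h2 : orderOf (QuotientGroup.mk (ϕ k) : L ⧸ K) ∣ orderOf (ϕ k) :=
    orderOf_map_dvd (QuotientGroup.mk' K) (ϕ k)
  have h3 : orderOf k ∣ Nat.card K := by
    have := orderOf_dvd_natCard (⟨k, hk⟩ : K)
    rwa [Subgroup.orderOf_mk] at this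
  have h1 : orderOf (QuotientGroup.mk (ϕ k) : L ⧸ K) ∣ Nat.card K := h2.trans (h0 ▸ h3)
  have h4 : orderOf (QuotientGroup.mk (ϕ k) : L ⧸ K) ∣ K.index := by
    rw [Subgroup.index_eq_card]; exact orderOf_dvd_natCard _
  have h5 := Nat.dvd_gcd h1 h4
  rw [Nat.Coprime.gcd_eq_one h, Nat.dvd_one, orderOf_eq_one_iff] at h5
  exact h5

/-- Image of a centralizer under an automorphism. -/
theorem map_equiv_centralizer {K : Type*} [Group K] (ψ : K ≃* K) (Z : Subgroup K) :
    (centralizer (Z : Set K)).map ψ.toMonoidHom =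
      centralizer ((Z.map ψ.toMonoidHom : Subgroup K) : Set K) := by
  ext x
  constructor
  · rintro ⟨c, hc, rfl⟩
    rw [mem_centralizer_iff]
    rintro _ ⟨z, hz, rfl⟩
    have := (mem_centralizer_iff.1 hc) z hz
    show ψ z * ψ c = ψ c * ψ z
    rw [← map_mul, ← map_mul, this]
  · intro hx
    refine Subgroup.mem_map.2 ⟨ψ.symm x, ?_, by simp⟩
    rw [mem_centralizer_iff]
    intro z hz
    have := (mem_centralizer_iff.1 hx) (ψ z) ⟨z, hz, rfl⟩
    apply ψ.injective
    rw [map_mul, map_mul, ψ.apply_symm_apply]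
    exact this

/-- An automorphism fixing `Q` fixes `Z(Q) = Q ⊓ C(Q)`. -/
theorem map_equiv_center_of {K : Type*} [Group K] (ψ : K ≃* K) (Q : Subgroup K)
    (hQ : Q.map ψ.toMonoidHom = Q) :
    (Q ⊓ centralizer (Q : Set K)).map ψ.toMonoidHom = Q ⊓ centralizer (Q : Set K) := by
  have h1 := map_equiv_centralizer ψ Q
  rw [hQ] at h1
  rw [Subgroup.map_inf _ _ _ ψ.injective, h1]
  show Q.map ψ.toMonoidHom ⊓ _ = _
  rw [hQ]

variable {G : Type*} [Group G]

/-- In a finite group, an element conjugating `L` into itself normalizes `L`. -/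
theorem mem_normalizer_of_conj_mem [Finite G] {y : G} {L : Subgroup G}
    (h : ∀ l ∈ L, y * l * y⁻¹ ∈ L) : y ∈ normalizer (L : Set G) := by
  have hpow : ∀ k : ℕ, ∀ l ∈ L, y ^ k * l * (y ^ k)⁻¹ ∈ L := by
    intro k
    induction k with
    | zero => intro l hl; simpa using hl
    | succ k ih =>
      intro l hl
      have h1 := h _ (ih l hl)
      have h2 : y * (y ^ k * l * (y ^ k)⁻¹) * y⁻¹ = y ^ (k + 1) * l * (y ^ (k + 1))⁻¹ := by
        rw [pow_succ']; group
      rwa [h2] at h1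
  rw [mem_normalizer_iff]
  intro l
  refine ⟨h l, fun hl => ?_⟩
  have h1 := hpow (orderOf y - 1) _ hl
  have hy : y ^ (orderOf y - 1) = y⁻¹ := by
    rw [eq_inv_iff_mul_eq_one, ← pow_succ, Nat.sub_add_cancel (orderOf_pos y), pow_orderOf_eq_one]
  rw [hy] at h1
  have h2 : y⁻¹ * (y * l * y⁻¹) * y⁻¹⁻¹ = l := by group
  rwa [h2] at h1

/-- If `y^p = 1`, `p ∤ k` and `y^k ∈ H` then `y ∈ H`. -/
theorem mem_of_pow_mem_of_not_dvd {p : ℕ} (hp : p.Prime) {y : G} (hyp : y ^ p = 1) {k : ℕ}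
    (hk : ¬ p ∣ k) (H : Subgroup G) (h : y ^ k ∈ H) : y ∈ H := by
  have hcop : Nat.Coprime k p := ((Nat.Prime.coprime_iff_not_dvd hp).2 hk).symm
  obtain ⟨m, -, hm⟩ := Nat.exists_mul_mod_eq_one_of_coprime hcop hp.one_lt
  have h1 : y ^ (k * m) = y := by
    conv_lhs => rw [← Nat.div_add_mod (k * m) p, pow_add, pow_mul, hyp, one_pow, one_mul, hm, pow_one]
  rw [← h1, pow_mul]
  exact H.pow_mem h m

theorem eq_one_of_pow_eq_one_of_coprime {a : G} {m n : ℕ} (h1 : a ^ m = 1) (h2 : a ^ n = 1)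
    (hc : Nat.Coprime m n) : a = 1 := by
  have := pow_gcd_eq_one.2 ⟨h1, h2⟩
  rwa [Nat.Coprime.gcd_eq_one hc, pow_one] at this

/-- The Frobenius-partition argument: a `q`-subgroup `Q ≤ H` normalized by some `y ∉ H`
centralizes every abelian normal subgroup `N ≤ H` of exponent `r` coprime to `q`. -/
theorem le_centralizer_of_frobenius {p : ℕ} (hp : p.Prime) (H : Subgroup G)
    (hspl : ∀ g, g ∉ H → g ^ p = 1)
    (N : Subgroup G) [N.Normal] [IsMulCommutative N] (hNH : N ≤ H) {r : ℕ}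
    (hNr : ∀ a ∈ N, a ^ r = 1)
    (Q : Subgroup G) [Finite Q] (hQH : Q ≤ H) {q : ℕ} [Fact q.Prime] (hQq : IsPGroup q Q)
    (hqp : Nat.Coprime q p) (hqr : Nat.Coprime q r)
    (y : G) (hyQ : y ∈ normalizer (Q : Set G)) (hyH : y ∉ H) : Q ≤ centralizer (N : Set G) := by
  classical
  have hN : ∀ g : G, g ∈ normalizer (N : Set G) := fun g => by
    rw [normalizer_eq_top]; exact mem_top g
  haveI : Fintype Q := Fintype.ofFinite Q
  obtain ⟨k, hk⟩ := IsPGroup.iff_card.1 hQq
  have hcardQ : Fintype.card Q = q ^ k := by rw [← Nat.card_eq_fintype_card]; exact hk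
  have hyp : y ^ p = 1 := hspl y hyH
  have hyi : ∀ i, 0 < i → i < p → y ^ i ∉ H := fun i h0 hi hmem =>
    hyH (mem_of_pow_mem_of_not_dvd hp hyp (Nat.not_dvd_of_pos_of_lt h0 hi) H hmem)
  let lam : ↥Q →* AddMonoid.End (Additive N) :=
    (cEnd N).comp (inclusion (fun g _ => hN g : Q ≤ normalizer (N : Set G)))
  let y' : ↥(normalizer (N : Set G)) := ⟨y, hN y⟩
  have hη : ∑ i ∈ range p, cEnd N y' ^ i = 0 := norm_eq_zero_of_notMem H hspl N hNH y' hyH
  have hβ : ∀ i, 0 < i → i < p → ∃ β : ↥Q → ↥Q, Function.Bijective β ∧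
      ∀ l, lam l * cEnd N y' ^ i * lam l⁻¹ = lam (β l) * cEnd N y' ^ i := by
    intro i h0 hi
    have hmemQ : ∀ l : ↥Q, (l : G) * (y ^ i * (l : G)⁻¹ * (y ^ i)⁻¹) ∈ Q := fun l =>
      Q.mul_mem l.2 ((mem_normalizer_iff.1 (Subgroup.pow_mem _ hyQ i) _).1 (Q.inv_mem l.2))
    refine ⟨fun l => ⟨_, hmemQ l⟩, ?_, ?_⟩
    · apply Finite.injective_iff_bijective.1
      intro l m hlm
      have h1 : (l : G) * (y ^ i * (l : G)⁻¹ * (y ^ i)⁻¹) = (m : G) * (y ^ i * (m : G)⁻¹ * (y ^ i)⁻¹) :=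
        congrArg Subtype.val hlm
      have hcomm : y ^ i * ((m : G)⁻¹ * l) = ((m : G)⁻¹ * l) * y ^ i := by
        have h2 : (m : G)⁻¹ * ((l : G) * (y ^ i * (l : G)⁻¹ * (y ^ i)⁻¹)) * (y ^ i * l) =
            (m : G)⁻¹ * ((m : G) * (y ^ i * (m : G)⁻¹ * (y ^ i)⁻¹)) * (y ^ i * l) := by rw [h1]
        have h3 : (m : G)⁻¹ * ((l : G) * (y ^ i * (l : G)⁻¹ * (y ^ i)⁻¹)) * (y ^ i * l) =
            ((m : G)⁻¹ * l) * y ^ i := by group
        have h4 : (m : G)⁻¹ * ((m : G) * (y ^ i * (m : G)⁻¹ * (y ^ i)⁻¹)) * (y ^ i * l) =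
            y ^ i * ((m : G)⁻¹ * l) := by group
        rw [h3, h4] at h2
        exact h2.symm
      have huQ : (m : G)⁻¹ * l ∈ Q := Q.mul_mem (Q.inv_mem m.2) l.2
      have hnot : y ^ i * ((m : G)⁻¹ * l) ∉ H := fun hmem => hyi i h0 hi (by
        have := H.mul_mem hmem (H.inv_mem (hQH huQ))
        rwa [mul_inv_cancel_right] at this)
      have h5 := hspl _ hnot
      rw [(show Commute (y ^ i) ((m : G)⁻¹ * l) from hcomm).mul_pow, ← pow_mul, mul_comm i p,
        pow_mul, hyp, one_pow, one_mul] at h5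
      obtain ⟨j, hj⟩ := hQq ⟨_, huQ⟩
      have h6 : ((m : G)⁻¹ * l) ^ (q ^ j) = 1 := by simpa using congrArg Subtype.val hj
      have h7 := eq_one_of_pow_eq_one_of_coprime h6 h5 (Nat.Coprime.pow_left j hqp)
      apply Subtype.ext
      rw [inv_mul_eq_one] at h7
      exact h7.symm
    · intro l
      show cEnd N _ * cEnd N y' ^ i * cEnd N _ = cEnd N _ * cEnd N y' ^ i
      rw [← map_pow, ← map_mul, ← map_mul, ← map_mul]
      congr 1
      apply Subtype.ext
      simp only [Subgroup.coe_mul, Subgroup.coe_pow, coe_inclusion, InvMemClass.coe_inv, y']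
      group
  intro l hl
  have key := frob_partition_mul lam (cEnd N y') hp.pos hη hβ ⟨l, hl⟩
  rw [mem_centralizer_iff]
  intro u hu
  set v : Additive N := Additive.ofMul ⟨u, hu⟩ with hv
  have h1 : (Fintype.card Q) • (lam ⟨l, hl⟩ v - v) = 0 := by
    have h2 := congrArg (fun f : AddMonoid.End (Additive N) => f v) key
    have h3 : ((lam ⟨l, hl⟩ - 1) * (Fintype.card Q : AddMonoid.End (Additive N))) v =
        (Fintype.card Q) • (lam ⟨l, hl⟩ v - v) := by
      show (lam ⟨l, hl⟩ - 1) ((Fintype.card Q : AddMonoid.End (Additive N)) v) = _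
      rw [AddMonoid.End.natCast_apply, map_nsmul]; rfl
    rw [← h3]; exact h2
  have h4 : r • (lam ⟨l, hl⟩ v - v) = 0 := by
    apply Additive.toMul.injective
    apply Subtype.ext
    have := hNr _ (Additive.toMul (lam ⟨l, hl⟩ v - v)).2
    simpa using this
  have h5 : lam ⟨l, hl⟩ v - v = 0 := by
    have ha := addOrderOf_dvd_of_nsmul_eq_zero h1
    have hb := addOrderOf_dvd_of_nsmul_eq_zero h4
    have hc := Nat.dvd_gcd ha hb
    rw [hcardQ, Nat.Coprime.gcd_eq_one (Nat.Coprime.pow_left k hqr), Nat.dvd_one] at hc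
    exact AddMonoid.addOrderOf_eq_one_iff.1 hc
  have h6 : lam ⟨l, hl⟩ v = v := sub_eq_zero.1 h5
  have h7 : l * u * l⁻¹ = u := by
    have := cEnd_coe N (inclusion (fun g _ => hN g : Q ≤ normalizer (N : Set G)) ⟨l, hl⟩) v
    have h9 : l * u * l⁻¹ = ((Additive.toMul (lam ⟨l, hl⟩ v) : N) : G) := this.symm
    rw [h9, h6]; rfl
  calc u * l = (l * u * l⁻¹) * l := by rw [h7]
    _ = l * u := by group

end Cfsg.Agent.H74.Keg
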