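import Mathlib
import Cfsg.Agent.H74.KegelPre

/-!
# Kegel's theorem: the case of an abelian minimal normal subgroup (helper74)
-/

set_option autoImplicit false
namespace Cfsg.Agent.H74.Keg
open Finset Subgroup
open scoped IsMulCommutative Pointwise

/-- Kegel's theorem, the case of an abelian minimal normal subgroup. -/
theorem kegel_abelian_case {G : Type*} [Group G] [Finite G] {p : ℕ} (hp : p.Prime)
    (H : Subgroup G) [H.Normal] (hidx : H.index = p) (hspl : ∀ g, g ∉ H → g ^ p = 1)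
    (N : Subgroup G) [hNn : N.Normal] (hNH : N ≤ H) (hNbot : N ≠ ⊥)
    (hmin : ∀ N' : Subgroup G, N'.Normal → N' ≤ H → N' ≠ ⊥ → N ≤ N')
    (hab : ∀ a ∈ N, ∀ b ∈ N, a * b = b * a)
    (hquot : Group.IsNilpotent (H.map (QuotientGroup.mk' N))) : Group.IsNilpotent H := by
  haveI : Fact p.Prime := ⟨hp⟩
  haveI : IsMulCommutative N := ⟨⟨fun a b => Subtype.ext (hab a a.2 b b.2)⟩⟩
  have hHtop : H ≠ ⊤ := by
    rintro rfl
    rw [Subgroup.index_top] at hidx
    exact hp.one_lt.ne hidx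
  have hN : ∀ g : G, g ∈ normalizer (N : Set G) := fun g => by
    rw [normalizer_eq_top]; exact mem_top g
  -- `N` has prime exponent `r`
  obtain ⟨r, hr, hNr⟩ : ∃ r, r.Prime ∧ ∀ a ∈ N, a ^ r = 1 := by
    have hcard : Nat.card N ≠ 1 := fun h => hNbot (Subgroup.card_eq_one.1 h)
    obtain ⟨r, hr, hrdvd⟩ := Nat.exists_prime_and_dvd hcard
    haveI : Fact r.Prime := ⟨hr⟩
    obtain ⟨a₀, ha₀⟩ := exists_prime_orderOf_dvd_card' r hrdvd
    let N' : Subgroup G :=
      { carrier := {a | a ∈ N ∧ a ^ r = 1}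
        mul_mem' := by
          rintro a b ⟨ha, ha'⟩ ⟨hb, hb'⟩
          exact ⟨N.mul_mem ha hb, by
            rw [(show Commute a b from hab a ha b hb).mul_pow, ha', hb', one_mul]⟩
        one_mem' := ⟨N.one_mem, one_pow r⟩
        inv_mem' := by
          rintro a ⟨ha, ha'⟩
          exact ⟨N.inv_mem ha, by rw [inv_pow, ha', inv_one]⟩ }
    have hN'n : N'.Normal := ⟨fun a ha g => ⟨hNn.conj_mem a ha.1 g, by
      rw [conj_pow, ha.2, mul_one, mul_inv_cancel]⟩⟩
    have hN'H : N' ≤ H := fun a ha => hNH ha.1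
    have hN'bot : N' ≠ ⊥ := by
      intro hbot
      have hmem : (a₀ : G) ∈ N' := ⟨a₀.2, by
        rw [← Subgroup.coe_pow, ← ha₀, pow_orderOf_eq_one]; rfl⟩
      rw [hbot, mem_bot] at hmem
      have h1 : a₀ = 1 := Subtype.ext hmem
      rw [h1, orderOf_one] at ha₀
      exact hr.one_lt.ne ha₀
    exact ⟨r, hr, fun a ha => (hmin N' hN'n hN'H hN'bot ha).2⟩
  haveI : Fact r.Prime := ⟨hr⟩
  obtain ⟨a₁, ha₁N, ha₁⟩ : ∃ a ∈ N, a ≠ 1 := by
    by_contra hcon
    push Not at hcon
    exact hNbot ((Subgroup.eq_bot_iff_forall _).2 hcon)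
  -- `C = C_H(N)` is nilpotent
  set C : Subgroup G := H ⊓ centralizer (N : Set G) with hC
  haveI hCn : C.Normal := inferInstance
  haveI hCnil : Group.IsNilpotent C := by
    let f : ↥C →* ↥(H.map (QuotientGroup.mk' N)) :=
      ((QuotientGroup.mk' N).subgroupMap H).comp (Subgroup.inclusion (inf_le_left : C ≤ H))
    haveI := hquot
    refine Subgroup.isNilpotent_of_ker_le_center f ?_
    intro x hx
    rw [MonoidHom.mem_ker] at hx
    have hxN : (x : G) ∈ N := by
      have h1 : (QuotientGroup.mk' N) (x : G) = 1 := congrArg Subtype.val hx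
      exact (QuotientGroup.eq_one_iff _).1 h1
    rw [Subgroup.mem_center_iff]
    intro y
    apply Subtype.ext
    exact ((mem_centralizer_iff.1 (Subgroup.mem_inf.1 y.2).2) _ hxN).symm
  -- `C` is an `r`-group
  have hCr : ∀ q : ℕ, q.Prime → q ≠ r → ¬ q ∣ Nat.card C := by
    intro q hq hqr hqC
    haveI : Fact q.Prime := ⟨hq⟩
    obtain ⟨Sq⟩ : Nonempty (Sylow q C) := inferInstance
    have hSqbot : (Sq : Subgroup C) ≠ ⊥ := Sylow.ne_bot_of_dvd_card Sq hqC
    haveI : (Sq : Subgroup C).Normal := inferInstance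
    haveI : (Sq : Subgroup C).Characteristic := Sylow.characteristic_of_normal Sq inferInstance
    have hDn : ((Sq : Subgroup C).map C.subtype).Normal := inferInstance
    have hDH : (Sq : Subgroup C).map C.subtype ≤ H := (Subgroup.map_subtype_le _).trans inf_le_left
    have hDbot : (Sq : Subgroup C).map C.subtype ≠ ⊥ := fun h =>
      hSqbot ((Subgroup.map_eq_bot_iff_of_injective _ C.subtype_injective).1 h)
    obtain ⟨s, hs, hsa⟩ := hmin _ hDn hDH hDbot ha₁N
    obtain ⟨m, hm⟩ := Sq.isPGroup' ⟨s, hs⟩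
    have h1 : a₁ ^ (q ^ m) = 1 := by
      rw [← hsa]
      have := congrArg (fun t : (Sq : Subgroup C) => ((t : C) : G)) hm
      simpa using this
    exact ha₁ (eq_one_of_pow_eq_one_of_coprime h1 (hNr a₁ ha₁N)
      (Nat.Coprime.pow_left m ((Nat.coprime_primes hq hr).2 hqr)))
  -- Sylow `q`-subgroups of `H` for `q ∉ {r, p}` are trivial
  have hC2 : ∀ q : ℕ, q.Prime → q ≠ r → q ≠ p → ¬ q ∣ Nat.card H := by
    intro q hq hqr hqp hqH
    haveI : Fact q.Prime := ⟨hq⟩
    obtain ⟨Q₀⟩ : Nonempty (Sylow q H) := inferInstance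
    have hQ₀ : (Q₀ : Subgroup H) ≠ ⊥ := Sylow.ne_bot_of_dvd_card Q₀ hqH
    set Q : Subgroup G := (Q₀ : Subgroup H).map H.subtype with hQ
    have hQH : Q ≤ H := Subgroup.map_subtype_le _
    have hQq : IsPGroup q Q := Q₀.isPGroup'.map _
    have hQbot : Q ≠ ⊥ := fun h =>
      hQ₀ ((Subgroup.map_eq_bot_iff_of_injective _ H.subtype_injective).1 h)
    have hfrat : normalizer (Q : Set G) ⊔ H = ⊤ := Sylow.normalizer_sup_eq_top Q₀
    obtain ⟨y, hyN, hyH⟩ : ∃ y ∈ normalizer (Q : Set G), y ∉ H := by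
      by_contra hcon
      push Not at hcon
      apply hHtop
      rw [← hfrat]
      exact (sup_eq_right.2 hcon).symm
    have hQC : Q ≤ centralizer (N : Set G) :=
      le_centralizer_of_frobenius hp H hspl N hNH hNr Q hQH hQq
        ((Nat.coprime_primes hq hp).2 hqp) ((Nat.coprime_primes hq hr).2 hqr) y hyN hyH
    obtain ⟨k, hk⟩ := IsPGroup.iff_card.1 hQq
    have hk0 : k ≠ 0 := by
      rintro rfl
      rw [pow_zero] at hk
      exact hQbot (Subgroup.card_eq_one.1 hk)
    have h1 : Nat.card Q ∣ Nat.card C := Subgroup.card_dvd_of_le (le_inf hQH hQC)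
    rw [hk] at h1
    exact hCr q hq hqr ((dvd_pow_self q hk0).trans h1)
  -- if `r ≠ p` then `p ∤ |H|`
  have hC3 : r ≠ p → ¬ p ∣ Nat.card H := by
    intro hrp hpH
    obtain ⟨P₀⟩ : Nonempty (Sylow p H) := inferInstance
    have hP₀ : (P₀ : Subgroup H) ≠ ⊥ := Sylow.ne_bot_of_dvd_card P₀ hpH
    obtain ⟨P, hP⟩ := (P₀.isPGroup'.map H.subtype).exists_le_sylow
    have hPH : ¬ (P : Subgroup G) ≤ H := by
      intro hle
      have htop := sup_sylow_eq_top_of_index_dvd H 1 (by rw [hidx, pow_one]) P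
      rw [sup_eq_left.2 hle] at htop
      exact hHtop htop
    obtain ⟨x, hxP, hxH⟩ : ∃ x ∈ (P : Subgroup G), x ∉ H := by
      by_contra hcon
      push Not at hcon
      exact hPH hcon
    have hM : (H.subgroupOf (P : Subgroup G)) ≠ ⊥ := by
      intro hbot
      apply hP₀
      rw [eq_bot_iff]
      intro t ht
      have h1 : (⟨(t : G), hP ⟨t, ht, rfl⟩⟩ : (P : Subgroup G)) ∈ H.subgroupOf (P : Subgroup G) :=
        mem_subgroupOf.2 t.2
      rw [hbot, mem_bot] at h1
      rw [mem_bot]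
      have h2 : (t : G) = 1 := congrArg Subtype.val h1
      exact Subtype.ext h2
    obtain ⟨w, hwH, hwc, hw1⟩ :=
      Cfsg.Agent.H38.exists_mem_center_of_normal_ne_bot P.isPGroup' (H.subgroupOf P) hM
    obtain ⟨m, hm1, hmp⟩ := exists_pow_ne_one_pow_eq_one w (P.isPGroup' w) hw1
    set z : G := ((w ^ m : (P : Subgroup G)) : G) with hz
    have hzH : z ∈ H := mem_subgroupOf.1 (Subgroup.pow_mem _ hwH m)
    have hz1 : z ≠ 1 := fun h => hm1 (Subtype.ext h)
    have hzp : z ^ p = 1 := by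
      have h1 := congrArg Subtype.val hmp
      rw [Subgroup.coe_pow] at h1
      exact h1
    have hzx : x * z = z * x := by
      have h1 := Subgroup.mem_center_iff.1 (Subgroup.pow_mem _ hwc m) ⟨x, hxP⟩
      exact congrArg Subtype.val h1
    set ξ := cEnd N ⟨x, hN x⟩ with hξ
    set ζ := cEnd N ⟨z, hN z⟩ with hζ
    have hcomm : Commute ξ ζ := by
      show ξ * ζ = ζ * ξ
      rw [hξ, hζ, ← map_mul, ← map_mul]
      congr 1
      exact Subtype.ext hzx
    have hζp : ζ ^ p = 1 := by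
      rw [hζ, ← map_pow]
      have h1 : (⟨z, hN z⟩ : normalizer (N : Set G)) ^ p = 1 := Subtype.ext (by simpa using hzp)
      rw [h1, map_one]
    have hsum : ∀ i < p, ∑ j ∈ range p, (ξ * ζ ^ i) ^ j = 0 := by
      intro i _
      rw [hξ, hζ, ← map_pow, ← map_mul]
      apply norm_eq_zero_of_notMem H hspl N hNH
      intro hmem
      apply hxH
      have h2 : z ^ i ∈ H := H.pow_mem hzH i
      have h3 := H.mul_mem hmem (H.inv_mem h2)
      simpa using h3
    have hA' : ∀ a : Additive N, p • a = 0 → a = 0 := by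
      intro a ha
      have h1 : ((Additive.toMul a : N) : G) ^ p = 1 := by
        have := congrArg (fun t : Additive N => ((Additive.toMul t : N) : G)) ha
        simpa using this
      have h2 := eq_one_of_pow_eq_one_of_coprime h1 (hNr _ (Additive.toMul a).2)
        ((Nat.coprime_primes hp hr).2 (Ne.symm hrp))
      exact Additive.toMul.injective (Subtype.ext h2)
    have hζ1 := rank_two_eq_one hp hA' ξ ζ hcomm hζp hsum
    have hzC : z ∈ C := Subgroup.mem_inf.2 ⟨hzH, (cEnd_eq_one_iff N ⟨z, hN z⟩).1 hζ1⟩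
    have hord : orderOf (⟨z, hzC⟩ : C) = p := by
      rw [Subgroup.orderOf_mk]
      exact orderOf_eq_prime hzp hz1
    exact hCr p hp (Ne.symm hrp) (hord ▸ orderOf_dvd_natCard _)
  -- `H` is an `r`-group
  have hall : ∀ q : ℕ, q.Prime → q ∣ Nat.card H → q = r := by
    intro q hq hqH
    by_contra hqr
    by_cases hqp : q = p
    · subst hqp
      exact hC3 (Ne.symm hqr) hqH
    · exact hC2 q hq hqr hqp hqH
  have hHr : IsPGroup r H := IsPGroup.of_card
    (Nat.eq_prime_pow_of_unique_prime_dvd Nat.card_pos.ne' (fun {d} hd hdvd => hall d hd hdvd))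
  exact hHr.isNilpotent

end Cfsg.Agent.H74.Keg
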