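import Mathlib
import Cfsg.Agent.H74.KegelAb
import Cfsg.Agent.H11.Cores
import Cfsg.Agent.H77.ThompsonOracles

/-!
# Kegel's theorem on splitting automorphisms of prime order (helper74)

`kegel`: if `H ⊴ G` has index `p` and every element of `G` outside `H` has order `p`, then `H`
is nilpotent -- modulo a normal `p`-complement criterion for odd primes, taken in the form of
helper77's `Cfsg.Agent.H77.Fpf.Oracle2` (instantiated by Thompson's or Glauberman--Thompson's
theorem).  `hughes_thompson_kegel`: the Hughes--Thompson--Kegel theorem on `H_p(G)`.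
-/

set_option autoImplicit false
namespace Cfsg.Agent.H74.Keg
open Finset Subgroup
open scoped IsMulCommutative Pointwise

universe u

/-- Kegel's theorem, the case where `H` is a minimal normal subgroup of `G`. -/
theorem kegel_nonabelian_case {G : Type u} [Group G] [Finite G] {p : ℕ}
    (hp : p.Prime) (H : Subgroup G) [H.Normal] (hT : Cfsg.Agent.H77.Fpf.Oracle2 H)
    (hidx : H.index = p)
    (hsub : ∀ (L : Subgroup G) (y : G), L ≤ H → L ≠ H → y ∉ H →
      (∀ l ∈ L, y * l * y⁻¹ ∈ L) → Group.IsNilpotent L)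
    (hmin : ∀ N' : Subgroup G, N'.Normal → N' ≤ H → N' ≠ ⊥ → H ≤ N') : Group.IsNilpotent H := by
  by_contra hnil
  have hHtop : H ≠ ⊤ := by
    rintro rfl
    rw [Subgroup.index_top] at hidx
    exact hp.one_lt.ne hidx
  -- a subgroup of `H` equal to `⊤` as soon as its image contains `H`
  have htop_of_le : ∀ M : Subgroup H, H ≤ M.map H.subtype → M = ⊤ := by
    intro M hle
    rw [eq_top_iff]
    intro x _
    obtain ⟨x', hx', hxe⟩ := hle x.2
    have h1 : x' = x := Subtype.ext hxe
    rwa [← h1]
  -- invariant proper subgroups of `H` are nilpotent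
  have hsub' : ∀ (L : Subgroup H) (y : G), y ∉ H → L ≠ ⊤ →
      L.map (MulAut.conjNormal y : H ≃* H).toMonoidHom = L → Group.IsNilpotent L := by
    intro L y hy hL hψ
    have h1 : Group.IsNilpotent (L.map H.subtype) := by
      apply hsub (L.map H.subtype) y (Subgroup.map_subtype_le _) _ hy
      · rintro _ ⟨l, hl, rfl⟩
        refine ⟨(MulAut.conjNormal y : H ≃* H) l, ?_, ?_⟩
        · rw [← hψ]; exact Subgroup.mem_map_of_mem _ hl
        · simp [MulAut.conjNormal_apply]
      · intro heq
        exact hL (htop_of_le L heq.ge)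
    haveI := h1
    exact Group.nilpotent_of_mulEquiv (L.equivMapOfInjective H.subtype H.subtype_injective).symm
  -- an odd prime divisor `q` of `|H|`
  obtain ⟨q, hq, hq2, hqH⟩ : ∃ q, q.Prime ∧ q ≠ 2 ∧ q ∣ Nat.card H := by
    by_contra hcon
    push Not at hcon
    apply hnil
    haveI : Fact (Nat.Prime 2) := ⟨Nat.prime_two⟩
    have h2 : IsPGroup 2 H := IsPGroup.of_card
      (Nat.eq_prime_pow_of_unique_prime_dvd Nat.card_pos.ne' (fun {d} hd hdvd => by
        by_contra h; exact hcon d hd h hdvd))
    exact h2.isNilpotent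
  haveI : Fact q.Prime := ⟨hq⟩
  obtain ⟨Q₀⟩ : Nonempty (Sylow q H) := inferInstance
  have hQ₀ : (Q₀ : Subgroup H) ≠ ⊥ := Sylow.ne_bot_of_dvd_card Q₀ hqH
  have hfrat : normalizer (((Q₀ : Subgroup H).map H.subtype : Subgroup G) : Set G) ⊔ H = ⊤ :=
    Sylow.normalizer_sup_eq_top Q₀
  obtain ⟨y, hyN, hyH⟩ : ∃ y ∈ normalizer (((Q₀ : Subgroup H).map H.subtype : Subgroup G) : Set G),
      y ∉ H := by
    by_contra hcon
    push Not at hcon
    apply hHtop
    rw [← hfrat]
    exact (sup_eq_right.2 hcon).symm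
  set ψ : H ≃* H := MulAut.conjNormal y with hψ
  have hψQ : (Q₀ : Subgroup H).map ψ.toMonoidHom = Q₀ := by
    apply Subgroup.eq_of_le_of_card_ge
    · rintro _ ⟨x, hx, rfl⟩
      have h1 : y * (x : G) * y⁻¹ ∈ (Q₀ : Subgroup H).map H.subtype :=
        (mem_normalizer_iff.1 hyN _).1 ⟨x, hx, rfl⟩
      obtain ⟨x', hx', hxe⟩ := h1
      have hxe' : (x' : G) = y * (x : G) * y⁻¹ := hxe
      have h2 : ψ x = x' := Subtype.ext (by rw [hxe']; simp [hψ, MulAut.conjNormal_apply])
      show ψ x ∈ (Q₀ : Subgroup H)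
      rw [h2]; exact hx'
    · exact (Subgroup.card_map_of_injective (K := (Q₀ : Subgroup H)) (f := ψ.toMonoidHom)
        ψ.injective).ge
  have hψQ' : ∀ x ∈ (Q₀ : Subgroup H), ψ x ∈ (Q₀ : Subgroup H) := fun x hx => by
    rw [← hψQ]; exact Subgroup.mem_map_of_mem _ hx
  obtain ⟨W₁, W₂, hW₁bot, hW₁Q, hW₂bot, hW₂Q, hWψ, hWT⟩ := hT q hq2 Q₀ hQ₀
  have hψW₁ : W₁.map ψ.toMonoidHom = W₁ :=
    Cfsg.Agent.H77.Fpf.map_eq_of_invariant ψ W₁ (hWψ ψ hψQ').1
  have hψW₂ : W₂.map ψ.toMonoidHom = W₂ :=
    Cfsg.Agent.H77.Fpf.map_eq_of_invariant ψ W₂ (hWψ ψ hψQ').2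
  set L₁ : Subgroup H := normalizer (W₁ : Set H) with hL₁
  have hψL₁ : L₁.map ψ.toMonoidHom = L₁ := by
    rw [hL₁, Subgroup.map_equiv_normalizer_eq, hψW₁]
  have hL₁top : L₁ ≠ ⊤ := by
    intro htop
    haveI : W₁.Normal := normalizer_eq_top_iff.1 htop
    have hJq : IsPGroup q W₁ := Q₀.isPGroup'.to_le hW₁Q
    have hJcore : W₁ ≤ Cfsg.pCore q H := le_sSup ⟨inferInstance, hJq⟩
    haveI := Cfsg.Agent.H11.pCore_characteristic (G := H) q
    have hcn : ((Cfsg.pCore q H).map H.subtype).Normal := inferInstance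
    have hcbot : (Cfsg.pCore q H).map H.subtype ≠ ⊥ := by
      intro h
      have h1 := (Subgroup.map_eq_bot_iff_of_injective _ H.subtype_injective).1 h
      rw [h1, le_bot_iff] at hJcore
      exact hW₁bot hJcore
    have hcore_top : Cfsg.pCore q H = ⊤ :=
      htop_of_le _ (hmin _ hcn (Subgroup.map_subtype_le _) hcbot)
    have hHq : IsPGroup q H := by
      have h1 := Cfsg.Agent.H11.isPGroup_pCore (G := H) q
      rw [hcore_top] at h1
      exact h1.of_equiv Subgroup.topEquiv
    exact hnil hHq.isNilpotent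
  haveI hL₁nil : Group.IsNilpotent L₁ := hsub' L₁ y hyH hL₁top hψL₁
  set L₂ : Subgroup H := centralizer (W₂ : Set H) with hL₂
  have hψL₂ : L₂.map ψ.toMonoidHom = L₂ := by
    rw [hL₂, map_equiv_centralizer, hψW₂]
  have hL₂top : L₂ ≠ ⊤ := by
    intro htop
    have hZc : W₂ ≤ center H := by
      intro z hz
      rw [Subgroup.mem_center_iff]
      intro g
      have hg : g ∈ L₂ := htop ▸ mem_top g
      exact ((mem_centralizer_iff.1 hg) z hz).symm
    haveI : (center H).Characteristic := Subgroup.centerCharacteristic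
    have hcn : ((center H).map H.subtype).Normal := inferInstance
    have hcbot : (center H).map H.subtype ≠ ⊥ := by
      intro h
      have h1 := (Subgroup.map_eq_bot_iff_of_injective _ H.subtype_injective).1 h
      rw [h1, le_bot_iff] at hZc
      exact hW₂bot hZc
    have hctop : center H = ⊤ := htop_of_le _ (hmin _ hcn (Subgroup.map_subtype_le _) hcbot)
    apply hnil
    letI : CommGroup H :=
      { (inferInstance : Group H) with
        mul_comm := fun a b => (Subgroup.mem_center_iff.1 (hctop ▸ mem_top b) a) }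
    exact CommGroup.isNilpotent
  haveI hL₂nil : Group.IsNilpotent L₂ := hsub' L₂ y hyH hL₂top hψL₂
  -- Thompson's theorem
  obtain ⟨P, K, hKn, hKc⟩ := hWT (hasNormalPComplement_of_isNilpotent q)
    (hasNormalPComplement_of_isNilpotent q)
  haveI := hKn
  have hcardKP : Nat.card K * Nat.card (P : Subgroup H) = Nat.card H := hKc.card_mul_card
  have hKcop : (Nat.card K).Coprime K.index := by
    have h1 : Nat.card K * K.index = Nat.card H := Subgroup.card_mul_index K
    have h2 : K.index = Nat.card (P : Subgroup H) :=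
      Nat.eq_of_mul_eq_mul_left Nat.card_pos (h1.trans hcardKP.symm)
    rw [h2, Sylow.card_eq_multiplicity]
    rw [Sylow.card_eq_multiplicity] at hcardKP
    have h3 : Nat.card K = Nat.card H / q ^ (Nat.card H).factorization q :=
      (Nat.div_eq_of_eq_mul_left (pow_pos hq.pos _) hcardKP.symm).symm
    rw [h3]
    exact Nat.Coprime.pow_right _ (Nat.coprime_ordCompl hq Nat.card_pos.ne').symm
  haveI : K.Characteristic := characteristic_of_normal_of_coprime K hKcop
  have hKGn : (K.map H.subtype).Normal := inferInstance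
  by_cases hKbot : K = ⊥
  · rw [hKbot, Subgroup.card_bot, one_mul] at hcardKP
    have hPtop : (P : Subgroup H) = ⊤ := (Subgroup.card_eq_iff_eq_top _).1 hcardKP
    have hHq : IsPGroup q H := by
      have h1 := P.isPGroup'
      rw [hPtop] at h1
      exact h1.of_equiv Subgroup.topEquiv
    exact hnil hHq.isNilpotent
  · have hKtop : K = ⊤ := htop_of_le _ (hmin _ hKGn (Subgroup.map_subtype_le _) (fun h =>
      hKbot ((Subgroup.map_eq_bot_iff_of_injective _ H.subtype_injective).1 h)))
    rw [hKtop, Subgroup.card_top] at hcardKP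
    have hP1 : Nat.card (P : Subgroup H) = 1 := by
      have hpos : 0 < Nat.card H := Nat.card_pos
      exact Nat.eq_of_mul_eq_mul_left hpos (by rw [hcardKP, mul_one])
    exact Sylow.ne_bot_of_dvd_card P hqH (Subgroup.card_eq_one.1 hP1)

/-- **Kegel's theorem** (modulo a normal `p`-complement oracle): if `H` is a normal
subgroup of index `p` of the finite group `G` and every element outside `H` has order `p`,
then `H` is nilpotent. -/
theorem kegel (hT : ∀ (K : Type u) [Group K] [Finite K], Cfsg.Agent.H77.Fpf.Oracle2 K) {p : ℕ}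
    (hp : p.Prime) :
    ∀ (n : ℕ) (G : Type u) [Group G] [Finite G] (H : Subgroup G) [H.Normal], Nat.card G = n →
      H.index = p → (∀ g, g ∉ H → g ^ p = 1) → Group.IsNilpotent H := by
  intro n
  induction n using Nat.strong_induction_on with
  | _ n ih =>
  intro G _ _ H _ hcard hidx hspl
  by_contra hnil
  have hHtop : H ≠ ⊤ := by
    rintro rfl
    rw [Subgroup.index_top] at hidx
    exact hp.one_lt.ne hidx
  obtain ⟨y₀, hy₀⟩ : ∃ y, y ∉ H := by
    by_contra hcon
    push Not at hcon
    exact hHtop (eq_top_iff.2 fun g _ => hcon g)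
  have hHbot : H ≠ ⊥ := by
    rintro rfl
    exact hnil inferInstance
  -- quotients
  have B1 : ∀ (N : Subgroup G) [N.Normal], N ≤ H → N ≠ ⊥ →
      Group.IsNilpotent (H.map (QuotientGroup.mk' N)) := by
    intro N _ hNH hNbot
    have hlt : Nat.card (G ⧸ N) < n := by
      rw [← hcard, ← Subgroup.index_eq_card, ← Subgroup.card_mul_index N]
      have h1 : Nat.card N ≠ 1 := fun h => hNbot (Subgroup.card_eq_one.1 h)
      have hpos : 0 < Nat.card N := Nat.card_pos
      have h2 : 0 < N.index := Nat.pos_of_ne_zero Subgroup.index_ne_zero_of_finite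
      have h3 : 2 ≤ Nat.card N := by omega
      nlinarith
    haveI : (H.map (QuotientGroup.mk' N)).Normal :=
      Subgroup.Normal.map inferInstance _ (QuotientGroup.mk'_surjective N)
    refine ih _ hlt (G ⧸ N) (H.map (QuotientGroup.mk' N)) rfl ?_ ?_
    · rw [Subgroup.index_map_eq _ (QuotientGroup.mk'_surjective N)
        (by rw [QuotientGroup.ker_mk']; exact hNH)]
      exact hidx
    · intro x hx
      obtain ⟨g, rfl⟩ := QuotientGroup.mk_surjective x
      have hg : g ∉ H := fun h => hx (Subgroup.mem_map_of_mem _ h)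
      rw [← QuotientGroup.mk_pow, hspl g hg]; rfl
  -- invariant subgroups
  have B2 : ∀ (L : Subgroup G) (y : G), L ≤ H → L ≠ H → y ∉ H →
      (∀ l ∈ L, y * l * y⁻¹ ∈ L) → Group.IsNilpotent L := by
    intro L y hLH hLne hy hyL
    set K : Subgroup G := zpowers y ⊔ L with hK
    have hyK : y ∈ K := (le_sup_left : zpowers y ≤ K) (mem_zpowers y)
    have hLK : L ≤ K := le_sup_right
    have hyN : y ∈ normalizer (L : Set G) := mem_normalizer_of_conj_mem hyL
    have hzn : zpowers y ≤ normalizer (L : Set G) := by rw [zpowers_le]; exact hyN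
    have hKset : (K : Set G) = (zpowers y : Set G) * (L : Set G) :=
      Subgroup.coe_mul_of_left_le_normalizer_right (zpowers y) L hzn
    have hyp : y ^ p = 1 := hspl y hy
    have hKH : ∀ k ∈ K, k ∈ H → k ∈ L := by
      intro k hk hkH
      have hk' : k ∈ (zpowers y : Set G) * (L : Set G) := by rw [← hKset]; exact hk
      obtain ⟨c, hc, l, hl, rfl⟩ := Set.mem_mul.1 hk'
      have hcH : c ∈ H := by
        have := H.mul_mem hkH (H.inv_mem (hLH hl))
        rwa [mul_inv_cancel_right] at this
      have hc1 : c = 1 := by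
        obtain ⟨j, rfl⟩ := mem_powers_iff_mem_zpowers.2 hc
        by_contra hne
        apply hy
        refine mem_of_pow_mem_of_not_dvd hp hyp ?_ H hcH
        rintro ⟨t, rfl⟩
        exact hne (by show y ^ (p * t) = 1; rw [pow_mul, hyp, one_pow])
      rw [hc1, one_mul]; exact hl
    have hKtop : K ≠ ⊤ := by
      intro htop
      apply hLne
      apply le_antisymm hLH
      intro h hh
      exact hKH h (htop ▸ mem_top h) hh
    have hlt : Nat.card K < n := by
      rw [← hcard]
      have h1 : K.index ≠ 1 := fun h => hKtop (Subgroup.index_eq_one.1 h)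
      have h2 := Subgroup.card_mul_index K
      have h3 : 0 < K.index := Nat.pos_of_ne_zero Subgroup.index_ne_zero_of_finite
      have h4 : 0 < Nat.card K := Nat.card_pos
      have h5 : 2 ≤ K.index := by omega
      nlinarith
    haveI : (H.subgroupOf K).Normal := inferInstance
    have hidxK : (H.subgroupOf K).index = p := by
      have h1 : H.relIndex K ∣ p := hidx ▸ Subgroup.relIndex_dvd_index_of_normal H K
      have h2 : H.relIndex K ≠ 1 := fun h => hy (Subgroup.relIndex_eq_one.1 h hyK)
      exact ((Nat.dvd_prime hp).1 h1).resolve_left h2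
    have hnilK : Group.IsNilpotent (H.subgroupOf K) := by
      refine ih _ hlt K (H.subgroupOf K) rfl hidxK ?_
      intro g hg
      have hg' : (g : G) ∉ H := fun h => hg (mem_subgroupOf.2 h)
      exact Subtype.ext (by simpa using hspl _ hg')
    have heq : L.subgroupOf K = H.subgroupOf K := by
      ext x
      rw [mem_subgroupOf, mem_subgroupOf]
      exact ⟨fun h => hLH h, fun h => hKH x x.2 h⟩
    rw [← heq] at hnilK
    haveI := hnilK
    exact Group.nilpotent_of_mulEquiv (Subgroup.subgroupOfEquivOfLe hLK)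
  -- a minimal normal subgroup
  obtain ⟨N, ⟨hNn, hNH, hNbot⟩, hNmin⟩ : ∃ N : Subgroup G, (N.Normal ∧ N ≤ H ∧ N ≠ ⊥) ∧
      ∀ N' : Subgroup G, N'.Normal → N' ≤ H → N' ≠ ⊥ → N' ≤ N → N ≤ N' := by
    have hfin : {N : Subgroup G | N.Normal ∧ N ≤ H ∧ N ≠ ⊥}.Finite := Set.toFinite _
    obtain ⟨N, hN, hmin⟩ := hfin.exists_minimal ⟨H, inferInstance, le_rfl, hHbot⟩
    exact ⟨N, hN, fun N' h1 h2 h3 hle => hmin ⟨h1, h2, h3⟩ hle⟩
  haveI := hNn
  have hNmin' : ∀ N' : Subgroup G, N'.Normal → N' ≤ H → N' ≠ ⊥ → N ≤ N' := by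
    intro N' hN'n hN'H hN'bot
    haveI := hN'n
    by_cases hinf : N ⊓ N' = ⊥
    · exfalso
      apply hnil
      haveI := B1 N hNH hNbot
      haveI := B1 N' hN'H hN'bot
      let f : ↥H →* ↥(H.map (QuotientGroup.mk' N)) × ↥(H.map (QuotientGroup.mk' N')) :=
        ((QuotientGroup.mk' N).subgroupMap H).prod ((QuotientGroup.mk' N').subgroupMap H)
      have hf : Function.Injective f := by
        rw [injective_iff_map_eq_one]
        intro x hx
        have hx1 : (QuotientGroup.mk' N) (x : G) = 1 :=
          congrArg Subtype.val (congrArg Prod.fst hx)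
        have hx2 : (QuotientGroup.mk' N') (x : G) = 1 :=
          congrArg Subtype.val (congrArg Prod.snd hx)
        have hmem : (x : G) ∈ N ⊓ N' :=
          Subgroup.mem_inf.2 ⟨(QuotientGroup.eq_one_iff _).1 hx1, (QuotientGroup.eq_one_iff _).1 hx2⟩
        rw [hinf, mem_bot] at hmem
        exact Subtype.ext hmem
      haveI : Group.IsNilpotent f.range := Subgroup.isNilpotent f.range
      exact Group.nilpotent_of_mulEquiv (MonoidHom.ofInjective hf).symm
    · exact (hNmin (N ⊓ N') inferInstance (inf_le_left.trans hNH) hinf inf_le_left).trans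
        inf_le_right
  by_cases hab : ∀ a ∈ N, ∀ b ∈ N, a * b = b * a
  · exact hnil (kegel_abelian_case hp H hidx hspl N hNH hNbot hNmin' hab (B1 N hNH hNbot))
  · have hNeq : N = H := by
      by_contra hne
      haveI hNnil : Group.IsNilpotent N :=
        B2 N y₀ hNH hne hy₀ (fun l hl => hNn.conj_mem l hl y₀)
      haveI : Nontrivial N := (Subgroup.nontrivial_iff_ne_bot N).2 hNbot
      have hc := Group.IsNilpotent.center_ne_bot (G := N)
      haveI : (center N).Characteristic := Subgroup.centerCharacteristic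
      have hcn : ((center N).map N.subtype).Normal := inferInstance
      have hle := hNmin' _ hcn ((Subgroup.map_subtype_le _).trans hNH) (fun h =>
        hc ((Subgroup.map_eq_bot_iff_of_injective _ N.subtype_injective).1 h))
      apply hab
      intro a ha b hb
      obtain ⟨a', ha', hae⟩ := hle ha
      have hae' : (a' : G) = a := hae
      have h1 := Subgroup.mem_center_iff.1 ha' ⟨b, hb⟩
      have h2 : b * (a' : G) = (a' : G) * b := congrArg Subtype.val h1
      rw [← hae']; exact h2.symm
    rw [hNeq] at hNmin'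
    exact hnil (kegel_nonabelian_case hp H (hT H) hidx B2 hNmin')

/-- **Hughes--Thompson--Kegel**, modulo a normal `p`-complement oracle. -/
theorem hughes_thompson_kegel (hT : ∀ (K : Type u) [Group K] [Finite K], Cfsg.Agent.H77.Fpf.Oracle2 K)
    {G : Type u} [Group G] [Finite G] (p : ℕ)
    (hp : p.Prime) (hG : ¬ IsPGroup p G)
    (hH : Subgroup.closure {g : G | g ^ p ≠ 1} ≠ ⊤) :
    Group.IsNilpotent (Subgroup.closure {g : G | g ^ p ≠ 1}) ∧
      (Subgroup.closure {g : G | g ^ p ≠ 1}).index = p := by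
  set H : Subgroup G := Subgroup.closure {g : G | g ^ p ≠ 1} with hHdef
  haveI hHn : H.Normal := by
    refine ⟨fun n hn g => ?_⟩
    induction hn using Subgroup.closure_induction with
    | mem x hx =>
      apply Subgroup.subset_closure
      show (g * x * g⁻¹) ^ p ≠ 1
      rw [conj_pow]
      intro h
      apply hx
      have h1 : g⁻¹ * (g * x ^ p * g⁻¹) * g = x ^ p := by group
      rw [← h1, h]; group
    | one => simpa using H.one_mem
    | mul x y _ _ hx hy =>
      have h1 : g * (x * y) * g⁻¹ = (g * x * g⁻¹) * (g * y * g⁻¹) := by group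
      rw [h1]; exact H.mul_mem hx hy
    | inv x _ hx =>
      have h1 : g * x⁻¹ * g⁻¹ = (g * x * g⁻¹)⁻¹ := by group
      rw [h1]; exact H.inv_mem hx
  have hspl : ∀ g, g ∉ H → g ^ p = 1 := by
    intro g hg
    by_contra h
    exact hg (Subgroup.subset_closure h)
  have hidx : H.index = p := index_eq_prime hp H hH hspl hG
  exact ⟨kegel hT hp _ G H rfl hidx hspl, hidx⟩

end Cfsg.Agent.H74.Keg
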