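import Mathlib
import Cfsg.Agent.H38.NormalEp2

set_option autoImplicit false

namespace Cfsg.Agent.H74.Mil

open Subgroup

universe u

/-- If every fibre of `f` has cardinality divisible by `d`, so has the source. -/
theorem dvd_card_of_fibers {α β : Type*} [Finite α] [Finite β] (f : α → β) (d : ℕ)
    (h : ∀ b : β, d ∣ Nat.card {a : α // f a = b}) : d ∣ Nat.card α := by
  classical
  haveI := Fintype.ofFinite β
  rw [← Nat.card_congr (Equiv.sigmaFiberEquiv f), Nat.card_sigma]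
  exact Finset.dvd_sum (fun b _ => h b)

/-- If every fibre of `f` has cardinality `k`, the source has `k * card β` elements. -/
theorem card_eq_mul_of_fibers {α β : Type*} [Finite α] [Finite β] (f : α → β) (k : ℕ)
    (h : ∀ b : β, Nat.card {a : α // f a = b} = k) : Nat.card α = k * Nat.card β := by
  classical
  haveI := Fintype.ofFinite β
  rw [← Nat.card_congr (Equiv.sigmaFiberEquiv f), Nat.card_sigma]
  simp only [h, Finset.sum_const, Finset.card_univ, smul_eq_mul, Nat.card_eq_fintype_card]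
  ring

/-- A surjection from a group whose fibres are the left cosets of `K` has `K.index` values. -/
theorem card_eq_index_of_surj {A : Type*} [Group A] (K : Subgroup A) {β : Type*} (ψ : A → β)
    (hsurj : Function.Surjective ψ) (h : ∀ a b, ψ a = ψ b ↔ a⁻¹ * b ∈ K) :
    Nat.card β = K.index := by
  have hwd : ∀ a b : A, (QuotientGroup.leftRel K) a b → ψ a = ψ b := by
    intro a b hab
    rw [QuotientGroup.leftRel_apply] at hab
    exact (h a b).2 hab
  let φ : A ⧸ K → β := Quotient.lift ψ hwd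
  have hφ : Function.Bijective φ := by
    constructor
    · intro q₁ q₂
      induction q₁ using Quotient.inductionOn with
      | _ a =>
      induction q₂ using Quotient.inductionOn with
      | _ b =>
      intro hab
      have : ψ a = ψ b := hab
      exact Quotient.sound (by
        show (QuotientGroup.leftRel K) a b
        rw [QuotientGroup.leftRel_apply]; exact (h a b).1 this)
    · intro y
      obtain ⟨a, rfl⟩ := hsurj y
      exact ⟨Quotient.mk _ a, rfl⟩
  rw [Subgroup.index, Nat.card_congr (Equiv.ofBijective φ hφ)]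

section elem

variable {p : ℕ} [hp : Fact p.Prime] {W : Type u} [Group W]

/-- `(x e)^p = x^p` for `e` in a "central-commutator" subgroup of exponent `p`, `p` odd. -/
theorem mul_pow_p (hp2 : p ≠ 2) (E : Subgroup W) (z : W) (hzc : z ∈ center W) (hzp : z ^ p = 1)
    (hEp : ∀ e ∈ E, e ^ p = 1) (hcomm : ∀ e ∈ E, ∀ w : W, w * e * w⁻¹ * e⁻¹ ∈ zpowers z)
    (x e : W) (he : e ∈ E) : (x * e) ^ p = x ^ p := by
  set c : W := e * x * e⁻¹ * x⁻¹ with hcdef
  have hcz : c ∈ zpowers z := by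
    have h1 := inv_mem (hcomm e he x)
    have h2 : (x * e * x⁻¹ * e⁻¹)⁻¹ = c := by rw [hcdef]; group
    rwa [h2] at h1
  have hcc : c ∈ center W := (zpowers_le.2 hzc) hcz
  have hcen : ∀ g : W, g * c = c * g := fun g => (mem_center_iff.1 hcc g)
  have hc : e * x = c * x * e := by rw [hcdef]; group
  have hcp : c ^ p = 1 := by
    obtain ⟨k, hk⟩ := mem_zpowers_iff.1 hcz
    rw [← hk, ← zpow_natCast, ← zpow_mul, mul_comm, zpow_mul, zpow_natCast, hzp, one_zpow]
  have := Cfsg.Agent.H38.mul_pow_prime_of_central_comm hp2 x e c hc (hcen x).symm (hcen e).symm hcp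
  rw [this, hEp e he, mul_one]

theorem mul_pow_p_pow (hp2 : p ≠ 2) (E : Subgroup W) (z : W) (hzc : z ∈ center W) (hzp : z ^ p = 1)
    (hEp : ∀ e ∈ E, e ^ p = 1) (hcomm : ∀ e ∈ E, ∀ w : W, w * e * w⁻¹ * e⁻¹ ∈ zpowers z)
    (x e : W) (he : e ∈ E) (n : ℕ) : (x * e) ^ p ^ (n + 1) = x ^ p ^ (n + 1) := by
  rw [pow_succ', pow_mul, pow_mul, mul_pow_p hp2 E z hzc hzp hEp hcomm x e he]

theorem orderOf_mul_elem (hp2 : p ≠ 2) (E : Subgroup W) (z : W) (hzc : z ∈ center W)
    (hzp : z ^ p = 1)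
    (hEp : ∀ e ∈ E, e ^ p = 1) (hcomm : ∀ e ∈ E, ∀ w : W, w * e * w⁻¹ * e⁻¹ ∈ zpowers z)
    (x e : W) (he : e ∈ E) (s : ℕ) (hs : 2 ≤ s) (hx : orderOf x = p ^ s) :
    orderOf (x * e) = p ^ s := by
  obtain ⟨n, rfl⟩ : ∃ n, s = n + 2 := ⟨s - 2, by omega⟩
  apply orderOf_eq_prime_pow
  · rw [mul_pow_p_pow hp2 E z hzc hzp hEp hcomm x e he n]
    intro h
    have := orderOf_dvd_of_pow_eq_one h
    rw [hx] at this
    have h2 := (Nat.pow_dvd_pow_iff_le_right hp.out.one_lt).1 this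
    omega
  · rw [mul_pow_p_pow hp2 E z hzc hzp hEp hcomm x e he (n + 1), ← hx, pow_orderOf_eq_one]

theorem normal_of_comm (E : Subgroup W) (z : W) (hzE : z ∈ E)
    (hcomm : ∀ e ∈ E, ∀ w : W, w * e * w⁻¹ * e⁻¹ ∈ zpowers z) : E.Normal := by
  constructor
  intro e he w
  have h1 : w * e * w⁻¹ * e⁻¹ ∈ E := (zpowers_le.2 hzE) (hcomm e he w)
  have h2 := mul_mem h1 he
  simpa using h2

theorem pow_mul_mem (E : Subgroup W) [E.Normal] (x e : W) (he : e ∈ E) (n : ℕ) :
    ∃ e' ∈ E, (x * e) ^ n = x ^ n * e' := by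
  induction n with
  | zero => exact ⟨1, one_mem _, by simp⟩
  | succ n ih =>
    obtain ⟨e', he', h⟩ := ih
    refine ⟨x⁻¹ * e' * x * e, mul_mem ?_ he, ?_⟩
    · have := ‹E.Normal›.conj_mem e' he' x⁻¹
      simpa using this
    · rw [pow_succ, h, pow_succ]; group

/-- In a cyclic group of order `p^s`, the elements of order dividing `p` are powers of
`g^(p^(s-1))`. -/
theorem mem_zpowers_pow_of_pow_eq_one (g f : W) (s : ℕ) (hs : 1 ≤ s) (hg : orderOf g = p ^ s)
    (hf : f ∈ zpowers g) (hfp : f ^ p = 1) : f ∈ zpowers (g ^ p ^ (s - 1)) := by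
  obtain ⟨k, rfl⟩ := mem_zpowers_iff.1 hf
  have h1 : g ^ (k * (p : ℤ)) = 1 := by rw [zpow_mul, zpow_natCast]; exact hfp
  have h2 := (orderOf_dvd_iff_zpow_eq_one).2 h1
  rw [hg] at h2
  obtain ⟨n, rfl⟩ : ∃ n, s = n + 1 := ⟨s - 1, by omega⟩
  have h3 : ((p ^ n : ℕ) : ℤ) ∣ k := by
    have h4 : ((p ^ (n + 1) : ℕ) : ℤ) = ((p ^ n : ℕ) : ℤ) * (p : ℤ) := by push_cast; ring
    rw [h4] at h2
    exact (mul_dvd_mul_iff_right (by exact_mod_cast hp.out.ne_zero)).1 h2
  obtain ⟨j, rfl⟩ := h3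
  rw [Nat.add_sub_cancel]
  refine mem_zpowers_iff.2 ⟨j, ?_⟩
  rw [← zpow_natCast, ← zpow_mul]

end elem

end Cfsg.Agent.H74.Mil
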