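import Mathlib
import Cfsg.Agent.H38.NormalEp2
import Cfsg.Agent.H74.MillerPre

set_option autoImplicit false

namespace Cfsg.Agent.H74.Mil

open Subgroup

universe u

theorem exists_zpowers_eq {W : Type*} [Group W] (C : Subgroup W) (hC : IsCyclic C) :
    ∃ x : W, zpowers x = C := by
  obtain ⟨g, hg⟩ := hC.exists_generator
  refine ⟨g, le_antisymm (zpowers_le.2 g.2) ?_⟩
  intro y hy
  obtain ⟨k, hk⟩ := mem_zpowers_iff.1 (hg ⟨y, hy⟩)
  exact mem_zpowers_iff.2 ⟨k, by simpa using congrArg Subtype.val hk⟩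

/-- **Miller's theorem**: in a noncyclic `p`-group, `p` odd, the number of cyclic subgroups of
order `p ^ s`, `s ≥ 2`, is divisible by `p`. -/
theorem miller {p : ℕ} [hp : Fact p.Prime] (hp2 : p ≠ 2) {W : Type u} [Group W] [Finite W]
    (hW : IsPGroup p W) (hnc : ¬ IsCyclic W) (s : ℕ) (hs : 2 ≤ s) :
    p ∣ Nat.card {C : Subgroup W // IsCyclic C ∧ Nat.card C = p ^ s} := by
  obtain ⟨E, z, hzc, hz1, hzp, hzE, hEp, hEcard, hcomm⟩ :=
    Cfsg.Agent.H38.exists_normal_ep2 hp2 (Nat.card W) W rfl hW hnc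
  haveI hEn : E.Normal := normal_of_comm E z hzE hcomm
  have hmp := mul_pow_p_pow hp2 E z hzc hzp hEp hcomm
  have hord := orderOf_mul_elem hp2 E z hzc hzp hEp hcomm
  obtain ⟨n, rfl⟩ : ∃ n, s = n + 2 := ⟨s - 2, by omega⟩
  let r : {C : Subgroup W // IsCyclic C ∧ Nat.card C = p ^ (n + 2)} → Subgroup W :=
    fun C => C.1 ⊔ E
  apply dvd_card_of_fibers r p
  intro D
  by_cases hne : Nonempty {a : {C : Subgroup W // IsCyclic C ∧ Nat.card C = p ^ (n + 2)} // r a = D}
  swap
  · rw [not_nonempty_iff] at hne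
    simp
  obtain ⟨⟨⟨C₀, hC₀cyc, hC₀card⟩, hC₀D⟩⟩ := hne
  obtain ⟨x₀, rfl⟩ := exists_zpowers_eq C₀ hC₀cyc
  have hx₀ : orderOf x₀ = p ^ (n + 2) := by rw [← Nat.card_zpowers]; exact hC₀card
  have hD : zpowers x₀ ⊔ E = D := hC₀D
  -- the subgroup K
  let K : Subgroup E := (zpowers (x₀ ^ p ^ (n + 1)) ⊓ E).subgroupOf E
  have hsupeq : ∀ e ∈ E, zpowers (x₀ * e) ⊔ E = D := by
    intro e he
    rw [← hD]
    apply le_antisymm
    · exact sup_le (zpowers_le.2 (mul_mem (mem_sup_left (mem_zpowers x₀)) (mem_sup_right he)))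
        le_sup_right
    · refine sup_le (zpowers_le.2 ?_) le_sup_right
      have hx : (x₀ * e) * e⁻¹ ∈ zpowers (x₀ * e) ⊔ E :=
        mul_mem (mem_sup_left (mem_zpowers _)) (mem_sup_right (inv_mem he))
      simpa using hx
  let ψ : E → {a : {C : Subgroup W // IsCyclic C ∧ Nat.card C = p ^ (n + 2)} // r a = D} :=
    fun e => ⟨⟨zpowers (x₀ * (e : W)), inferInstance, by
      rw [Nat.card_zpowers]; exact hord x₀ e e.2 (n + 2) (by omega) hx₀⟩, hsupeq e e.2⟩
  have hcardeq : ∀ e ∈ E, ∀ y : W, y ∈ zpowers (x₀ * e) → orderOf y = p ^ (n + 2) →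
      zpowers y = zpowers (x₀ * e) := by
    intro e he y hy hyo
    apply Subgroup.eq_of_le_of_card_ge (zpowers_le.2 hy)
    rw [Nat.card_zpowers, Nat.card_zpowers, hyo, hord x₀ e he (n + 2) (by omega) hx₀]
  have hker : ∀ a b : E, ψ a = ψ b ↔ a⁻¹ * b ∈ K := by
    intro a b
    have h1 : ψ a = ψ b ↔ zpowers (x₀ * (a : W)) = zpowers (x₀ * (b : W)) := by
      simp only [ψ, Subtype.mk.injEq]
    rw [h1, Subgroup.mem_subgroupOf, Subgroup.mem_inf]
    have hf : (x₀ * (a : W))⁻¹ * (x₀ * (b : W)) = ((a⁻¹ * b : E) : W) := by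
      push_cast; group
    have hpw : (x₀ * (a : W)) ^ p ^ (n + 1) = x₀ ^ p ^ (n + 1) := hmp x₀ a a.2 n
    constructor
    · intro h
      have h2 : ((a⁻¹ * b : E) : W) ∈ zpowers (x₀ * (a : W)) := by
        rw [← hf]
        exact mul_mem (inv_mem (mem_zpowers _)) (h ▸ mem_zpowers _)
      have h3 := mem_zpowers_pow_of_pow_eq_one (x₀ * (a : W)) ((a⁻¹ * b : E) : W) (n + 2) (by omega)
        (hord x₀ a a.2 (n + 2) (by omega) hx₀) h2 (hEp _ (a⁻¹ * b).2)
      rw [show n + 2 - 1 = n + 1 by omega, hpw] at h3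
      exact ⟨h3, (a⁻¹ * b).2⟩
    · rintro ⟨h, -⟩
      rw [← hpw] at h
      have h2 : ((a⁻¹ * b : E) : W) ∈ zpowers (x₀ * (a : W)) :=
        (zpowers_le.2 (pow_mem (mem_zpowers _) _)) h
      have h3 : x₀ * (b : W) ∈ zpowers (x₀ * (a : W)) := by
        have : x₀ * (b : W) = (x₀ * (a : W)) * ((a⁻¹ * b : E) : W) := by push_cast; group
        rw [this]
        exact mul_mem (mem_zpowers _) h2
      exact (hcardeq a a.2 _ h3 (hord x₀ b b.2 (n + 2) (by omega) hx₀)).symm
  have hsurj : Function.Surjective ψ := by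
    rintro ⟨⟨C, hCcyc, hCcard⟩, hCD⟩
    obtain ⟨y, rfl⟩ := exists_zpowers_eq C hCcyc
    have hy : orderOf y = p ^ (n + 2) := by rw [← Nat.card_zpowers]; exact hCcard
    have hyD : y ∈ zpowers x₀ ⊔ E := by
      rw [hD]
      have : zpowers y ⊔ E = D := hCD
      rw [← this]; exact mem_sup_left (mem_zpowers y)
    have hyD' : y ∈ ((zpowers x₀ ⊔ E : Subgroup W) : Set W) := hyD
    rw [Subgroup.mul_normal] at hyD'
    obtain ⟨h, hh, e₁, he₁, rfl⟩ := Set.mem_mul.1 hyD'
    obtain ⟨a, rfl⟩ := (mem_powers_iff_mem_zpowers).2 hh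
    -- `a` is prime to `p`
    have hpa : ¬ p ∣ a := by
      rintro ⟨b, rfl⟩
      have h1 : (x₀ ^ (p * b) * e₁) ^ p ^ (n + 1) = 1 := by
        rw [hmp (x₀ ^ (p * b)) e₁ he₁ n, ← pow_mul, mul_comm p b, mul_assoc, ← pow_succ',
          mul_comm, pow_mul, ← hx₀, pow_orderOf_eq_one, one_pow]
      have h2 := orderOf_dvd_of_pow_eq_one h1
      rw [hy] at h2
      have h3 := (Nat.pow_dvd_pow_iff_le_right hp.out.one_lt).1 h2
      omega
    have hcop : Nat.Coprime a (p ^ (n + 2)) :=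
      Nat.Coprime.pow_right _ ((Nat.Prime.coprime_iff_not_dvd hp.out).2 hpa).symm
    obtain ⟨b, -, hb⟩ := Nat.exists_mul_mod_eq_one_of_coprime hcop
      (Nat.one_lt_pow (by omega) hp.out.one_lt)
    obtain ⟨e₂, he₂, h4⟩ := pow_mul_mem E (x₀ ^ a) e₁ he₁ b
    have h5 : (x₀ ^ a) ^ b = x₀ := by
      rw [← pow_mul, ← pow_mod_orderOf, hx₀, hb, pow_one]
    rw [h5] at h4
    refine ⟨⟨e₂, he₂⟩, ?_⟩
    apply Subtype.ext
    apply Subtype.ext
    show zpowers (x₀ * e₂) = zpowers (x₀ ^ a * e₁)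
    rw [← h4]
    apply Subgroup.eq_of_le_of_card_ge (zpowers_le.2 (pow_mem (mem_zpowers _) _))
    rw [Nat.card_zpowers, Nat.card_zpowers, hy, h4, hord x₀ e₂ he₂ (n + 2) (by omega) hx₀]
  rw [card_eq_index_of_surj K ψ hsurj hker]
  -- `p ∣ K.index`
  have hK1 : Nat.card K ∣ p := by
    have h1 : Nat.card K = Nat.card (zpowers (x₀ ^ p ^ (n + 1)) ⊓ E : Subgroup W) :=
      Nat.card_congr (Subgroup.subgroupOfEquivOfLe inf_le_right).toEquiv
    rw [h1]
    have h2 : Nat.card (zpowers (x₀ ^ p ^ (n + 1))) = p := by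
      rw [Nat.card_zpowers, orderOf_pow, hx₀, Nat.gcd_eq_right (pow_dvd_pow p (by omega)),
        Nat.pow_div (by omega) hp.out.pos, show n + 2 - (n + 1) = 1 by omega, pow_one]
    have h3 := Subgroup.card_dvd_of_le
      (inf_le_left : zpowers (x₀ ^ p ^ (n + 1)) ⊓ E ≤ zpowers (x₀ ^ p ^ (n + 1)))
    rwa [h2] at h3
  have hK2 : Nat.card K * K.index = p ^ 2 := by rw [Subgroup.card_mul_index, hEcard]
  rcases (Nat.dvd_prime hp.out).1 hK1 with h | h
  · rw [h, one_mul] at hK2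
    rw [hK2]; exact dvd_pow_self p (by norm_num)
  · rw [h, pow_two] at hK2
    have := Nat.eq_of_mul_eq_mul_left hp.out.pos hK2
    rw [this]

/-- Miller's theorem for a noncyclic `p`-subgroup of a group. -/
theorem miller_sub {p : ℕ} [hp : Fact p.Prime] (hp2 : p ≠ 2) {G : Type u} [Group G] [Finite G]
    (P : Subgroup G) (hP : IsPGroup p P) (hnc : ¬ IsCyclic P) (s : ℕ) (hs : 2 ≤ s) :
    p ∣ Nat.card {C : Subgroup G // IsCyclic C ∧ Nat.card C = p ^ s ∧ C ≤ P} := by
  have h := miller hp2 hP hnc s hs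
  have e : {C : Subgroup P // IsCyclic C ∧ Nat.card C = p ^ s} ≃
      {C : Subgroup G // IsCyclic C ∧ Nat.card C = p ^ s ∧ C ≤ P} :=
    { toFun := fun C => ⟨C.1.map P.subtype,
        (C.1.equivMapOfInjective P.subtype P.subtype_injective).isCyclic.1 C.2.1,
        ((Nat.card_congr
            (C.1.equivMapOfInjective P.subtype P.subtype_injective).toEquiv).symm).trans C.2.2,
        map_subtype_le C.1⟩
      invFun := fun C => ⟨C.1.subgroupOf P,
        (Subgroup.subgroupOfEquivOfLe C.2.2.2).isCyclic.2 C.2.1,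
        (Nat.card_congr (Subgroup.subgroupOfEquivOfLe C.2.2.2).toEquiv).trans C.2.2.1⟩
      left_inv := fun C => Subtype.ext (by
        show (C.1.map P.subtype).subgroupOf P = C.1
        exact Subgroup.comap_map_eq_self_of_injective P.subtype_injective C.1)
      right_inv := fun C => Subtype.ext (by
        show (C.1.subgroupOf P).map P.subtype = C.1
        exact Subgroup.map_subgroupOf_eq_of_le C.2.2.2) }
  rwa [← Nat.card_congr e]

/-- Fixed point congruence for an invariant subset, with an explicit action. -/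
theorem card_modEq_card_fixed {p : ℕ} [Fact p.Prime] {Q : Type*} [Group Q] [Finite Q]
    (hQ : IsPGroup p Q) {Ω : Type*} (act : MulAction Q Ω) (S : Ω → Prop) [Finite {ω // S ω}]
    (hS : ∀ (q : Q) (ω : Ω), S ω → S (act.toSMul.smul q ω)) :
    Nat.card {ω // S ω} ≡
      Nat.card {ω : Ω // S ω ∧ ∀ q : Q, act.toSMul.smul q ω = ω} [MOD p] := by
  letI := act
  letI : MulAction Q {ω // S ω} :=
    { smul := fun q ω => ⟨q • ω.1, hS q ω.1 ω.2⟩
      one_smul := fun ω => Subtype.ext (one_smul Q ω.1)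
      mul_smul := fun q r ω => Subtype.ext (mul_smul q r ω.1) }
  have h1 := hQ.card_modEq_card_fixedPoints {ω // S ω}
  have e : MulAction.fixedPoints Q {ω // S ω} ≃
      {ω : Ω // S ω ∧ ∀ q : Q, act.toSMul.smul q ω = ω} :=
    { toFun := fun x => ⟨x.1.1, x.1.2, fun q => congrArg Subtype.val (x.2 q)⟩
      invFun := fun x => ⟨⟨x.1, x.2.1⟩, fun q => Subtype.ext (x.2.2 q)⟩
      left_inv := fun x => rfl
      right_inv := fun x => rfl }
  rw [← Nat.card_congr e]
  exact h1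

section action

variable {G : Type u} [Group G]

theorem mem_map_conj (C : Subgroup G) (q x : G) :
    x ∈ C.map (MulAut.conj q).toMonoidHom ↔ q⁻¹ * x * q ∈ C := by
  rw [Subgroup.mem_map_equiv]
  simp [MulAut.conj_symm_apply]

/-- Conjugation action of a subgroup on the subgroups of `G`. -/
@[reducible] def subAct (P : Subgroup G) : MulAction P (Subgroup G) where
  smul q C := C.map (MulAut.conj (q : G)).toMonoidHom
  one_smul C := by
    show C.map (MulAut.conj ((1 : P) : G)).toMonoidHom = C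
    ext x
    rw [mem_map_conj]
    simp
  mul_smul q r C := by
    show C.map (MulAut.conj ((q * r : P) : G)).toMonoidHom =
      (C.map (MulAut.conj (r : G)).toMonoidHom).map (MulAut.conj (q : G)).toMonoidHom
    ext x
    rw [mem_map_conj, mem_map_conj, mem_map_conj]
    simp [mul_assoc]

/-- Conjugation action of a subgroup on pairs (subgroup, element). -/
@[reducible] def pairAct (P : Subgroup G) : MulAction P (Subgroup G × G) where
  smul q ω := (ω.1.map (MulAut.conj (q : G)).toMonoidHom, MulAut.conj (q : G) ω.2)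
  one_smul ω := by
    show (ω.1.map (MulAut.conj ((1 : P) : G)).toMonoidHom, MulAut.conj ((1 : P) : G) ω.2) = ω
    refine Prod.ext ?_ ?_
    · show ω.1.map (MulAut.conj ((1 : P) : G)).toMonoidHom = ω.1
      ext x
      rw [mem_map_conj]
      simp
    · simp
  mul_smul q r ω := by
    show (ω.1.map (MulAut.conj ((q * r : P) : G)).toMonoidHom,
        MulAut.conj ((q * r : P) : G) ω.2) =
      ((ω.1.map (MulAut.conj (r : G)).toMonoidHom).map (MulAut.conj (q : G)).toMonoidHom,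
        MulAut.conj (q : G) (MulAut.conj (r : G) ω.2))
    refine Prod.ext ?_ ?_
    · show ω.1.map (MulAut.conj ((q * r : P) : G)).toMonoidHom =
        (ω.1.map (MulAut.conj (r : G)).toMonoidHom).map (MulAut.conj (q : G)).toMonoidHom
      ext x
      rw [mem_map_conj, mem_map_conj, mem_map_conj]
      simp [mul_assoc]
    · simp [mul_assoc]

theorem T_invariant (n m : ℕ) (f : G ≃* G) (ω : Subgroup G × G)
    (h : IsCyclic ω.1 ∧ Nat.card ω.1 = n ∧ orderOf ω.2 = m ∧ ∀ c ∈ ω.1, Commute c ω.2) :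
    IsCyclic (ω.1.map f.toMonoidHom) ∧ Nat.card (ω.1.map f.toMonoidHom) = n ∧
      orderOf (f ω.2) = m ∧ ∀ c ∈ ω.1.map f.toMonoidHom, Commute c (f ω.2) := by
  obtain ⟨h1, h2, h3, h4⟩ := h
  refine ⟨(ω.1.equivMapOfInjective f.toMonoidHom f.injective).isCyclic.1 h1, ?_, ?_, ?_⟩
  · rw [← h2]
    exact (Nat.card_congr (ω.1.equivMapOfInjective f.toMonoidHom f.injective).toEquiv).symm
  · rw [← h3]; exact f.orderOf_eq ω.2
  · intro c hc
    obtain ⟨c', hc', rfl⟩ := Subgroup.mem_map.1 hc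
    exact (h4 c' hc').map f

theorem le_sylow_of_fixed {p : ℕ} [Fact p.Prime] (P : Sylow p G) (C : Subgroup G)
    (hC : IsPGroup p C)
    (hfix : ∀ q : (P : Subgroup G), C.map (MulAut.conj (q : G)).toMonoidHom = C) :
    C ≤ P := by
  have hN : (P : Subgroup G) ≤ normalizer (C : Set G) := fun q hq =>
    Subgroup.mem_normalizer_iff_map_conj_eq.2 (hfix ⟨q, hq⟩)
  have h1 : IsPGroup p ((P : Subgroup G) ⊔ C : Subgroup G) :=
    IsPGroup.to_sup_of_normal_right' P.2 hC hN
  have h2 := P.is_maximal' h1 le_sup_left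
  rw [← h2]
  exact le_sup_right

end action

end Cfsg.Agent.H74.Mil
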