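import Mathlib
import Cfsg.Agent.H74.Miller

set_option autoImplicit false

namespace Cfsg.Agent.H74.Mil

open Subgroup

universe u

theorem card_orderOf_eq_totient {C : Type*} [Group C] [Finite C] [IsCyclic C] (n : ℕ)
    (h : Nat.card C = n) : Nat.card {c : C // orderOf c = n} = Nat.totient n := by
  classical
  haveI := Fintype.ofFinite C
  rw [Nat.card_eq_fintype_card, Fintype.card_subtype]
  exact IsCyclic.card_orderOf_eq_totient (by rw [← Nat.card_eq_fintype_card, h])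

/-- Elements of order `n₁ n₂` (coprime) correspond to commuting pairs of orders `n₁`, `n₂`. -/
theorem card_order_eq_card_pairs {G : Type*} [Group G] [Finite G] (n₁ n₂ : ℕ)
    (hn₁ : 0 < n₁) (hn₂ : 0 < n₂) (hco : Nat.Coprime n₁ n₂) :
    Nat.card {g : G // orderOf g = n₁ * n₂} =
      Nat.card {xy : G × G // orderOf xy.1 = n₁ ∧ orderOf xy.2 = n₂ ∧ Commute xy.1 xy.2} := by
  obtain ⟨a, ha1, ha2⟩ := Nat.chineseRemainder hco 1 0
  obtain ⟨b, hb1, hb2⟩ := Nat.chineseRemainder hco 0 1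
  have hab : a + b ≡ 1 [MOD n₁ * n₂] := by
    rw [← Nat.modEq_and_modEq_iff_modEq_mul hco]
    exact ⟨by simpa using ha1.add hb1, by simpa using ha2.add hb2⟩
  have hga : Nat.gcd (n₁ * n₂) a = n₂ := by
    rw [Nat.gcd_comm, Nat.Coprime.gcd_mul a hco, ha1.gcd_eq, ha2.gcd_eq]
    simp
  have hgb : Nat.gcd (n₁ * n₂) b = n₁ := by
    rw [Nat.gcd_comm, Nat.Coprime.gcd_mul b hco, hb1.gcd_eq, hb2.gcd_eq]
    simp
  refine Nat.card_congr
    { toFun := fun g => ⟨(g.1 ^ a, g.1 ^ b), ?_, ?_, (Commute.refl g.1).pow_pow a b⟩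
      invFun := fun xy => ⟨xy.1.1 * xy.1.2, ?_⟩
      left_inv := ?_
      right_inv := ?_ }
  · show orderOf (g.1 ^ a) = n₁
    rw [orderOf_pow, g.2, hga, Nat.mul_div_cancel _ hn₂]
  · show orderOf (g.1 ^ b) = n₂
    rw [orderOf_pow, g.2, hgb, Nat.mul_div_cancel_left _ hn₁]
  · have h := xy.2.2.2.orderOf_mul_eq_mul_orderOf_of_coprime (by rw [xy.2.1, xy.2.2.1]; exact hco)
    rw [h, xy.2.1, xy.2.2.1]
  · intro g
    apply Subtype.ext
    show g.1 ^ a * g.1 ^ b = g.1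
    rw [← pow_add]
    conv_rhs => rw [← pow_one g.1]
    rw [pow_eq_pow_iff_modEq, g.2]
    exact hab
  · rintro ⟨⟨x, y⟩, hx, hy, hxy⟩
    apply Subtype.ext
    show ((x * y) ^ a, (x * y) ^ b) = (x, y)
    have hx' : orderOf x = n₁ := hx
    have hy' : orderOf y = n₂ := hy
    have hxy' : Commute x y := hxy
    have e1 : x ^ a = x := by
      conv_rhs => rw [← pow_one x]
      rw [pow_eq_pow_iff_modEq, hx']; exact ha1
    have e2 : y ^ a = 1 := by
      rw [← pow_zero y, pow_eq_pow_iff_modEq, hy']; exact ha2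
    have e3 : x ^ b = 1 := by
      rw [← pow_zero x, pow_eq_pow_iff_modEq, hx']; exact hb1
    have e4 : y ^ b = y := by
      conv_rhs => rw [← pow_one y]
      rw [pow_eq_pow_iff_modEq, hy']; exact hb2
    rw [hxy'.mul_pow, hxy'.mul_pow, e1, e2, e3, e4, mul_one, one_mul]

/-- Commuting pairs `(x, y)` of orders `n`, `m` versus pairs `(⟨x⟩, y)`. -/
theorem card_pairs_eq {G : Type u} [Group G] [Finite G] (n m : ℕ) :
    Nat.card {xy : G × G // orderOf xy.1 = n ∧ orderOf xy.2 = m ∧ Commute xy.1 xy.2} =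
      Nat.totient n * Nat.card {ω : Subgroup G × G // IsCyclic ω.1 ∧ Nat.card ω.1 = n ∧
        orderOf ω.2 = m ∧ ∀ c ∈ ω.1, Commute c ω.2} := by
  apply card_eq_mul_of_fibers
    (fun xy : {xy : G × G // orderOf xy.1 = n ∧ orderOf xy.2 = m ∧ Commute xy.1 xy.2} =>
      (⟨(zpowers xy.1.1, xy.1.2), inferInstance, by rw [Nat.card_zpowers]; exact xy.2.1,
        xy.2.2.1, fun c hc => by
          obtain ⟨k, rfl⟩ := mem_zpowers_iff.1 hc
          exact xy.2.2.2.zpow_left k⟩ :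
        {ω : Subgroup G × G // IsCyclic ω.1 ∧ Nat.card ω.1 = n ∧
          orderOf ω.2 = m ∧ ∀ c ∈ ω.1, Commute c ω.2}))
  rintro ⟨⟨C, y₀⟩, hC, hCcard, hy₀, hcomm⟩
  have hC' : IsCyclic C := hC
  have hCcard' : Nat.card C = n := hCcard
  have hy₀' : orderOf y₀ = m := hy₀
  have hcomm' : ∀ c ∈ C, Commute c y₀ := hcomm
  rw [← card_orderOf_eq_totient (C := C) n hCcard']
  refine Nat.card_congr
    { toFun := fun a => ⟨⟨a.1.1.1, ?_⟩, ?_⟩
      invFun := fun c => ⟨⟨(c.1.1, y₀), ?_, hy₀', hcomm' c.1.1 c.1.2⟩, ?_⟩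
      left_inv := ?_
      right_inv := ?_ }
  · have h1 : zpowers a.1.1.1 = C := congrArg (fun t => t.1.1) a.2
    have h2 := mem_zpowers a.1.1.1
    rw [h1] at h2
    exact h2
  · rw [Subgroup.orderOf_mk]; exact a.1.2.1
  · have := c.2
    rw [← Subgroup.orderOf_coe] at this
    exact this
  · apply Subtype.ext
    refine Prod.ext ?_ rfl
    show zpowers c.1.1 = C
    apply Subgroup.eq_of_le_of_card_ge (zpowers_le.2 c.1.2)
    rw [Nat.card_zpowers, hCcard', Subgroup.orderOf_coe, c.2]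
  · rintro ⟨⟨⟨x, y⟩, hx, hy, hxy⟩, hF⟩
    have h1 : y = y₀ := congrArg (fun t => t.1.2) hF
    subst h1
    rfl
  · intro c
    rfl

theorem dvd_card_T {G : Type u} [Group G] [Finite G] (p : ℕ) [hp : Fact p.Prime] (hodd : p ≠ 2)
    (P : Sylow p G) (hP : ¬ IsCyclic ↥(P : Subgroup G)) (s m : ℕ) (hs : 2 ≤ s) :
    p ∣ Nat.card {ω : Subgroup G × G // IsCyclic ω.1 ∧ Nat.card ω.1 = p ^ s ∧
        orderOf ω.2 = m ∧ ∀ c ∈ ω.1, Commute c ω.2} := by
  have h1 := card_modEq_card_fixed (p := p) P.2 (pairAct (P : Subgroup G))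
    (fun ω : Subgroup G × G => IsCyclic ω.1 ∧ Nat.card ω.1 = p ^ s ∧
        orderOf ω.2 = m ∧ ∀ c ∈ ω.1, Commute c ω.2)
    (fun q ω h => T_invariant (p ^ s) m (MulAut.conj (q : G)) ω h)
  have h3 := card_modEq_card_fixed (p := p) P.2 (subAct (P : Subgroup G))
    (fun C : Subgroup G => IsCyclic C ∧ Nat.card C = p ^ s ∧ C ≤ P)
    (fun q C h => by
      have hT := T_invariant (p ^ s) 1 (MulAut.conj (q : G)) (C, 1)
        ⟨h.1, h.2.1, orderOf_one, fun c _ => Commute.one_right c⟩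
      refine ⟨hT.1, hT.2.1, ?_⟩
      intro x hx
      have hx' : x ∈ C.map (MulAut.conj (q : G)).toMonoidHom := hx
      rw [mem_map_conj] at hx'
      have h5 := h.2.2 hx'
      have h6 := mul_mem (mul_mem q.2 h5) (inv_mem q.2)
      simpa [mul_assoc] using h6)
  have h4 : p ∣ Nat.card {C : Subgroup G // (IsCyclic C ∧ Nat.card C = p ^ s ∧ C ≤ P) ∧
      ∀ q : (P : Subgroup G), (subAct (P : Subgroup G)).toSMul.smul q C = C} :=
    (Nat.modEq_zero_iff_dvd).1
      (h3.symm.trans ((Nat.modEq_zero_iff_dvd).2 (miller_sub hodd (P : Subgroup G) P.2 hP s hs)))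
  have e : {ω : Subgroup G × G // (IsCyclic ω.1 ∧ Nat.card ω.1 = p ^ s ∧
        orderOf ω.2 = m ∧ ∀ c ∈ ω.1, Commute c ω.2) ∧
        ∀ q : (P : Subgroup G), (pairAct (P : Subgroup G)).toSMul.smul q ω = ω} ≃
      {C : Subgroup G // (IsCyclic C ∧ Nat.card C = p ^ s ∧ C ≤ P) ∧
        ∀ q : (P : Subgroup G), (subAct (P : Subgroup G)).toSMul.smul q C = C} ×
      {y : G // orderOf y = m ∧ ∀ q : (P : Subgroup G), MulAut.conj (q : G) y = y} :=
    { toFun := fun ω => (⟨ω.1.1, ⟨ω.2.1.1, ω.2.1.2.1,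
          le_sylow_of_fixed P ω.1.1 (IsPGroup.of_card ω.2.1.2.1)
            (fun q => congrArg Prod.fst (ω.2.2 q))⟩,
          fun q => congrArg Prod.fst (ω.2.2 q)⟩,
        ⟨ω.1.2, ω.2.1.2.2.1, fun q => congrArg Prod.snd (ω.2.2 q)⟩)
      invFun := fun Cy => ⟨(Cy.1.1, Cy.2.1), ⟨Cy.1.2.1.1, Cy.1.2.1.2.1, Cy.2.2.1, fun c hc => by
          have h5 := Cy.2.2.2 ⟨c, Cy.1.2.1.2.2 hc⟩
          rw [MulAut.conj_apply] at h5
          show c * Cy.2.1 = Cy.2.1 * c
          have h6 : c * Cy.2.1 * c⁻¹ = Cy.2.1 := h5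
          calc c * Cy.2.1 = c * Cy.2.1 * c⁻¹ * c := by group
            _ = Cy.2.1 * c := by rw [h6]⟩,
        fun q => Prod.ext (Cy.1.2.2 q) (Cy.2.2.2 q)⟩
      left_inv := fun ω => rfl
      right_inv := fun Cy => rfl }
  have h2 : p ∣ Nat.card {ω : Subgroup G × G // (IsCyclic ω.1 ∧ Nat.card ω.1 = p ^ s ∧
        orderOf ω.2 = m ∧ ∀ c ∈ ω.1, Commute c ω.2) ∧
        ∀ q : (P : Subgroup G), (pairAct (P : Subgroup G)).toSMul.smul q ω = ω} := by
    rw [Nat.card_congr e, Nat.card_prod]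
    exact Dvd.dvd.mul_right h4 _
  exact (Nat.modEq_zero_iff_dvd).1 (h1.trans ((Nat.modEq_zero_iff_dvd).2 h2))

/-- Number of elements of order `p^s m` is divisible by `p^s` when the Sylow `p`-subgroups are
noncyclic, `p` odd, `s ≥ 2`. -/
theorem card_elements_dvd {G : Type u} [Group G] [Finite G] (p : ℕ) [hp : Fact p.Prime]
    (hodd : p ≠ 2) (P : Sylow p G) (hP : ¬ IsCyclic ↥(P : Subgroup G)) (s m : ℕ) (hs : 1 < s)
    (hm : Nat.Coprime p m) :
    p ^ s ∣ Nat.card {g : G // orderOf g = p ^ s * m} := by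
  have hm0 : 0 < m := by
    rcases Nat.eq_zero_or_pos m with h | h
    · subst h
      have := hp.out.one_lt
      simp at hm
      omega
    · exact h
  rw [card_order_eq_card_pairs (p ^ s) m (pow_pos hp.out.pos s) hm0 (Nat.Coprime.pow_left s hm),
    card_pairs_eq, Nat.totient_prime_pow hp.out (by omega)]
  obtain ⟨k, hk⟩ := dvd_card_T p hodd P hP s m hs
  rw [hk]
  refine ⟨(p - 1) * k, ?_⟩
  have : p ^ s = p ^ (s - 1) * p := by
    rw [← pow_succ]; congr 1; omega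
  rw [this]; ring

end Cfsg.Agent.H74.Mil
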