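import Mathlib
import Cfsg.Prelude.Def_PLocal

set_option autoImplicit false

namespace Cfsg.Agent.H74

open scoped commutatorElement

/-- If `⁅x, y⁆ ∈ T` and `T` is invariant under conjugation by `closure {x, y}`, then the derived
subgroup of `closure {x, y}` lies in `T`. -/
theorem commutator_closure_pair_le {G : Type*} [Group G] (x y : G) (T : Subgroup G)
    (hT : ∀ k ∈ Subgroup.closure ({x, y} : Set G), ∀ t ∈ T, k * t * k⁻¹ ∈ T)
    (hxy : ⁅x, y⁆ ∈ T) :
    ⁅Subgroup.closure ({x, y} : Set G), Subgroup.closure ({x, y} : Set G)⁆ ≤ T := by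
  set K := Subgroup.closure ({x, y} : Set G) with hK
  have hxK : x ∈ K := Subgroup.subset_closure (by simp)
  have hyK : y ∈ K := Subgroup.subset_closure (by simp)
  have hyx : ⁅y, x⁆ ∈ T := by
    have : ⁅y, x⁆ = ⁅x, y⁆⁻¹ := by
      rw [commutatorElement_def, commutatorElement_def]; group
    rw [this]; exact T.inv_mem hxy
  -- step 1: generators against K
  have step1 : ∀ g ∈ ({x, y} : Set G), ∀ h ∈ K, ⁅g, h⁆ ∈ T := by
    intro g hg h hh
    have hgK : g ∈ K := Subgroup.subset_closure hg
    induction hh using Subgroup.closure_induction with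
    | mem h hh =>
      rcases hg with rfl | rfl <;> rcases hh with rfl | rfl
      · simp
      · exact hxy
      · exact hyx
      · simp
    | one => simp
    | mul h₁ h₂ hh₁ hh₂ ih₁ ih₂ =>
      have : ⁅g, h₁ * h₂⁆ = ⁅g, h₁⁆ * (h₁ * ⁅g, h₂⁆ * h₁⁻¹) := by
        simp only [commutatorElement_def]; group
      rw [this]
      exact T.mul_mem ih₁ (hT h₁ hh₁ _ ih₂)
    | inv h hh ih =>
      have : ⁅g, h⁻¹⁆ = h⁻¹ * ⁅g, h⁆⁻¹ * (h⁻¹)⁻¹ := by
        simp only [commutatorElement_def]; group
      rw [this]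
      exact hT h⁻¹ (K.inv_mem hh) _ (T.inv_mem ih)
  -- step 2: K against K
  have step2 : ∀ g ∈ K, ∀ h ∈ K, ⁅g, h⁆ ∈ T := by
    intro g hg h hh
    induction hg using Subgroup.closure_induction with
    | mem g hg => exact step1 g hg h hh
    | one => simp
    | mul g₁ g₂ hg₁ hg₂ ih₁ ih₂ =>
      have : ⁅g₁ * g₂, h⁆ = (g₁ * ⁅g₂, h⁆ * g₁⁻¹) * ⁅g₁, h⁆ := by
        simp only [commutatorElement_def]; group
      rw [this]
      exact T.mul_mem (hT g₁ hg₁ _ ih₂) ih₁
    | inv g hg ih =>
      have : ⁅g⁻¹, h⁆ = g⁻¹ * ⁅g, h⁆⁻¹ * (g⁻¹)⁻¹ := by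
        simp only [commutatorElement_def]; group
      rw [this]
      exact hT g⁻¹ (K.inv_mem hg) _ (T.inv_mem ih)
  exact Subgroup.commutator_le.mpr step2

theorem closure_pair_inv {G : Type*} [Group G] (x y : G) :
    Subgroup.closure ({x, y⁻¹} : Set G) = Subgroup.closure ({x, y} : Set G) := by
  apply le_antisymm
  · rw [Subgroup.closure_le]
    rintro z (rfl | rfl)
    · exact Subgroup.subset_closure (by simp)
    · exact Subgroup.inv_mem _ (Subgroup.subset_closure (by simp))
  · rw [Subgroup.closure_le]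
    rintro z (rfl | rfl)
    · exact Subgroup.subset_closure (by simp)
    · have : z⁻¹ ∈ Subgroup.closure ({x, z⁻¹} : Set G) := Subgroup.subset_closure (by simp)
      simpa using Subgroup.inv_mem _ this

/-- In a finite `p`-group, if `a` and `b` do not commute then `⟨a, b⁻¹ab⟩` is a proper subgroup
of `⟨a, b⟩`. -/
theorem closure_conj_lt_of_not_commute {G : Type*} [Group G] [Finite G] {p : ℕ} [Fact p.Prime]
    (hG : IsPGroup p G) (a b : G) (hab : a * b ≠ b * a) :
    Subgroup.closure ({a, b⁻¹ * a * b} : Set G) < Subgroup.closure ({a, b} : Set G) := by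
  set K := Subgroup.closure ({a, b} : Set G) with hK
  have haK : a ∈ K := Subgroup.subset_closure (by simp)
  have hbK : b ∈ K := Subgroup.subset_closure (by simp)
  have : Group.IsNilpotent K := (hG.to_subgroup K).isNilpotent
  -- the cyclic subgroup generated by a inside K is proper
  set Z : Subgroup K := Subgroup.zpowers (⟨a, haK⟩ : K) with hZ
  have hZtop : Z ≠ ⊤ := by
    intro h
    have hb : (⟨b, hbK⟩ : K) ∈ Z := by rw [h]; trivial
    rw [hZ, Subgroup.mem_zpowers_iff] at hb
    obtain ⟨k, hk⟩ := hb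
    have hk' : a ^ k = b := by
      have := congrArg Subtype.val hk
      simpa using this
    apply hab
    rw [← hk']
    exact (Commute.zpow_right (Commute.refl a) k).eq
  obtain ⟨M, hM, hZM⟩ := (eq_top_or_exists_le_coatom Z).resolve_left hZtop
  have hMn : M.Normal :=
    Subgroup.NormalizerCondition.normal_of_coatom M (Group.normalizerCondition_of_isNilpotent (G := K)) hM
  have haM : (⟨a, haK⟩ : K) ∈ M := hZM (Subgroup.mem_zpowers _)
  have hcM : (⟨b⁻¹ * a * b, K.mul_mem (K.mul_mem (K.inv_mem hbK) haK) hbK⟩ : K) ∈ M := by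
    have e : (⟨b⁻¹ * a * b, K.mul_mem (K.mul_mem (K.inv_mem hbK) haK) hbK⟩ : K) =
        (⟨b, hbK⟩ : K)⁻¹ * ⟨a, haK⟩ * ((⟨b, hbK⟩ : K)⁻¹)⁻¹ := by
      ext; simp
    rw [e]
    exact hMn.conj_mem _ haM (⟨b, hbK⟩ : K)⁻¹
  have hle : Subgroup.closure ({a, b⁻¹ * a * b} : Set G) ≤ M.map K.subtype := by
    rw [Subgroup.closure_le]
    rintro z (rfl | rfl)
    · exact ⟨_, haM, rfl⟩
    · exact ⟨_, hcM, rfl⟩
  have hlt : M.map K.subtype < K := by
    refine lt_of_le_of_ne (Subgroup.map_subtype_le M) ?_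
    intro h
    apply hM.1
    rw [eq_top_iff]
    intro z _
    have hz : (z : G) ∈ M.map K.subtype := by rw [h]; exact z.2
    obtain ⟨w, hw, hwz⟩ := hz
    have : w = z := Subtype.ext hwz
    rwa [← this]
  exact lt_of_le_of_lt hle hlt

/-- The derived subgroup of a nontrivial subgroup of a finite `p`-group is a proper subgroup. -/
theorem commutator_lt_of_ne_bot {G : Type*} [Group G] [Finite G] {p : ℕ} [Fact p.Prime]
    (hG : IsPGroup p G) (K : Subgroup G) (hK : K ≠ ⊥) : ⁅K, K⁆ < K := by
  have : Group.IsNilpotent K := (hG.to_subgroup K).isNilpotent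
  have : Nontrivial K := (Subgroup.nontrivial_iff_ne_bot K).mpr hK
  have h1 : commutator K < ⊤ := Group.IsSolvable.commutator_lt_top_of_nontrivial K
  rw [← Subgroup.map_subtype_commutator]
  refine lt_of_le_of_ne (Subgroup.map_subtype_le _) ?_
  intro h
  apply h1.ne
  rw [eq_top_iff]
  intro z _
  have hz : (z : G) ∈ (commutator K).map K.subtype := by rw [h]; exact z.2
  obtain ⟨w, hw, hwz⟩ := hz
  have : w = z := Subtype.ext hwz
  rwa [← this]

theorem conj_mem_commutator_self {G : Type*} [Group G] (K : Subgroup G) (k : G) (hk : k ∈ K)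
    (d : G) (hd : d ∈ ⁅K, K⁆) : k * d * k⁻¹ ∈ ⁅K, K⁆ := by
  have h1 : K.map (MulAut.conj k).toMonoidHom = K := by
    have := (Subgroup.mem_normalizer_iff_map_conj_eq (H := K) (g := k)).mp (Subgroup.le_normalizer hk)
    exact this
  have h2 : (⁅K, K⁆).map (MulAut.conj k).toMonoidHom = ⁅K, K⁆ := by
    rw [Subgroup.map_commutator, h1]
  rw [← h2]
  exact ⟨d, hd, by simp⟩

/-- The main theorem on regular `p`-groups: `a ^ q = b ^ q ↔ (a * b⁻¹) ^ q = 1` for `q = p ^ k`,
by induction on the order of a subgroup containing `a` and `b`. -/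
theorem regular_pow_eq_iff_aux {G : Type*} [Group G] [Finite G] {p : ℕ} [Fact p.Prime]
    (hG : Cfsg.IsRegularPGroup p G) :
    ∀ (n : ℕ) (H : Subgroup G), Nat.card H = n → ∀ a ∈ H, ∀ b ∈ H, ∀ k : ℕ,
      a ^ p ^ k = b ^ p ^ k ↔ (a * b⁻¹) ^ p ^ k = 1 := by
  intro n
  induction n using Nat.strong_induction_on with
  | _ n ih =>
    intro H hH a ha b hb k
    set q := p ^ k with hq
    -- main lemma: the derived subgroup of ⟨x, y⟩ has exponent dividing q
    have main : ∀ x ∈ H, ∀ y ∈ H, x ^ q = (y⁻¹ * x * y) ^ q →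
        ∀ d ∈ ⁅Subgroup.closure ({x, y} : Set G), Subgroup.closure ({x, y} : Set G)⁆, d ^ q = 1 := by
      intro x hx y hy hxy
      set K := Subgroup.closure ({x, y} : Set G) with hK
      have hKH : K ≤ H := by
        rw [hK, Subgroup.closure_le]
        rintro z (rfl | rfl)
        · exact hx
        · exact hy
      set D := ⁅K, K⁆ with hD
      by_cases hDbot : D = ⊥
      · intro d hd
        rw [hDbot, Subgroup.mem_bot] at hd
        rw [hd, one_pow]
      have hKbot : K ≠ ⊥ := by
        intro h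
        apply hDbot
        rw [hD, h]
        exact Subgroup.commutator_bot_left _
      have hDK : D < K := commutator_lt_of_ne_bot hG.1 K hKbot
      have hDcard : Nat.card D < n := by
        have h1 : Nat.card D < Nat.card K := by
          by_contra hcon
          exact hDK.ne (Subgroup.eq_of_le_of_card_ge hDK.le (not_lt.mp hcon))
        have h2 : Nat.card K ≤ Nat.card H := Subgroup.card_le_of_le hKH
        omega
      -- the commutator ⁅x, y⁻¹⁆ has q-th power 1
      have hc : ⁅x, y⁻¹⁆ ^ q = 1 := by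
        by_cases hcomm : x * y = y * x
        · have : ⁅x, y⁻¹⁆ = 1 := by
            rw [commutatorElement_def]
            have h1 : x * y⁻¹ = y⁻¹ * x := by
              have := congrArg (fun z => y⁻¹ * z * y⁻¹) hcomm
              simp only [mul_assoc, mul_inv_cancel, mul_one, inv_mul_cancel_left] at this
              exact this.symm
            rw [h1]; group
          rw [this, one_pow]
        · have hlt := closure_conj_lt_of_not_commute hG.1 x y hcomm
          set K₁ := Subgroup.closure ({x, y⁻¹ * x * y} : Set G) with hK₁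
          have hK₁card : Nat.card K₁ < n := by
            have h1 : Nat.card K₁ < Nat.card K := by
              by_contra hcon
              exact hlt.ne (Subgroup.eq_of_le_of_card_ge hlt.le (not_lt.mp hcon))
            have h2 : Nat.card K ≤ Nat.card H := Subgroup.card_le_of_le hKH
            omega
          have h3 := (ih _ hK₁card K₁ rfl x (Subgroup.subset_closure (by simp))
            (y⁻¹ * x * y) (Subgroup.subset_closure (by simp)) k).mp hxy
          have h4 : x * (y⁻¹ * x * y)⁻¹ = ⁅x, y⁻¹⁆ := by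
            rw [commutatorElement_def]; group
          rw [← h4]; exact h3
      -- the subgroup T of elements of D with q-th power 1
      have hB : ∀ s ∈ D, ∀ t ∈ D, s ^ q = 1 → t ^ q = 1 → (s * t) ^ q = 1 := by
        intro s hs t ht hs1 ht1
        have h5 := (ih _ hDcard D rfl s hs t⁻¹ (D.inv_mem ht) k).mp (by
          rw [inv_pow]
          show s ^ q = (t ^ q)⁻¹
          rw [hs1, ht1, inv_one])
        simpa using h5
      let T : Subgroup G :=
        { carrier := {d | d ∈ D ∧ d ^ q = 1}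
          one_mem' := ⟨D.one_mem, one_pow q⟩
          mul_mem' := by
            rintro s t ⟨hs, hs1⟩ ⟨ht, ht1⟩
            exact ⟨D.mul_mem hs ht, hB s hs t ht hs1 ht1⟩
          inv_mem' := by
            rintro s ⟨hs, hs1⟩
            exact ⟨D.inv_mem hs, by rw [inv_pow, hs1, inv_one]⟩ }
      have hTmem : ∀ d, d ∈ T ↔ d ∈ D ∧ d ^ q = 1 := fun d => Iff.rfl
      have hK' : Subgroup.closure ({x, y⁻¹} : Set G) = K := closure_pair_inv x y
      have hTinv : ∀ k' ∈ Subgroup.closure ({x, y⁻¹} : Set G), ∀ t ∈ T, k' * t * k'⁻¹ ∈ T := by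
        intro k' hk' t ht
        rw [hK'] at hk'
        rw [hTmem] at ht ⊢
        exact ⟨conj_mem_commutator_self K k' hk' t ht.1, by rw [conj_pow, ht.2]; group⟩
      have hcT : ⁅x, y⁻¹⁆ ∈ T := by
        rw [hTmem]
        refine ⟨?_, hc⟩
        have hxK : x ∈ K := Subgroup.subset_closure (by simp)
        have hyK : y ∈ K := Subgroup.subset_closure (by simp)
        exact Subgroup.commutator_mem_commutator hxK (K.inv_mem hyK)
      have hle := commutator_closure_pair_le x y⁻¹ T hTinv hcT
      rw [hK'] at hle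
      intro d hd
      exact ((hTmem d).mp (hle hd)).2
    -- consequence: the regularity error term vanishes
    have reg : ∀ x ∈ H, ∀ y ∈ H, x ^ q = (y⁻¹ * x * y) ^ q → (x * y) ^ q = x ^ q * y ^ q := by
      intro x hx y hy hxy
      obtain ⟨c, hc, hceq⟩ := hG.2 x y k
      have hexp := main x hx y hy hxy
      have hc1 : c = 1 := by
        have hle : Cfsg.powerClosure p k ⁅Subgroup.closure ({x, y} : Set G),
            Subgroup.closure ({x, y} : Set G)⁆ ≤ ⊥ := by
          rw [Cfsg.powerClosure, Subgroup.closure_le]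
          rintro z ⟨w, hw, rfl⟩
          simp only [SetLike.mem_coe, Subgroup.mem_bot]
          exact hexp w hw
        exact (Subgroup.mem_bot).mp (hle hc)
      rw [hceq, hc1, mul_one]
    constructor
    · intro hab
      -- a^q = b^q, so a^q = (b a b⁻¹)^q; apply `reg` to the pair (a, b⁻¹)
      have h1 : a ^ q = ((b⁻¹)⁻¹ * a * b⁻¹) ^ q := by
        rw [inv_inv, conj_pow, hab]; group
      have h2 := reg a ha b⁻¹ (H.inv_mem hb) h1
      rw [h2, hab, inv_pow, mul_inv_cancel]
    · intro hab
      -- u = a b⁻¹ has u^q = 1; apply `reg` to the pair (u, b)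
      have h1 : (a * b⁻¹) ^ q = (b⁻¹ * (a * b⁻¹) * b) ^ q := by
        have : (b⁻¹ * (a * b⁻¹) * b) ^ q = b⁻¹ * (a * b⁻¹) ^ q * (b⁻¹)⁻¹ := by
          rw [← conj_pow]; simp
        rw [this, hab]; group
      have h2 := reg (a * b⁻¹) (H.mul_mem ha (H.inv_mem hb)) b hb h1
      rw [hab, one_mul] at h2
      rw [← h2]
      congr 1
      group

/-- In a regular `p`-group: `a ^ (p ^ k) = b ^ (p ^ k) ↔ (a * b⁻¹) ^ (p ^ k) = 1`. -/
theorem regular_pow_eq_iff {G : Type*} [Group G] [Finite G] {p : ℕ} [Fact p.Prime]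
    (hG : Cfsg.IsRegularPGroup p G) (a b : G) (k : ℕ) :
    a ^ p ^ k = b ^ p ^ k ↔ (a * b⁻¹) ^ p ^ k = 1 :=
  regular_pow_eq_iff_aux hG _ ⊤ rfl a (Subgroup.mem_top a) b (Subgroup.mem_top b) k

end Cfsg.Agent.H74
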