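import Mathlib

set_option autoImplicit false
set_option linter.unusedSectionVars false

/-!
# Schur-ring style arguments for a regular cyclic subgroup (helper74)

`CSetup G Ω n` : a bijection `e : ZMod n ≃ Ω` and an element `c : G` with `c • e j = e (j + 1)`.
`act x i = e⁻¹ (x • e i)` is the transported action of `G` on `ZMod n`.
A set `T ⊆ ZMod n` is `Inv` if it is invariant under the stabilizer of `0`.
-/

namespace Cfsg.Agent.H74.SR

open scoped Pointwise

/-- cyclic regular setup. -/
structure CSetup (G Ω : Type*) [Group G] [MulAction G Ω] (n : ℕ) where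
  c : G
  e : ZMod n ≃ Ω
  he : ∀ j : ZMod n, c • e j = e (j + 1)

variable {G Ω : Type*} [Group G] [MulAction G Ω] {n : ℕ} [NeZero n] (S : CSetup G Ω n)

namespace CSetup

/-- transported action on `ZMod n`. -/
def act (x : G) (i : ZMod n) : ZMod n := S.e.symm (x • S.e i)

lemma e_act (x : G) (i : ZMod n) : S.e (S.act x i) = x • S.e i := by
  simp [act]

lemma act_one (i : ZMod n) : S.act 1 i = i := by simp [act]

lemma act_mul (x y : G) (i : ZMod n) : S.act (x * y) i = S.act x (S.act y i) := by
  simp [act, mul_smul]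

lemma act_inv_act (x : G) (i : ZMod n) : S.act x⁻¹ (S.act x i) = i := by
  rw [← act_mul]; simp [act_one]

lemma act_act_inv (x : G) (i : ZMod n) : S.act x (S.act x⁻¹ i) = i := by
  rw [← act_mul]; simp [act_one]

lemma act_injective (x : G) : Function.Injective (S.act x) := by
  intro i j h
  have := congrArg (S.act x⁻¹) h
  simpa [act_inv_act] using this

/-- `act x` as an equivalence. -/
def actEquiv (x : G) : ZMod n ≃ ZMod n where
  toFun := S.act x
  invFun := S.act x⁻¹
  left_inv := S.act_inv_act x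
  right_inv := S.act_act_inv x

@[simp] lemma actEquiv_apply (x : G) (i : ZMod n) : S.actEquiv x i = S.act x i := rfl

lemma act_c (i : ZMod n) : S.act S.c i = i + 1 := by
  simp [act, S.he]

lemma act_c_pow (k : ℕ) (i : ZMod n) : S.act (S.c ^ k) i = i + k := by
  induction k with
  | zero => simp [act_one]
  | succ k ih => rw [pow_succ', act_mul, act_c, ih]; push_cast; ring

lemma exists_transl (a : ZMod n) : ∃ y : G, ∀ i, S.act y i = i + a := by
  refine ⟨S.c ^ a.val, fun i => ?_⟩
  rw [act_c_pow, ZMod.natCast_zmod_val]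

/-- the basic "difference" lemma. -/
lemma L0 (x : G) (i : ZMod n) :
    ∃ y : G, S.act y 0 = 0 ∧ ∀ k, S.act y (k - i) = S.act x k - S.act x i := by
  obtain ⟨u, hu⟩ := S.exists_transl (- S.act x i)
  obtain ⟨v, hv⟩ := S.exists_transl i
  have key : ∀ k, S.act (u * x * v) (k - i) = S.act x k - S.act x i := by
    intro k
    rw [act_mul, act_mul, hv, hu, sub_add_cancel, sub_eq_add_neg]
  refine ⟨u * x * v, ?_, key⟩
  have := key i
  simpa using this

/-- invariance under the stabilizer of `0`. -/
def Inv (T : Set (ZMod n)) : Prop := ∀ x : G, S.act x 0 = 0 → ∀ i ∈ T, S.act x i ∈ T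

variable {S}

lemma act_inv_zero {x : G} (hx : S.act x 0 = 0) : S.act x⁻¹ 0 = 0 := by
  have := S.act_inv_act x 0
  rwa [hx] at this

lemma Inv.iff {T : Set (ZMod n)} (hT : S.Inv T) {x : G} (hx : S.act x 0 = 0) (i : ZMod n) :
    S.act x i ∈ T ↔ i ∈ T := by
  refine ⟨fun h => ?_, hT x hx i⟩
  have := hT x⁻¹ (act_inv_zero hx) _ h
  rwa [act_inv_act] at this

lemma Inv.sub_iff {T : Set (ZMod n)} (hT : S.Inv T) (x : G) (i j : ZMod n) :
    S.act x j - S.act x i ∈ T ↔ j - i ∈ T := by
  obtain ⟨y, hy0, hy⟩ := S.L0 x i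
  rw [← hy j]
  exact hT.iff hy0 _

lemma Inv.compl {T : Set (ZMod n)} (hT : S.Inv T) : S.Inv Tᶜ := by
  intro x hx i hi h
  exact hi ((hT.iff hx i).1 h)

lemma Inv.inter {T U : Set (ZMod n)} (hT : S.Inv T) (hU : S.Inv U) : S.Inv (T ∩ U) :=
  fun x hx i hi => ⟨hT x hx i hi.1, hU x hx i hi.2⟩

lemma Inv.neg {T : Set (ZMod n)} (hT : S.Inv T) : S.Inv {k | -k ∈ T} := by
  intro x hx i hi
  have := (hT.sub_iff x i 0).2 (by simpa using hi)
  simpa [hx] using this

lemma inv_singleton_zero : S.Inv ({0} : Set (ZMod n)) := by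
  intro x hx i hi
  rw [Set.mem_singleton_iff] at hi ⊢
  rw [hi, hx]

variable (S)

/-- orbit of `i` under the stabilizer of `0`. -/
def orb (i : ZMod n) : Set (ZMod n) := {j | ∃ x : G, S.act x 0 = 0 ∧ S.act x i = j}

variable {S}

lemma mem_orb_self (i : ZMod n) : i ∈ S.orb i := ⟨1, S.act_one 0, S.act_one i⟩

lemma inv_orb (i : ZMod n) : S.Inv (S.orb i) := by
  rintro x hx j ⟨y, hy, rfl⟩
  exact ⟨x * y, by rw [act_mul, hy, hx], by rw [act_mul]⟩

lemma Inv.orb_subset {T : Set (ZMod n)} (hT : S.Inv T) {i : ZMod n} (hi : i ∈ T) :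
    S.orb i ⊆ T := by
  rintro j ⟨x, hx, rfl⟩
  exact hT x hx i hi

lemma orb_eq_of_mem {i j : ZMod n} (hj : j ∈ S.orb i) : S.orb j = S.orb i := by
  apply Set.Subset.antisymm
  · exact (inv_orb i).orb_subset hj
  · obtain ⟨x, hx, rfl⟩ := hj
    apply (inv_orb _).orb_subset
    exact ⟨x⁻¹, act_inv_zero hx, S.act_inv_act x i⟩

lemma zero_not_mem_orb {i : ZMod n} (hi : i ≠ 0) : (0 : ZMod n) ∉ S.orb i := by
  rintro ⟨x, hx, hxi⟩
  exact hi (S.act_injective x (hxi.trans hx.symm))

/-- an invariant subgroup gives a block; so it is trivial when the action is primitive. -/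
lemma prim_subgroup [MulAction.IsPreprimitive G Ω] (M : AddSubgroup (ZMod n))
    (hM : S.Inv (M : Set (ZMod n))) : M = ⊥ ∨ M = ⊤ := by
  have hblock : MulAction.IsBlock G (S.e '' (M : Set (ZMod n))) := by
    rw [MulAction.isBlock_iff_smul_eq_of_mem]
    rintro g a ⟨i, hi, rfl⟩ hga
    obtain ⟨j, hj, hj'⟩ := hga
    -- g • e i = e j
    have hact : S.act g i = j := by
      rw [act, ← hj']; simp
    have hsub : ∀ x : G, ∀ i' j' : ZMod n, i' ∈ M → j' ∈ M → S.act x i' = j' →
        x • (S.e '' (M : Set (ZMod n))) ⊆ S.e '' (M : Set (ZMod n)) := by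
      intro x i' j' hi' hj' hx
      rintro _ ⟨_, ⟨k, hk, rfl⟩, rfl⟩
      refine ⟨S.act x k, ?_, S.e_act x k⟩
      have h1 : S.act x k - S.act x i' ∈ (M : Set (ZMod n)) :=
        (hM.sub_iff x i' k).2 (M.sub_mem hk hi')
      have : S.act x k = (S.act x k - S.act x i') + j' := by rw [hx]; ring
      rw [this]
      exact M.add_mem h1 hj'
    apply Set.Subset.antisymm (hsub g i j hi hj hact)
    have h2 := hsub g⁻¹ j i hj hi (by rw [← hact, act_inv_act])
    intro a ha
    have := h2 (Set.smul_mem_smul_set (a := g⁻¹) ha)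
    have h3 := Set.smul_mem_smul_set (a := g) this
    simpa using h3
  rcases MulAction.IsPreprimitive.isTrivialBlock_of_isBlock hblock with h | h
  · left
    rw [eq_bot_iff]
    intro k hk
    have := h (Set.mem_image_of_mem S.e hk) (Set.mem_image_of_mem S.e (M.zero_mem))
    rw [AddSubgroup.mem_bot]
    exact S.e.injective this
  · right
    rw [eq_top_iff]
    intro k _
    have : S.e k ∈ S.e '' (M : Set (ZMod n)) := by rw [h]; trivial
    obtain ⟨k', hk', hkk⟩ := this
    rwa [← S.e.injective hkk]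

/-- the subgroup generated by an invariant set is invariant. -/
lemma Inv.closure {T : Set (ZMod n)} (hT : S.Inv T) :
    S.Inv ((AddSubgroup.closure T : AddSubgroup (ZMod n)) : Set (ZMod n)) := by
  intro x hx k hk
  have key : ∀ k ∈ AddSubgroup.closure T, ∀ x : G, S.act x 0 = 0 →
      S.act x k ∈ AddSubgroup.closure T := by
    intro k hk
    induction hk using AddSubgroup.closure_induction with
    | mem t ht => intro x hx; exact AddSubgroup.subset_closure (hT x hx t ht)
    | zero => intro x hx; rw [hx]; exact AddSubgroup.zero_mem _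
    | add a b _ _ iha ihb =>
      intro x hx
      obtain ⟨y, hy0, hy⟩ := S.L0 x a
      have h1 := hy (a + b)
      rw [add_sub_cancel_left] at h1
      have : S.act x (a + b) = S.act x a + S.act y b := by rw [h1]; ring
      rw [this]
      exact AddSubgroup.add_mem _ (iha x hx) (ihb y hy0)
    | neg a _ iha =>
      intro x hx
      obtain ⟨y, hy0, hy⟩ := S.L0 x (-a)
      have h1 := hy 0
      rw [zero_sub, neg_neg, hx, zero_sub] at h1
      have : S.act x (-a) = - S.act y a := by rw [h1]; ring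
      rw [this]
      exact AddSubgroup.neg_mem _ (iha y hy0)
  exact key k hk x hx

/-- in a primitive action, an invariant set inside a proper subgroup is inside `{0}`. -/
lemma Inv.subset_zero_of_le [MulAction.IsPreprimitive G Ω] {T : Set (ZMod n)} (hT : S.Inv T)
    (M : AddSubgroup (ZMod n)) (hM : M ≠ ⊤) (hTM : T ⊆ M) : T ⊆ {0} := by
  rcases prim_subgroup (S := S) (AddSubgroup.closure T) hT.closure with h | h
  · intro t ht
    have : t ∈ AddSubgroup.closure T := AddSubgroup.subset_closure ht
    rw [h, AddSubgroup.mem_bot] at this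
    exact this
  · exfalso
    apply hM
    rw [eq_top_iff, ← h]
    exact (AddSubgroup.closure_le M).2 hTM

end CSetup

end Cfsg.Agent.H74.SR
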