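import Cfsg.Agent.H74.SRingFrob

set_option autoImplicit false
set_option linter.unusedSectionVars false

/-!
# Consequences of the Frobenius step (helper74)
-/

namespace Cfsg.Agent.H74.SR

open scoped Pointwise

variable {G Ω : Type*} [Group G] [MulAction G Ω] {n : ℕ} [NeZero n] {S : CSetup G Ω n}

/-- multiplication of a finset by a natural number. -/
def sc (a : ℕ) (T : Finset (ZMod n)) : Finset (ZMod n) := T.image (fun t => a • t)

lemma mem_sc {a : ℕ} {T : Finset (ZMod n)} {k : ZMod n} : k ∈ sc a T ↔ ∃ t ∈ T, a • t = k := by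
  simp [sc]

lemma nsmul_injective_of_coprime {a : ℕ} (ha : a.Coprime n) :
    Function.Injective (fun t : ZMod n => a • t) := by
  intro t t' h
  simp only [nsmul_eq_mul] at h
  exact ((ZMod.isUnit_iff_coprime a n).2 ha).mul_left_cancel h

lemma card_sc {a : ℕ} (ha : a.Coprime n) (T : Finset (ZMod n)) : (sc a T).card = T.card :=
  Finset.card_image_of_injective _ (nsmul_injective_of_coprime ha)

lemma sc_one (T : Finset (ZMod n)) : sc 1 T = T := by
  simp [sc]

lemma sc_mul (a b : ℕ) (T : Finset (ZMod n)) : sc (a * b) T = sc a (sc b T) := by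
  simp only [sc, Finset.image_image]
  congr 1
  funext t
  exact mul_nsmul' t a b

/-- (C1) multiplication by a prime not dividing `n` preserves invariance. -/
lemma inv_sc_prime (q : ℕ) [Fact q.Prime] (hq : q.Coprime n) {T : Finset (ZMod n)}
    (hT : S.Inv (T : Set (ZMod n))) : S.Inv ((sc q T : Finset (ZMod n)) : Set (ZMod n)) := by
  intro x hx k hk
  rw [Finset.mem_coe, mem_sc] at hk ⊢
  obtain ⟨t₀, ht₀, rfl⟩ := hk
  have hone : (T.filter (fun t => q • t = q • t₀)).card = 1 := by
    rw [Finset.card_eq_one]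
    refine ⟨t₀, ?_⟩
    ext t
    simp only [Finset.mem_filter, Finset.mem_singleton]
    constructor
    · rintro ⟨_, h⟩; exact nsmul_injective_of_coprime hq h
    · rintro rfl; exact ⟨ht₀, rfl⟩
  have h := frob_count q hT x hx (q • t₀)
  rw [hone, Nat.cast_one] at h
  have hne : (T.filter (fun t => q • t = S.act x (q • t₀))).card ≠ 0 := by
    intro h0
    rw [h0, Nat.cast_zero] at h
    have : Fact (1 < q) := ⟨(Fact.out : q.Prime).one_lt⟩
    exact zero_ne_one h
  obtain ⟨t, ht⟩ := Finset.card_pos.1 (Nat.pos_of_ne_zero hne)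
  rw [Finset.mem_filter] at ht
  exact ⟨t, ht.1, ht.2⟩

/-- (C3) multiplication by any natural number coprime to `n` preserves invariance. -/
lemma inv_sc (hn : 1 < n) (a : ℕ) (ha : a.Coprime n) {T : Finset (ZMod n)}
    (hT : S.Inv (T : Set (ZMod n))) : S.Inv ((sc a T : Finset (ZMod n)) : Set (ZMod n)) := by
  induction a using induction_on_primes generalizing T with
  | zero =>
    exfalso
    rw [Nat.coprime_zero_left] at ha
    omega
  | one => rw [sc_one]; exact hT
  | prime_mul p a hp ih =>
    have h1 : p.Coprime n := Nat.Coprime.coprime_dvd_left (Dvd.intro _ rfl) ha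
    have h2 : a.Coprime n := Nat.Coprime.coprime_dvd_left (Dvd.intro_left _ rfl) ha
    rw [sc_mul]
    have : Fact p.Prime := ⟨hp⟩
    exact inv_sc_prime p h1 (ih h2 hT)

/-- the subgroup of multiples of `q`. -/
def mulSub (n q : ℕ) : AddSubgroup (ZMod n) := (nsmulAddMonoidHom (α := ZMod n) q).range

lemma mem_mulSub {q : ℕ} {k : ZMod n} : k ∈ mulSub n q ↔ ∃ t : ZMod n, q • t = k := by
  simp [mulSub, AddMonoidHom.mem_range]

lemma mulSub_ne_top {q : ℕ} (hq : q.Prime) (hqn : q ∣ n) : mulSub n q ≠ ⊤ := by
  intro h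
  have h1 : (1 : ZMod n) ∈ mulSub n q := by rw [h]; trivial
  obtain ⟨t, ht⟩ := mem_mulSub.1 h1
  rw [nsmul_eq_mul] at ht
  have hu : IsUnit (q : ZMod n) := IsUnit.of_mul_eq_one _ ht
  rw [ZMod.isUnit_iff_coprime] at hu
  have : q ∣ 1 := by
    have := Nat.dvd_gcd (dvd_refl q) hqn
    rwa [hu] at this
  exact hq.one_lt.ne' (Nat.dvd_one.1 this)

/-- the kernel of multiplication by `q` has at most `q` elements when `q ∣ n`. -/
lemma card_ker_le {q : ℕ} (hq : 0 < q) (hqn : q ∣ n) :
    (Finset.univ.filter (fun w : ZMod n => q • w = 0)).card ≤ q := by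
  obtain ⟨d, hd⟩ := hqn
  have hn0 : n ≠ 0 := NeZero.ne n
  have hd0 : 0 < d := by
    rcases Nat.eq_zero_or_pos d with h | h
    · rw [h, mul_zero] at hd; exact absurd hd hn0
    · exact h
  have hsub : Finset.univ.filter (fun w : ZMod n => q • w = 0) ⊆
      (Finset.range q).image (fun j : ℕ => ((d * j : ℕ) : ZMod n)) := by
    intro w hw
    rw [Finset.mem_filter] at hw
    have h1 : ((q * w.val : ℕ) : ZMod n) = 0 := by
      rw [Nat.cast_mul, ZMod.natCast_zmod_val, ← nsmul_eq_mul]; exact hw.2
    rw [ZMod.natCast_eq_zero_iff] at h1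
    have h1' : q * d ∣ q * w.val := by rw [← hd]; exact h1
    have h2 : d ∣ w.val := (Nat.mul_dvd_mul_iff_left hq).1 h1'
    obtain ⟨j, hj⟩ := h2
    rw [Finset.mem_image]
    refine ⟨j, ?_, ?_⟩
    · rw [Finset.mem_range]
      have hlt : d * j < d * q := by
        have := ZMod.val_lt w
        rw [hj] at this
        calc d * j < n := this
          _ = d * q := by rw [hd, mul_comm]
      exact lt_of_mul_lt_mul_left hlt (Nat.zero_le d)
    · rw [← hj, ZMod.natCast_zmod_val]
  calc _ ≤ ((Finset.range q).image (fun j : ℕ => ((d * j : ℕ) : ZMod n))).card :=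
        Finset.card_le_card hsub
    _ ≤ (Finset.range q).card := Finset.card_image_le
    _ = q := Finset.card_range q

/-- (C2) for a prime `q ∣ n` in a primitive action: an invariant set is, away from the kernel of
multiplication by `q`, a union of cosets of that kernel. -/
lemma inv_add_ker [MulAction.IsPreprimitive G Ω] (q : ℕ) [Fact q.Prime] (hqn : q ∣ n)
    {T : Finset (ZMod n)} (hT : S.Inv (T : Set (ZMod n))) {t w : ZMod n} (ht : t ∈ T)
    (htq : q • t ≠ 0) (hw : q • w = 0) : t + w ∈ T := by
  classical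
  have hq : q.Prime := Fact.out
  -- the set of `k` with count not divisible by `q` is invariant and inside `mulSub n q`
  have hU : S.Inv {k : ZMod n | ¬ q ∣ (T.filter (fun t => q • t = k)).card} := by
    intro x hx k hk
    simp only [Set.mem_ofPred_eq] at hk ⊢
    have h := frob_count q hT x hx k
    intro hdiv
    apply hk
    rw [← ZMod.natCast_eq_zero_iff] at hdiv ⊢
    rw [← h, hdiv]
  have hUsub : {k : ZMod n | ¬ q ∣ (T.filter (fun t => q • t = k)).card} ⊆
      ((mulSub n q : AddSubgroup (ZMod n)) : Set (ZMod n)) := by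
    intro k hk
    simp only [Set.mem_ofPred_eq] at hk
    have hne : (T.filter (fun t => q • t = k)).card ≠ 0 := by
      intro h0; apply hk; rw [h0]; exact dvd_zero q
    obtain ⟨t', ht'⟩ := Finset.card_pos.1 (Nat.pos_of_ne_zero hne)
    rw [Finset.mem_filter] at ht'
    exact mem_mulSub.2 ⟨t', ht'.2⟩
  have hzero := hU.subset_zero_of_le (mulSub n q) (mulSub_ne_top hq hqn) hUsub
  have hdiv : q ∣ (T.filter (fun t' => q • t' = q • t)).card := by
    by_contra hcon
    have := hzero (show q • t ∈ {k : ZMod n | ¬ q ∣ (T.filter (fun t => q • t = k)).card} from hcon)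
    exact htq this
  -- the full fibre
  have hfib : (Finset.univ.filter (fun t' : ZMod n => q • t' = q • t)).card ≤ q := by
    have himg : Finset.univ.filter (fun t' : ZMod n => q • t' = q • t) ⊆
        (Finset.univ.filter (fun w : ZMod n => q • w = 0)).image (fun w => t + w) := by
      intro t' ht'
      rw [Finset.mem_filter] at ht'
      rw [Finset.mem_image]
      refine ⟨t' - t, ?_, by ring⟩
      rw [Finset.mem_filter]
      refine ⟨Finset.mem_univ _, ?_⟩
      rw [smul_sub, ht'.2, sub_self]
    calc _ ≤ ((Finset.univ.filter (fun w : ZMod n => q • w = 0)).image (fun w => t + w)).card :=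
          Finset.card_le_card himg
      _ ≤ (Finset.univ.filter (fun w : ZMod n => q • w = 0)).card := Finset.card_image_le
      _ ≤ q := card_ker_le hq.pos hqn
  have hsub : T.filter (fun t' => q • t' = q • t) ⊆
      Finset.univ.filter (fun t' : ZMod n => q • t' = q • t) := by
    intro t' ht'
    rw [Finset.mem_filter] at ht' ⊢
    exact ⟨Finset.mem_univ _, ht'.2⟩
  have hpos : 0 < (T.filter (fun t' => q • t' = q • t)).card :=
    Finset.card_pos.2 ⟨t, Finset.mem_filter.2 ⟨ht, rfl⟩⟩
  have hge : q ≤ (T.filter (fun t' => q • t' = q • t)).card := Nat.le_of_dvd hpos hdiv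
  have heq := Finset.eq_of_subset_of_card_le hsub (hfib.trans hge)
  have hmem : t + w ∈ Finset.univ.filter (fun t' : ZMod n => q • t' = q • t) := by
    rw [Finset.mem_filter]
    refine ⟨Finset.mem_univ _, ?_⟩
    rw [smul_add, hw, add_zero]
  rw [← heq, Finset.mem_filter] at hmem
  exact hmem.1

/-- the stabilizer (under translation) of a finite set, as a subgroup. -/
def stab (T : Finset (ZMod n)) : AddSubgroup (ZMod n) where
  carrier := {k | ∀ t ∈ T, t - k ∈ T}
  zero_mem' := by intro t ht; simpa using ht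
  add_mem' := by
    intro a b ha hb t ht
    have := hb _ (ha t ht)
    rw [show t - (a + b) = t - a - b by ring]
    exact this
  neg_mem' := by
    intro k hk t ht
    -- translation by `-k` maps `T` injectively into `T`, hence onto
    have himg : T.image (fun s => s - k) = T := by
      apply Finset.eq_of_subset_of_card_le
      · intro s hs
        obtain ⟨s', hs', rfl⟩ := Finset.mem_image.1 hs
        exact hk s' hs'
      · rw [Finset.card_image_of_injective _ (sub_left_injective)]
    have : t ∈ T.image (fun s => s - k) := by rw [himg]; exact ht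
    obtain ⟨s, hs, hst⟩ := Finset.mem_image.1 this
    have : t - -k = s := by rw [← hst]; ring
    rw [this]; exact hs

lemma mem_stab {T : Finset (ZMod n)} {k : ZMod n} : k ∈ stab T ↔ ∀ t ∈ T, t - k ∈ T := Iff.rfl

lemma inv_stab {T : Finset (ZMod n)} (hT : S.Inv (T : Set (ZMod n))) :
    S.Inv ((stab T : AddSubgroup (ZMod n)) : Set (ZMod n)) := by
  intro x hx k hk t' ht'
  -- `t' = act x t` with `t ∈ T`
  have ht : S.act x⁻¹ t' ∈ (T : Set (ZMod n)) := hT x⁻¹ (CSetup.act_inv_zero hx) t' ht'
  have h1 : S.act x⁻¹ t' - k ∈ (T : Set (ZMod n)) := hk _ ht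
  have h2 := (hT.sub_iff x k (S.act x⁻¹ t')).2 h1
  rw [S.act_act_inv] at h2
  exact h2

/-- in a primitive action, a proper nonempty invariant set has trivial stabilizer. -/
lemma stab_eq_bot [MulAction.IsPreprimitive G Ω] {T : Finset (ZMod n)}
    (hT : S.Inv (T : Set (ZMod n))) (hne : T.Nonempty) (h0 : (0 : ZMod n) ∉ T) :
    stab T = ⊥ := by
  rcases CSetup.prim_subgroup (S := S) (stab T) (inv_stab hT) with h | h
  · exact h
  · exfalso
    obtain ⟨t, ht⟩ := hne
    have : t ∈ stab T := by rw [h]; trivial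
    have := this t ht
    rw [sub_self] at this
    exact h0 this

end Cfsg.Agent.H74.SR
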