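import Cfsg.Agent.H74.SRing

set_option autoImplicit false
set_option linter.unusedSectionVars false

/-!
# Frobenius step for Schur rings over `ZMod n` (helper74)
-/

namespace Cfsg.Agent.H74.SR

open scoped Pointwise

variable {G Ω : Type*} [Group G] [MulAction G Ω] {n : ℕ} [NeZero n] {S : CSetup G Ω n}

/-- translation matrix. -/
def Ptr (R : Type*) [Semiring R] {n : ℕ} (t : ZMod n) : Matrix (ZMod n) (ZMod n) R :=
  Matrix.of fun i j => if j - i = t then 1 else 0

lemma Ptr_apply (R : Type*) [Semiring R] (t i j : ZMod n) :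
    Ptr R t i j = if j - i = t then 1 else 0 := rfl

lemma Ptr_mul (R : Type*) [Semiring R] (t s : ZMod n) : Ptr R t * Ptr R s = Ptr R (t + s) := by
  ext i j
  rw [Matrix.mul_apply, Finset.sum_eq_single (i + t)]
  · simp only [Ptr_apply, add_sub_cancel_left, if_true, one_mul]
    by_cases h : j - (i + t) = s
    · rw [if_pos h, if_pos]; rw [← h]; ring
    · rw [if_neg h, if_neg]; intro h'; apply h; rw [← sub_sub, h']; ring
  · intro k _ hk
    rw [Ptr_apply, if_neg, zero_mul]
    intro h; apply hk; rw [← h]; ring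
  · intro h; exact absurd (Finset.mem_univ _) h

lemma Ptr_zero (R : Type*) [Semiring R] : Ptr R (0 : ZMod n) = 1 := by
  ext i j
  rw [Ptr_apply, Matrix.one_apply]
  by_cases h : i = j
  · subst h; simp
  · rw [if_neg h, if_neg]; intro h'; apply h; exact (sub_eq_zero.1 h').symm

lemma Ptr_pow (R : Type*) [Semiring R] (t : ZMod n) (a : ℕ) : Ptr R t ^ a = Ptr R (a • t) := by
  induction a with
  | zero => simp [Ptr_zero]
  | succ a ih => rw [pow_succ, ih, Ptr_mul, succ_nsmul]

lemma Ptr_commute (R : Type*) [Semiring R] (t s : ZMod n) : Commute (Ptr R t) (Ptr R s) := by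
  unfold Commute SemiconjBy
  rw [Ptr_mul, Ptr_mul, add_comm]

lemma sum_Ptr_apply (R : Type*) [Semiring R] (T : Finset (ZMod n)) (i j : ZMod n) :
    (∑ t ∈ T, Ptr R t) i j = if j - i ∈ T then 1 else 0 := by
  rw [Matrix.sum_apply]
  simp only [Ptr_apply]
  rw [Finset.sum_ite_eq]

/-- Frobenius for pairwise commuting summands. -/
lemma sum_pow_char_commute {R' : Type*} [Semiring R'] (q : ℕ) [Fact q.Prime] [CharP R' q]
    {ι : Type*} (s : Finset ι) (f : ι → R')
    (hc : ∀ i ∈ s, ∀ j ∈ s, Commute (f i) (f j)) :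
    (∑ i ∈ s, f i) ^ q = ∑ i ∈ s, f i ^ q := by
  classical
  induction s using Finset.induction_on with
  | empty => simp [zero_pow (Fact.out : q.Prime).ne_zero]
  | insert a s ha ih =>
    rw [Finset.sum_insert ha, Finset.sum_insert ha]
    have hcomm : Commute (f a) (∑ i ∈ s, f i) :=
      Commute.sum_right _ _ _ fun i hi =>
        hc a (Finset.mem_insert_self a s) i (Finset.mem_insert_of_mem hi)
    rw [add_pow_char_of_commute q hcomm, ih]
    intro i hi j hj
    exact hc i (Finset.mem_insert_of_mem hi) j (Finset.mem_insert_of_mem hj)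

/-- `G`-invariant matrices. -/
def InvM (S : CSetup G Ω n) {R : Type*} (A : Matrix (ZMod n) (ZMod n) R) : Prop :=
  ∀ x : G, ∀ i j, A (S.act x i) (S.act x j) = A i j

lemma InvM.one {R : Type*} [Semiring R] : InvM S (1 : Matrix (ZMod n) (ZMod n) R) := by
  intro x i j
  rw [Matrix.one_apply, Matrix.one_apply]
  by_cases h : i = j
  · subst h; simp
  · rw [if_neg h, if_neg]; intro h'; exact h (S.act_injective x h')

lemma InvM.mul {R : Type*} [Semiring R] {A B : Matrix (ZMod n) (ZMod n) R}
    (hA : InvM S A) (hB : InvM S B) : InvM S (A * B) := by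
  intro x i j
  rw [Matrix.mul_apply, Matrix.mul_apply]
  rw [← Equiv.sum_comp (S.actEquiv x)]
  apply Finset.sum_congr rfl
  intro k _
  rw [CSetup.actEquiv_apply, hA x i k, hB x k j]

lemma InvM.pow {R : Type*} [Semiring R] {A : Matrix (ZMod n) (ZMod n) R}
    (hA : InvM S A) (a : ℕ) : InvM S (A ^ a) := by
  induction a with
  | zero => rw [pow_zero]; exact InvM.one
  | succ a ih => rw [pow_succ]; exact ih.mul hA

lemma InvM.sum_Ptr (R : Type*) [Semiring R] {T : Finset (ZMod n)}
    (hT : S.Inv (T : Set (ZMod n))) : InvM S (∑ t ∈ T, Ptr R t) := by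
  intro x i j
  rw [sum_Ptr_apply, sum_Ptr_apply]
  have := hT.sub_iff x i j
  simp only [Finset.mem_coe] at this
  by_cases h : j - i ∈ T
  · rw [if_pos h, if_pos (this.2 h)]
  · rw [if_neg h, if_neg (fun h' => h (this.1 h'))]

/-- The Frobenius congruence: the number of `t ∈ T` with `q • t = k`, taken mod `q`,
is an invariant function of `k`. -/
lemma frob_count (q : ℕ) [Fact q.Prime] {T : Finset (ZMod n)}
    (hT : S.Inv (T : Set (ZMod n))) (x : G) (hx : S.act x 0 = 0) (k : ZMod n) :
    (((T.filter (fun t => q • t = S.act x k)).card : ℕ) : ZMod q) =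
      (((T.filter (fun t => q • t = k)).card : ℕ) : ZMod q) := by
  have hA : InvM S ((∑ t ∈ T, Ptr (ZMod q) t) ^ q) := (InvM.sum_Ptr (ZMod q) hT).pow q
  have hfrob : (∑ t ∈ T, Ptr (ZMod q) (n := n) t) ^ q = ∑ t ∈ T, Ptr (ZMod q) (q • t) := by
    rw [sum_pow_char_commute q T (fun t => Ptr (ZMod q) t)
      (fun i _ j _ => Ptr_commute (ZMod q) i j)]
    apply Finset.sum_congr rfl
    intro t _
    rw [Ptr_pow]
  have hval : ∀ k : ZMod n, ((∑ t ∈ T, Ptr (ZMod q) (n := n) t) ^ q) 0 k =
      (((T.filter (fun t => q • t = k)).card : ℕ) : ZMod q) := by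
    intro k
    rw [hfrob, Matrix.sum_apply]
    simp only [Ptr_apply, sub_zero]
    rw [Finset.sum_boole]
    congr 2
    ext t
    simp only [Finset.mem_filter]
    constructor
    · rintro ⟨h1, h2⟩; exact ⟨h1, h2.symm⟩
    · rintro ⟨h1, h2⟩; exact ⟨h1, h2.symm⟩
  rw [← hval, ← hval]
  have := hA x 0 k
  rw [hx] at this
  exact this

end Cfsg.Agent.H74.SR
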