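import Cfsg.Agent.H74.SRingCons

set_option autoImplicit false
set_option linter.unusedSectionVars false

/-!
# Schur's theorem on cyclic B-groups of non-prime-power order (helper74)
-/

namespace Cfsg.Agent.H74.SR

open scoped Pointwise

variable {G Ω : Type*} [Group G] [MulAction G Ω] {n : ℕ} [NeZero n] {S : CSetup G Ω n}

lemma eq_zero_of_coprime_nsmul {a b : ℕ} (hab : a.Coprime b) {w : ZMod n}
    (ha : a • w = 0) (hb : b • w = 0) : w = 0 := by
  have h1 : addOrderOf w ∣ a := addOrderOf_dvd_of_nsmul_eq_zero ha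
  have h2 : addOrderOf w ∣ b := addOrderOf_dvd_of_nsmul_eq_zero hb
  have h3 : addOrderOf w ∣ 1 := by
    have := Nat.dvd_gcd h1 h2
    rwa [hab] at this
  exact AddMonoid.addOrderOf_eq_one_iff.1 (Nat.dvd_one.1 h3)

/-- the element `n / q` of order `q`. -/
lemma nsmul_div_eq_zero {q : ℕ} (hqn : q ∣ n) : q • ((n / q : ℕ) : ZMod n) = 0 := by
  rw [nsmul_eq_mul, ← Nat.cast_mul, Nat.mul_div_cancel' hqn, ZMod.natCast_self]

lemma div_ne_zero {q : ℕ} (hq : q.Prime) (hqn : q ∣ n) : ((n / q : ℕ) : ZMod n) ≠ 0 := by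
  intro h
  rw [ZMod.natCast_eq_zero_iff] at h
  have hn0 : 0 < n := Nat.pos_of_ne_zero (NeZero.ne n)
  have hpos : 0 < n / q := Nat.div_pos (Nat.le_of_dvd hn0 hqn) hq.pos
  have hlt : n / q < n := Nat.div_lt_self hn0 hq.one_lt
  exact absurd (Nat.le_of_dvd hpos h) (not_le.2 hlt)

/-- the finset version of an orbit. -/
noncomputable def orbF (S : CSetup G Ω n) (k : ZMod n) : Finset (ZMod n) := by
  classical exact Finset.univ.filter (fun j => j ∈ S.orb k)

lemma coe_orbF (k : ZMod n) : ((orbF S k : Finset (ZMod n)) : Set (ZMod n)) = S.orb k := by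
  classical
  ext j
  simp [orbF]

lemma mem_orbF {k j : ZMod n} : j ∈ orbF S k ↔ j ∈ S.orb k := by
  rw [← coe_orbF, Finset.mem_coe]

lemma inv_orbF (k : ZMod n) : S.Inv ((orbF S k : Finset (ZMod n)) : Set (ZMod n)) := by
  rw [coe_orbF]; exact CSetup.inv_orb k

/-- **Schur**: in a primitive group with a regular cyclic subgroup of non-prime-power order,
the point stabilizer is transitive on the remaining points. -/
theorem schur_trans [MulAction.IsPreprimitive G Ω] (hnp : ¬ IsPrimePow n) (hn2 : 2 ≤ n)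
    (i j : ZMod n) (hi : i ≠ 0) (hj : j ≠ 0) : ∃ x : G, S.act x 0 = 0 ∧ S.act x i = j := by
  -- two distinct primes dividing `n`
  obtain ⟨q₁, hq₁, hq₁n⟩ := Nat.exists_prime_and_dvd (show n ≠ 1 by omega)
  have hex : ∃ q₂ : ℕ, q₂.Prime ∧ q₂ ∣ n ∧ q₂ ≠ q₁ := by
    by_contra hcon
    push_neg at hcon
    apply hnp
    rw [isPrimePow_iff_unique_prime_dvd]
    exact ⟨q₁, ⟨hq₁, hq₁n⟩, fun y hy => hcon y hy.1 hy.2⟩
  obtain ⟨q₂, hq₂, hq₂n, hne⟩ := hex
  have hcop : q₁.Coprime q₂ := (Nat.coprime_primes hq₁ hq₂).2 (Ne.symm hne)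
  haveI : Fact q₁.Prime := ⟨hq₁⟩
  haveI : Fact q₂.Prime := ⟨hq₂⟩
  set w₁ : ZMod n := ((n / q₁ : ℕ) : ZMod n) with hw₁
  set w₂ : ZMod n := ((n / q₂ : ℕ) : ZMod n) with hw₂
  have hw₁0 : q₁ • w₁ = 0 := nsmul_div_eq_zero hq₁n
  have hw₂0 : q₂ • w₂ = 0 := nsmul_div_eq_zero hq₂n
  have hw₁ne : w₁ ≠ 0 := div_ne_zero hq₁ hq₁n
  have hw₂ne : w₂ ≠ 0 := div_ne_zero hq₂ hq₂n
  have hq₁w₂ : q₁ • w₂ ≠ 0 := fun h => hw₂ne (eq_zero_of_coprime_nsmul hcop h hw₂0)
  -- every nontrivial orbit contains `w₂`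
  have key : ∀ k : ZMod n, k ≠ 0 → w₂ ∈ S.orb k := by
    intro k hk
    have hT := inv_orbF (S := S) k
    have h0 : (0 : ZMod n) ∉ orbF S k := fun h => CSetup.zero_not_mem_orb hk (mem_orbF.1 h)
    have hne' : (orbF S k).Nonempty := ⟨k, mem_orbF.2 (CSetup.mem_orb_self k)⟩
    have hE1 : ∃ t ∈ orbF S k, q₁ • t = 0 := by
      by_contra hcon
      push_neg at hcon
      have hmem : w₁ ∈ stab (orbF S k) := by
        intro t ht
        have := inv_add_ker q₁ hq₁n hT ht (hcon t ht) (w := -w₁) (by rw [smul_neg, hw₁0, neg_zero])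
        rwa [← sub_eq_add_neg] at this
      rw [stab_eq_bot hT hne' h0, AddSubgroup.mem_bot] at hmem
      exact hw₁ne hmem
    obtain ⟨t, ht, htq⟩ := hE1
    have ht0 : t ≠ 0 := fun h => h0 (h ▸ ht)
    have htq₂ : q₂ • t ≠ 0 := fun h => ht0 (eq_zero_of_coprime_nsmul hcop htq h)
    have h1 : t + w₂ ∈ orbF S k := inv_add_ker q₂ hq₂n hT ht htq₂ hw₂0
    have h2 : q₁ • (t + w₂) ≠ 0 := by rw [smul_add, htq, zero_add]; exact hq₁w₂
    have h3 := inv_add_ker q₁ hq₁n hT h1 h2 (w := -t) (by rw [smul_neg, htq, neg_zero])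
    have : t + w₂ + -t = w₂ := by ring
    rw [this] at h3
    exact mem_orbF.1 h3
  have h1 := CSetup.orb_eq_of_mem (key i hi)
  have h2 := CSetup.orb_eq_of_mem (key j hj)
  have : j ∈ S.orb i := by rw [← h1, h2]; exact CSetup.mem_orb_self j
  exact this

/-- transitivity of the stabilizer of `0` on nonzero elements gives 2-transitivity. -/
lemma two_trans_of (S : CSetup G Ω n)
    (h : ∀ i j : ZMod n, i ≠ 0 → j ≠ 0 → ∃ x : G, S.act x 0 = 0 ∧ S.act x i = j) :
    MulAction.IsMultiplyPretransitive G Ω 2 := by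
  rw [MulAction.isMultiplyPretransitive_iff]
  intro a b
  -- coordinates
  set i₀ := S.e.symm (a 0) with hi₀
  set i₁ := S.e.symm (a 1) with hi₁
  set j₀ := S.e.symm (b 0) with hj₀
  set j₁ := S.e.symm (b 1) with hj₁
  have hi : i₁ - i₀ ≠ 0 := by
    intro h0
    have h1 : i₁ = i₀ := sub_eq_zero.1 h0
    have h2 : a 1 = a 0 := S.e.symm.injective h1
    have := a.injective h2
    exact absurd this (by decide)
  have hj : j₁ - j₀ ≠ 0 := by
    intro h0
    have h1 : j₁ = j₀ := sub_eq_zero.1 h0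
    have h2 : b 1 = b 0 := S.e.symm.injective h1
    have := b.injective h2
    exact absurd this (by decide)
  obtain ⟨x, hx0, hx⟩ := h _ _ hi hj
  obtain ⟨u, hu⟩ := S.exists_transl (-i₀)
  obtain ⟨v, hv⟩ := S.exists_transl j₀
  refine ⟨v * x * u, ?_⟩
  have hg0 : S.act (v * x * u) i₀ = j₀ := by
    rw [CSetup.act_mul, CSetup.act_mul, hu, add_neg_cancel, hx0, hv, zero_add]
  have hg1 : S.act (v * x * u) i₁ = j₁ := by
    rw [CSetup.act_mul, CSetup.act_mul, hu, ← sub_eq_add_neg, hx, hv, sub_add_cancel]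
  ext k
  rw [Function.Embedding.smul_apply]
  have ha0 : a 0 = S.e i₀ := by rw [hi₀]; simp
  have ha1 : a 1 = S.e i₁ := by rw [hi₁]; simp
  have hb0 : b 0 = S.e j₀ := by rw [hj₀]; simp
  have hb1 : b 1 = S.e j₁ := by rw [hj₁]; simp
  fin_cases k
  · show (v * x * u) • a 0 = b 0
    rw [ha0, hb0, ← S.e_act, hg0]
  · show (v * x * u) • a 1 = b 1
    rw [ha1, hb1, ← S.e_act, hg1]

/-- building a setup from an element `c` whose powers act regularly. -/
noncomputable def CSetup.ofRegular [Finite Ω] (c : G) (ω₀ : Ω) (hn : n = Nat.card Ω)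
    (hcn : c ^ n = 1)
    (hinj : ∀ a b : ℕ, a < n → b < n → c ^ a • ω₀ = c ^ b • ω₀ → a = b) : CSetup G Ω n where
  c := c
  e := Equiv.ofBijective (fun j : ZMod n => c ^ j.val • ω₀) (by
    have hinj' : Function.Injective (fun j : ZMod n => c ^ j.val • ω₀) := by
      intro i j hij
      exact ZMod.val_injective n (hinj _ _ (ZMod.val_lt i) (ZMod.val_lt j) hij)
    haveI : Fintype Ω := Fintype.ofFinite Ω
    rw [Fintype.bijective_iff_injective_and_card]
    refine ⟨hinj', ?_⟩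
    rw [ZMod.card, hn, Nat.card_eq_fintype_card])
  he := by
    intro j
    simp only [Equiv.ofBijective_apply]
    rw [← mul_smul, ← pow_succ']
    congr 1
    have h1 : (j + 1 : ZMod n).val = (j.val + 1) % n := by
      conv_lhs => rw [← ZMod.natCast_zmod_val j]
      rw [← Nat.cast_one, ← Nat.cast_add, ZMod.val_natCast]
    rw [h1, ← pow_eq_pow_mod _ hcn]

end Cfsg.Agent.H74.SR
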