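import Cfsg.Agent.H74.TsDefs
import Cfsg.Agent.H57.W4Defs

/-!
# S2948: adapter from helper57's form of W4 to `StW4`
-/

set_option autoImplicit false
open Cfsg
open scoped commutatorElement

namespace Cfsg.Agent.H74.Ts

universe u

/-- `W_K ≤ O₂(K)`. -/
theorem wOf_le_pCoreOf {G : Type u} [Group G] (K : Subgroup G) : wOf K ≤ pCoreOf 2 K := by
  have hOn : (pCore 2 ↥K).Normal := Subgroup.sSup_normal _ (fun _ h => h.1)
  have hZO : omegaCenterOf (pCoreOf 2 K) ≤ pCoreOf 2 K := by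
    unfold Cfsg.omegaCenterOf Cfsg.omegaOne
    rw [Subgroup.closure_le]
    intro x hx
    exact hx.1.1
  unfold Cfsg.wOf
  rw [Subgroup.commutator_le]
  intro z hz k hk
  have hzO := hZO hz
  obtain ⟨z', hz', rfl⟩ := hzO
  have h1 : (⟨k, hk⟩ : ↥K) * z'⁻¹ * (⟨k, hk⟩ : ↥K)⁻¹ ∈ pCore 2 ↥K :=
    hOn.conj_mem _ ((pCore 2 ↥K).inv_mem hz') _
  have h2 : z' * ((⟨k, hk⟩ : ↥K) * z'⁻¹ * (⟨k, hk⟩ : ↥K)⁻¹) ∈ pCore 2 ↥K :=
    (pCore 2 ↥K).mul_mem hz' h1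
  refine ⟨_, h2, ?_⟩
  simp [commutatorElement_def, mul_assoc]

/-- W4 in the form of `TsDefs` from helper57's form. -/
theorem w4_of_h57 (h : Cfsg.Agent.H57.W4.StW4.{u}) : StW4.{u} := by
  intro G _ _ T K hT h3 hOT hKJ
  by_cases hW : wOf K = ⊥
  · refine ⟨Or.inr hW, ?_⟩
    intro w hw
    rw [hW, Subgroup.mem_bot] at hw
    rw [hw, mul_one]
  · obtain ⟨h4, hexp⟩ := h T K hKJ h3 ((wOf_le_pCoreOf K).trans hOT) hW
    exact ⟨Or.inl h4, hexp⟩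

end Cfsg.Agent.H74.Ts
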