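import Mathlib
import Cfsg.Agent.S3975
import Cfsg.Agent.H74.MillerCount

set_option autoImplicit false

namespace Cfsg.Agent.H74.Wie

open scoped Pointwise
open Subgroup

universe u

/-- number of `k`-subsets (as sets) of a finite type -/
theorem card_sets_ncard {α : Type*} [Finite α] (k : ℕ) :
    Nat.card {X : Set α // X.ncard = k} = (Nat.card α).choose k := by
  classical
  haveI := Fintype.ofFinite α
  rw [Nat.card_eq_fintype_card (α := α), ← Fintype.card_finset_len, ← Nat.card_eq_fintype_card]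
  exact (Nat.card_congr (Equiv.subtypeEquiv Fintype.finsetEquivSet
    (fun s => by simp [Set.ncard_coe_finset]))).symm

/-- double counting -/
theorem sum_card_rel {α β : Type*} [Fintype α] [Fintype β] (r : α → β → Prop) :
    ∑ a, Nat.card {b // r a b} = ∑ b, Nat.card {a // r a b} := by
  classical
  simp only [Nat.card_eq_fintype_card, Fintype.card_subtype, Finset.card_filter]
  exact Finset.sum_comm

section

variable {G : Type u} [Group G]

theorem preimage_image_inv (S : Subgroup G) (X : Set G) (hS : S ≤ MulAction.stabilizer G X) :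
    (QuotientGroup.mk : G → G ⧸ S) ⁻¹' ((QuotientGroup.mk : G → G ⧸ S) '' X⁻¹) = X⁻¹ := by
  apply Set.Subset.antisymm
  · rintro g ⟨a, ha, hag⟩
    have h2 : a⁻¹ * g ∈ S := QuotientGroup.eq.1 hag
    rw [Set.mem_inv] at ha ⊢
    have h3 : (a⁻¹ * g)⁻¹ • X = X := MulAction.mem_stabilizer_iff.1 (hS (S.inv_mem h2))
    have h4 : (a⁻¹ * g)⁻¹ • a⁻¹ ∈ (a⁻¹ * g)⁻¹ • X := Set.smul_mem_smul_set ha
    rw [h3] at h4
    have h5 : (a⁻¹ * g)⁻¹ • a⁻¹ = g⁻¹ := by simp [smul_eq_mul]
    rwa [h5] at h4
  · exact Set.subset_preimage_image _ _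

theorem le_stabilizer_inv_preimage (S : Subgroup G) (𝒳 : Set (G ⧸ S)) :
    S ≤ MulAction.stabilizer G (((QuotientGroup.mk : G → G ⧸ S) ⁻¹' 𝒳 : Set G)⁻¹) := by
  intro s hs
  rw [MulAction.mem_stabilizer_iff]
  ext y
  rw [Set.mem_smul_set_iff_inv_smul_mem, smul_eq_mul, Set.mem_inv, Set.mem_inv, Set.mem_preimage,
    Set.mem_preimage]
  have : (((s⁻¹ * y)⁻¹ : G) : G ⧸ S) = ((y⁻¹ : G) : G ⧸ S) := by
    rw [QuotientGroup.eq]
    simpa using S.inv_mem hs
  rw [this]

/-- the sets of size `k * #S` stabilized by `S` correspond to `k`-subsets of `G ⧸ S`. -/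
theorem card_invariant_sets [Finite G] (S : Subgroup G) (k : ℕ) :
    Nat.card {X : Set G // X.ncard = k * Nat.card S ∧ S ≤ MulAction.stabilizer G X} =
      (S.index).choose k := by
  have hSpos : 0 < Nat.card S := Nat.card_pos
  rw [Subgroup.index, ← card_sets_ncard (α := G ⧸ S) k]
  refine Nat.card_congr
    { toFun := fun X => ⟨(QuotientGroup.mk : G → G ⧸ S) '' (X.1)⁻¹, ?_⟩
      invFun := fun 𝒳 => ⟨((QuotientGroup.mk : G → G ⧸ S) ⁻¹' 𝒳.1 : Set G)⁻¹, ?_,
        le_stabilizer_inv_preimage S 𝒳.1⟩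
      left_inv := ?_
      right_inv := ?_ }
  · have h1 := preimage_image_inv S X.1 X.2.2
    have h2 := QuotientGroup.card_preimage_mk S ((QuotientGroup.mk : G → G ⧸ S) '' (X.1)⁻¹)
    rw [h1, Nat.card_coe_set_eq, Set.ncard_inv, X.2.1, Nat.card_coe_set_eq] at h2
    exact Nat.eq_of_mul_eq_mul_left hSpos (h2.symm.trans (mul_comm k _))
  · have h2 := QuotientGroup.card_preimage_mk S 𝒳.1
    rw [Set.ncard_inv, ← Nat.card_coe_set_eq, h2, Nat.card_coe_set_eq, 𝒳.2, mul_comm]
  · intro X
    apply Subtype.ext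
    show ((QuotientGroup.mk : G → G ⧸ S) ⁻¹' ((QuotientGroup.mk : G → G ⧸ S) '' (X.1)⁻¹))⁻¹ = X.1
    rw [preimage_image_inv S X.1 X.2.2, inv_inv]
  · intro 𝒳
    apply Subtype.ext
    show (QuotientGroup.mk : G → G ⧸ S) ''
      (((QuotientGroup.mk : G → G ⧸ S) ⁻¹' 𝒳.1 : Set G)⁻¹)⁻¹ = 𝒳.1
    rw [inv_inv, Set.image_preimage_eq _ QuotientGroup.mk_surjective]

end

/-- sets of size `q` whose stabilizer order is not divisible by `d`, as a `G`-set -/
def Yd (G : Type u) [Group G] (q d : ℕ) : SubMulAction G (Set G) where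
  carrier := {X | X.ncard = q ∧ ¬ d ∣ Nat.card (MulAction.stabilizer G X)}
  smul_mem' g X hX := by
    refine ⟨?_, ?_⟩
    · show (g • X).ncard = q
      rw [Set.ncard_smul_set]; exact hX.1
    · show ¬ d ∣ Nat.card (MulAction.stabilizer G (g • X))
      rw [MulAction.stabilizer_smul_eq_stabilizer_map_conj]
      have : Nat.card ((MulAction.stabilizer G X).map (MulAut.conj g).toMonoidHom) =
          Nat.card (MulAction.stabilizer G X) :=
        (Nat.card_congr ((MulAction.stabilizer G X).equivMapOfInjective _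
          (MulAut.conj g).injective).toEquiv).symm
      rw [this]; exact hX.2

section

variable {G : Type u} [Group G] [Finite G]

theorem dvd_card_Yd (p b m : ℕ) (hp : p.Prime) (hn : Nat.card G = p ^ (b + 1) * m) :
    p ^ 2 * m ∣ Nat.card ↥(Yd G (p ^ (b + 1)) (p ^ b)) := by
  apply Cfsg.Agent.S3975.dvd_card_of_orbits (G := G)
  intro y
  have h1 := Cfsg.Agent.S3975.orbit_mul_stab (G := G) y
  rw [SubMulAction.stabilizer_of_subMul] at h1
  have hy : (y : Set G).ncard = p ^ (b + 1) ∧
      ¬ p ^ b ∣ Nat.card (MulAction.stabilizer G (y : Set G)) := y.2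
  have h2 := Cfsg.Agent.S3975.card_stabilizer_dvd (y : Set G)
  rw [hy.1] at h2
  obtain ⟨γ, hγ, hγ'⟩ := (Nat.dvd_prime_pow hp).1 h2
  have hγb : γ < b := by
    by_contra hcon
    push Not at hcon
    exact hy.2 (by rw [hγ']; exact pow_dvd_pow p hcon)
  rw [hγ', hn] at h1
  obtain ⟨δ, rfl⟩ : ∃ δ, b = γ + δ + 1 := ⟨b - γ - 1, by omega⟩
  have h3 : (MulAction.orbit G y).ncard = p ^ (δ + 2) * m := by
    apply Nat.eq_of_mul_eq_mul_right (pow_pos hp.pos γ)
    rw [h1]; ring
  rw [Nat.card_coe_set_eq, h3]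
  exact ⟨p ^ δ, by ring⟩

/-- number of `X` of size `q = #T` with stabilizer exactly `T` -/
theorem card_stab_eq (q : ℕ) (T : Subgroup G) (hT : Nat.card T = q) :
    Nat.card {X : {X : Set G // X.ncard = q} // MulAction.stabilizer G X.1 = T} = T.index := by
  subst hT
  have h := card_invariant_sets T 1
  rw [Nat.choose_one_right] at h
  rw [← h]
  refine Nat.card_congr ((Equiv.subtypeSubtypeEquivSubtypeInter
    (fun X : Set G => X.ncard = Nat.card T) (fun X => MulAction.stabilizer G X = T)).trans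
    (Equiv.subtypeEquivRight ?_))
  intro X
  constructor
  · rintro ⟨h1, h2⟩
    exact ⟨by rw [one_mul]; exact h1, h2.ge⟩
  · rintro ⟨h1, h2⟩
    rw [one_mul] at h1
    refine ⟨h1, (Subgroup.eq_of_le_of_card_ge h2 ?_).symm⟩
    have h3 := Cfsg.Agent.S3975.card_stabilizer_dvd X
    rw [h1] at h3
    exact Nat.le_of_dvd Nat.card_pos h3

theorem card_stab_ge (q k : ℕ) (S : Subgroup G) (hS : q = k * Nat.card S) :
    Nat.card {X : {X : Set G // X.ncard = q} // S ≤ MulAction.stabilizer G X.1} =
      (S.index).choose k := by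
  subst hS
  rw [← card_invariant_sets S k]
  exact Nat.card_congr (Equiv.subtypeSubtypeEquivSubtypeInter
    (fun X : Set G => X.ncard = k * Nat.card S) (fun X => S ≤ MulAction.stabilizer G X))

theorem sum_stab_eq (q : ℕ) (g : Subgroup G → ℕ) (m : ℕ)
    (hm : ∀ T : Subgroup G, Nat.card T = q → T.index = m)
    [Fintype {X : Set G // X.ncard = q}] [Fintype {T : Subgroup G // Nat.card T = q}] :
    ∑ X : {X : Set G // X.ncard = q},
        (if Nat.card (MulAction.stabilizer G X.1) = q then g (MulAction.stabilizer G X.1) else 0) =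
      m * ∑ T : {T : Subgroup G // Nat.card T = q}, g T.1 := by
  classical
  have h1 : ∀ X : {X : Set G // X.ncard = q},
      (if Nat.card (MulAction.stabilizer G X.1) = q then g (MulAction.stabilizer G X.1) else 0) =
        ∑ T : {T : Subgroup G // Nat.card T = q},
          if MulAction.stabilizer G X.1 = T.1 then g T.1 else 0 := by
    intro X
    by_cases h : Nat.card (MulAction.stabilizer G X.1) = q
    · rw [if_pos h, Finset.sum_eq_single ⟨MulAction.stabilizer G X.1, h⟩]
      · simp
      · intro T _ hne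
        rw [if_neg]
        intro h'
        exact hne (Subtype.ext h'.symm)
      · intro h'
        exact absurd (Finset.mem_univ _) h'
    · rw [if_neg h]
      symm
      apply Finset.sum_eq_zero
      intro T _
      rw [if_neg]
      intro h'
      exact h (h' ▸ T.2)
  simp_rw [h1]
  rw [Finset.sum_comm, Finset.mul_sum]
  apply Finset.sum_congr rfl
  intro T _
  rw [← Finset.sum_filter, Finset.sum_const, smul_eq_mul, ← Fintype.card_subtype,
    ← Nat.card_eq_fintype_card, card_stab_eq q T.1 T.2, hm T.1 T.2]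

/-- **Wielandt-type count** modulo `p² m`. -/
theorem wielandt_count (p b m : ℕ) (hp : p.Prime) (hn : Nat.card G = p ^ (b + 1) * m) :
    (p ^ (b + 1) * m).choose (p ^ (b + 1)) +
        m * Nat.card (Σ T : {T : Subgroup G // Nat.card T = p ^ (b + 1)},
          {S : {S : Subgroup G // Nat.card S = p ^ b} // S.1 ≤ T.1})
      ≡ m * Nat.card {T : Subgroup G // Nat.card T = p ^ (b + 1)} +
        Nat.card {S : Subgroup G // Nat.card S = p ^ b} * (p * m).choose p [MOD p ^ 2 * m] := by
  classical
  haveI : Fintype {X : Set G // X.ncard = p ^ (b + 1)} := Fintype.ofFinite _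
  haveI : Fintype {T : Subgroup G // Nat.card T = p ^ (b + 1)} := Fintype.ofFinite _
  haveI : Fintype {S : Subgroup G // Nat.card S = p ^ b} := Fintype.ofFinite _
  have hmpos : 0 < m := by
    rcases Nat.eq_zero_or_pos m with h | h
    · rw [h, mul_zero] at hn
      have := Nat.card_pos (α := G)
      omega
    · exact h
  have hidxT : ∀ T : Subgroup G, Nat.card T = p ^ (b + 1) → T.index = m := by
    intro T hT
    have h1 := T.card_mul_index
    rw [hT, hn] at h1
    exact Nat.eq_of_mul_eq_mul_left (pow_pos hp.pos _) h1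
  have hidxS : ∀ S : Subgroup G, Nat.card S = p ^ b → S.index = p * m := by
    intro S hS
    have h1 := S.card_mul_index
    rw [hS, hn] at h1
    apply Nat.eq_of_mul_eq_mul_left (pow_pos hp.pos b)
    rw [h1]; ring
  -- (I)
  have hI : ∑ _X : {X : Set G // X.ncard = p ^ (b + 1)}, 1 =
      (p ^ (b + 1) * m).choose (p ^ (b + 1)) := by
    rw [Finset.sum_const, Finset.card_univ, smul_eq_mul, mul_one, ← Nat.card_eq_fintype_card,
      card_sets_ncard, hn]
  -- (II)
  have hII : ∑ X : {X : Set G // X.ncard = p ^ (b + 1)},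
      Nat.card {S : {S : Subgroup G // Nat.card S = p ^ b} // S.1 ≤ MulAction.stabilizer G X.1} =
      Nat.card {S : Subgroup G // Nat.card S = p ^ b} * (p * m).choose p := by
    rw [sum_card_rel (fun (X : {X : Set G // X.ncard = p ^ (b + 1)})
      (S : {S : Subgroup G // Nat.card S = p ^ b}) => S.1 ≤ MulAction.stabilizer G X.1)]
    rw [Finset.sum_congr rfl (fun S _ => (card_stab_ge (p ^ (b + 1)) p S.1
      (by rw [S.2, pow_succ]; ring)).trans (by rw [hidxS S.1 S.2]))]
    rw [Finset.sum_const, Finset.card_univ, smul_eq_mul, ← Nat.card_eq_fintype_card]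
  -- (III)
  have hIIIa := sum_stab_eq (G := G) (p ^ (b + 1)) (fun _ => 1) m hidxT
  have hIIIb := sum_stab_eq (G := G) (p ^ (b + 1))
    (fun T => Nat.card {S : {S : Subgroup G // Nat.card S = p ^ b} // S.1 ≤ T}) m hidxT
  -- (IV)
  have hIV : p ^ 2 * m ∣ ∑ X : {X : Set G // X.ncard = p ^ (b + 1)},
      (if ¬ p ^ b ∣ Nat.card (MulAction.stabilizer G X.1) then 1 else 0) := by
    rw [← Finset.card_filter, ← Fintype.card_subtype, ← Nat.card_eq_fintype_card]
    have h1 := dvd_card_Yd (G := G) p b m hp hn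
    have h2 : Nat.card ↥(Yd G (p ^ (b + 1)) (p ^ b)) =
        Nat.card {X : {X : Set G // X.ncard = p ^ (b + 1)} //
          ¬ p ^ b ∣ Nat.card (MulAction.stabilizer G X.1)} :=
      (Nat.card_congr (Equiv.subtypeSubtypeEquivSubtypeInter
        (fun X : Set G => X.ncard = p ^ (b + 1))
        (fun X => ¬ p ^ b ∣ Nat.card (MulAction.stabilizer G X)))).symm
    rw [← h2]; exact h1
  -- pointwise identity
  have hpt : ∀ X : {X : Set G // X.ncard = p ^ (b + 1)},
      1 + (if Nat.card (MulAction.stabilizer G X.1) = p ^ (b + 1) then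
          Nat.card {S : {S : Subgroup G // Nat.card S = p ^ b} // S.1 ≤ MulAction.stabilizer G X.1}
          else 0) =
        Nat.card {S : {S : Subgroup G // Nat.card S = p ^ b} // S.1 ≤ MulAction.stabilizer G X.1} +
          (if Nat.card (MulAction.stabilizer G X.1) = p ^ (b + 1) then 1 else 0) +
          (if ¬ p ^ b ∣ Nat.card (MulAction.stabilizer G X.1) then 1 else 0) := by
    intro X
    have h2 := Cfsg.Agent.S3975.card_stabilizer_dvd X.1
    rw [X.2] at h2
    obtain ⟨γ, hγ, hγ'⟩ := (Nat.dvd_prime_pow hp).1 h2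
    rcases Nat.lt_or_ge γ b with hlt | hge
    · -- small stabilizer
      have hne : Nat.card (MulAction.stabilizer G X.1) ≠ p ^ (b + 1) := by
        rw [hγ']
        intro h
        have := Nat.pow_right_injective hp.two_le h
        omega
      have hnd : ¬ p ^ b ∣ Nat.card (MulAction.stabilizer G X.1) := by
        rw [hγ']
        intro h
        have := (Nat.pow_dvd_pow_iff_le_right hp.one_lt).1 h
        omega
      have hemp : IsEmpty {S : {S : Subgroup G // Nat.card S = p ^ b} //
          S.1 ≤ MulAction.stabilizer G X.1} := by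
        constructor
        rintro ⟨S, hS⟩
        apply hnd
        rw [← S.2]
        exact Subgroup.card_dvd_of_le hS
      rw [if_neg hne, if_neg hne, if_pos hnd, Nat.card_of_isEmpty]
    · have hd : p ^ b ∣ Nat.card (MulAction.stabilizer G X.1) := by
        rw [hγ']; exact pow_dvd_pow p hge
      rw [if_neg (not_not.2 hd)]
      rcases Nat.eq_or_lt_of_le hγ with heq | hlt
      · subst heq
        rw [if_pos hγ', if_pos hγ']
        ring
      · have hγb : γ = b := by omega
        subst hγb
        have hne : Nat.card (MulAction.stabilizer G X.1) ≠ p ^ (γ + 1) := by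
          rw [hγ']
          intro h
          have := Nat.pow_right_injective hp.two_le h
          omega
        have hone : Nat.card {S : {S : Subgroup G // Nat.card S = p ^ γ} //
            S.1 ≤ MulAction.stabilizer G X.1} = 1 := by
          rw [Nat.card_eq_one_iff_unique]
          refine ⟨⟨?_⟩, ⟨⟨⟨MulAction.stabilizer G X.1, hγ'⟩, le_rfl⟩⟩⟩
          rintro ⟨⟨S₁, h1⟩, h1'⟩ ⟨⟨S₂, h2⟩, h2'⟩
          have e1 : S₁ = MulAction.stabilizer G X.1 :=
            Subgroup.eq_of_le_of_card_ge h1' (by rw [h1, hγ'])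
          have e2 : S₂ = MulAction.stabilizer G X.1 :=
            Subgroup.eq_of_le_of_card_ge h2' (by rw [h2, hγ'])
          subst e1
          simp [e2]
        rw [if_neg hne, if_neg hne, hone]
  have hsum := Finset.sum_congr (rfl : (Finset.univ : Finset {X : Set G // X.ncard = p ^ (b + 1)})
    = Finset.univ) (fun X _ => hpt X)
  rw [Finset.sum_add_distrib, Finset.sum_add_distrib, Finset.sum_add_distrib, hI, hII, hIIIa,
    hIIIb] at hsum
  obtain ⟨K, hK⟩ := hIV
  rw [hK] at hsum
  rw [Nat.card_sigma, hsum]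
  have h3 : ∑ _x : {T : Subgroup G // Nat.card T = p ^ (b + 1)}, 1 =
      Nat.card {T : Subgroup G // Nat.card T = p ^ (b + 1)} := by
    rw [Finset.sum_const, Finset.card_univ, smul_eq_mul, mul_one, Nat.card_eq_fintype_card]
  rw [h3]
  unfold Nat.ModEq
  rw [Nat.add_mul_mod_self_left]
  congr 1
  ring

end

end Cfsg.Agent.H74.Wie
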