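import Mathlib
import Cfsg.Agent.H74.Wielandt

set_option autoImplicit false

namespace Cfsg.Agent.H74.Wie

open scoped Pointwise
open Subgroup

universe u

theorem card_subtype_add_card_not {α : Type*} [Finite α] (P : α → Prop) :
    Nat.card {x // P x} + Nat.card {x // ¬ P x} = Nat.card α := by
  classical
  rw [← Nat.card_sum]
  exact Nat.card_congr (Equiv.sumCompl P)

/-- in a finite cyclic group, subgroups of equal order are equal -/
theorem eq_of_card_eq_of_isCyclic {W : Type*} [Group W] [Finite W] [IsCyclic W]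
    (H K : Subgroup W) (h : Nat.card H = Nat.card K) : H = K := by
  classical
  haveI := Fintype.ofFinite W
  have key : ∀ L : Subgroup W, (L : Set W) = {x : W | x ^ Nat.card L = 1} := by
    intro L
    apply Set.eq_of_subset_of_ncard_le
    · intro x hx
      have h1 : (⟨x, hx⟩ : L) ^ Nat.card L = 1 := pow_card_eq_one'
      have h2 := congrArg Subtype.val h1
      simp only [SubmonoidClass.coe_pow, OneMemClass.coe_one] at h2
      exact h2
    · have h1 := IsCyclic.card_pow_eq_one_le (α := W) (n := Nat.card L) Nat.card_pos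
      have h2 : {x : W | x ^ Nat.card L = 1} =
          ↑(Finset.univ.filter (fun x : W => x ^ Nat.card L = 1)) := by
        ext x; simp
      rw [h2, Set.ncard_coe_finset]
      have h3 : (L : Set W).ncard = Nat.card L := (Nat.card_coe_set_eq (L : Set W)).symm
      rw [h3]
      exact h1
    · exact Set.toFinite _
  apply SetLike.coe_injective
  rw [key H, key K, h]

theorem card_subgroups_cyclic {W : Type*} [Group W] [Finite W] [IsCyclic W] (p k : ℕ)
    [Fact p.Prime] (h : p ^ k ∣ Nat.card W) :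
    Nat.card {H : Subgroup W // Nat.card H = p ^ k} = 1 := by
  rw [Nat.card_eq_one_iff_unique]
  obtain ⟨K, hK⟩ := Sylow.exists_subgroup_card_pow_prime p h
  exact ⟨⟨fun H₁ H₂ => Subtype.ext (eq_of_card_eq_of_isCyclic _ _ (H₁.2.trans H₂.2.symm))⟩,
    ⟨⟨K, hK⟩⟩⟩

theorem card_pairs_cyclic {W : Type*} [Group W] [Finite W] [IsCyclic W] (p b : ℕ)
    [Fact p.Prime] (h : p ^ (b + 1) ∣ Nat.card W) :
    Nat.card (Σ T : {T : Subgroup W // Nat.card T = p ^ (b + 1)},
          {S : {S : Subgroup W // Nat.card S = p ^ b} // S.1 ≤ T.1}) = 1 := by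
  rw [Nat.card_eq_one_iff_unique]
  have hb : p ^ b ∣ Nat.card W := (pow_dvd_pow p (Nat.le_succ b)).trans h
  obtain ⟨S, hS⟩ := Sylow.exists_subgroup_card_pow_prime p hb
  obtain ⟨T, hT, hST⟩ := Sylow.exists_subgroup_card_pow_prime_le p h S hS (Nat.le_succ b)
  refine ⟨⟨?_⟩, ⟨⟨⟨T, hT⟩, ⟨⟨S, hS⟩, hST⟩⟩⟩⟩
  rintro ⟨⟨T₁, hT₁⟩, ⟨⟨S₁, hS₁⟩, h₁⟩⟩ ⟨⟨T₂, hT₂⟩, ⟨⟨S₂, hS₂⟩, h₂⟩⟩
  have e1 : T₁ = T₂ := eq_of_card_eq_of_isCyclic _ _ (hT₁.trans hT₂.symm)
  have e2 : S₁ = S₂ := eq_of_card_eq_of_isCyclic _ _ (hS₁.trans hS₂.symm)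
  subst e1
  subst e2
  rfl

section homs

variable {p : ℕ} [hp : Fact p.Prime] {W : Type u} [Group W] [Finite W]

theorem card_mulZMod : Nat.card (Multiplicative (ZMod p)) = p := by simp

instance finite_hom : Finite (W →* Multiplicative (ZMod p)) :=
  Finite.of_injective (fun f : W →* Multiplicative (ZMod p) => (f : W → Multiplicative (ZMod p)))
    DFunLike.coe_injective

theorem hom_pow_p (f : W →* Multiplicative (ZMod p)) : f ^ p = 1 := by
  ext t
  rw [MonoidHom.pow_apply]
  have h : (f t) ^ Nat.card (Multiplicative (ZMod p)) = 1 := pow_card_eq_one'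
  rw [card_mulZMod] at h
  rw [h]; rfl

theorem card_hom_pow : ∃ d : ℕ, Nat.card (W →* Multiplicative (ZMod p)) = p ^ d := by
  have : IsPGroup p (W →* Multiplicative (ZMod p)) := fun f => ⟨1, by rw [pow_one]; exact hom_pow_p f⟩
  exact IsPGroup.iff_card.1 this

theorem card_ker_of_ne_one (b : ℕ) (hW : Nat.card W = p ^ (b + 1))
    (f : W →* Multiplicative (ZMod p)) (hf : f ≠ 1) : Nat.card f.ker = p ^ b := by
  have h1 : f.ker.index = Nat.card f.range := Subgroup.index_ker f
  have h2 : Nat.card f.range ∣ p := by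
    have := Subgroup.card_subgroup_dvd_card f.range
    rwa [card_mulZMod] at this
  have h3 : Nat.card f.range ≠ 1 := by
    intro h
    apply hf
    have h4 : f.range = ⊥ := Subgroup.card_eq_one.1 h
    ext t
    have h5 : f t ∈ f.range := ⟨t, rfl⟩
    rw [h4, Subgroup.mem_bot] at h5
    rw [h5]; rfl
  have h4 : Nat.card f.range = p := by
    rcases (Nat.dvd_prime hp.out).1 h2 with h | h
    · exact absurd h h3
    · exact h
  have h5 := f.ker.card_mul_index
  rw [h1, h4, hW, pow_succ] at h5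
  exact Nat.eq_of_mul_eq_mul_right hp.out.pos h5

/-- homs with kernel a given subgroup of index `p` -/
theorem card_fibre_ker (b : ℕ) (hW : Nat.card W = p ^ (b + 1)) (M : Subgroup W)
    (hM : Nat.card M = p ^ b) :
    Nat.card {f : {f : W →* Multiplicative (ZMod p) // f ≠ 1} // f.1.ker = M} = p - 1 := by
  have hidx : M.index = p := by
    have h := M.card_mul_index
    rw [hM, hW, pow_succ] at h
    exact Nat.eq_of_mul_eq_mul_left (pow_pos hp.out.pos b) h
  haveI hMn : M.Normal := by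
    apply Subgroup.normal_of_index_eq_minFac_card
    rw [hidx, hW, Nat.Prime.pow_minFac hp.out (Nat.succ_ne_zero b)]
  have hq : Nat.card (W ⧸ M) = p := hidx
  let e : (W ⧸ M) ≃* Multiplicative (ZMod p) := mulEquivOfPrimeCardEq hq card_mulZMod
  let f₀ : W →* Multiplicative (ZMod p) := e.toMonoidHom.comp (QuotientGroup.mk' M)
  have hker₀ : ∀ t : W, f₀ t = 1 ↔ t ∈ M := by
    intro t
    show e (QuotientGroup.mk' M t) = 1 ↔ t ∈ M
    rw [MulEquiv.map_eq_one_iff]
    exact QuotientGroup.eq_one_iff t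
  have hMtop : M ≠ ⊤ := by
    intro h
    rw [h, Subgroup.index_top] at hidx
    exact hp.out.one_lt.ne hidx
  obtain ⟨x₀, hx₀⟩ : ∃ x₀ : W, x₀ ∉ M := by
    by_contra hcon
    push Not at hcon
    exact hMtop (eq_top_iff.2 (fun x _ => hcon x))
  have ha : f₀ x₀ ≠ 1 := fun h => hx₀ ((hker₀ x₀).1 h)
  have hdec : ∀ t : W, ∃ i : ℕ, t * (x₀ ^ i)⁻¹ ∈ M := by
    intro t
    obtain ⟨i, hi⟩ := mem_powers_of_prime_card (card_mulZMod (p := p)) ha (g' := f₀ t)
    refine ⟨i, (hker₀ _).1 ?_⟩
    have hi' : f₀ x₀ ^ i = f₀ t := hi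
    rw [map_mul, map_inv, map_pow, hi', mul_inv_cancel]
  have hcard : Nat.card {u : Multiplicative (ZMod p) // u ≠ 1} = p - 1 := by
    have h : Nat.card {u : Multiplicative (ZMod p) // u = 1} +
        Nat.card {u : Multiplicative (ZMod p) // u ≠ 1} = Nat.card (Multiplicative (ZMod p)) :=
      card_subtype_add_card_not (fun u : Multiplicative (ZMod p) => u = 1)
    rw [card_mulZMod] at h
    have h1 : Nat.card {u : Multiplicative (ZMod p) // u = 1} = 1 := by
      rw [Nat.card_eq_one_iff_unique]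
      exact ⟨⟨fun a b => Subtype.ext (a.2.trans b.2.symm)⟩, ⟨⟨1, rfl⟩⟩⟩
    omega
  rw [← hcard]
  let ev : {f : {f : W →* Multiplicative (ZMod p) // f ≠ 1} // f.1.ker = M} →
      {u : Multiplicative (ZMod p) // u ≠ 1} :=
    fun f => ⟨f.1.1 x₀, fun h => hx₀ (by rw [← f.2]; exact (MonoidHom.mem_ker).2 h)⟩
  apply Nat.card_congr (Equiv.ofBijective ev ⟨?_, ?_⟩)
  · rintro ⟨⟨f, hf⟩, hfk⟩ ⟨⟨g, hg⟩, hgk⟩ hfg
    have hfg' : f x₀ = g x₀ := congrArg Subtype.val hfg
    have hfk' : f.ker = M := hfk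
    have hgk' : g.ker = M := hgk
    apply Subtype.ext
    apply Subtype.ext
    show f = g
    apply MonoidHom.ext
    intro t
    obtain ⟨i, hi⟩ := hdec t
    have h1 : f (t * (x₀ ^ i)⁻¹) = 1 := by
      have : t * (x₀ ^ i)⁻¹ ∈ f.ker := by rw [hfk']; exact hi
      exact MonoidHom.mem_ker.1 this
    have h2 : g (t * (x₀ ^ i)⁻¹) = 1 := by
      have : t * (x₀ ^ i)⁻¹ ∈ g.ker := by rw [hgk']; exact hi
      exact MonoidHom.mem_ker.1 this
    have h3 : t = (t * (x₀ ^ i)⁻¹) * x₀ ^ i := by group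
    have hf' : f t = f x₀ ^ i := by
      calc f t = f ((t * (x₀ ^ i)⁻¹) * x₀ ^ i) := congrArg f h3
        _ = f x₀ ^ i := by rw [map_mul, h1, one_mul, map_pow]
    have hg' : g t = g x₀ ^ i := by
      calc g t = g ((t * (x₀ ^ i)⁻¹) * x₀ ^ i) := congrArg g h3
        _ = g x₀ ^ i := by rw [map_mul, h2, one_mul, map_pow]
    rw [hf', hg', hfg']
  · rintro ⟨u, hu⟩
    obtain ⟨j, hj⟩ := mem_powers_of_prime_card (card_mulZMod (p := p)) ha (g' := u)
    have hj' : f₀ x₀ ^ j = u := hj
    have hne : f₀ ^ j ≠ 1 := by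
      intro h
      apply hu
      rw [← hj', ← MonoidHom.pow_apply, h]
      rfl
    have hk : (f₀ ^ j).ker = M := by
      symm
      apply Subgroup.eq_of_le_of_card_ge
      · intro t ht
        rw [MonoidHom.mem_ker, MonoidHom.pow_apply, (hker₀ t).2 ht, one_pow]
      · rw [card_ker_of_ne_one b hW _ hne, hM]
    refine ⟨⟨⟨f₀ ^ j, hne⟩, hk⟩, ?_⟩
    apply Subtype.ext
    show (f₀ ^ j) x₀ = u
    rw [MonoidHom.pow_apply, hj']

theorem card_hom_eq (b : ℕ) (hW : Nat.card W = p ^ (b + 1)) :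
    Nat.card (W →* Multiplicative (ZMod p)) =
      (p - 1) * Nat.card {M : Subgroup W // Nat.card M = p ^ b} + 1 := by
  have h1 : Nat.card {f : W →* Multiplicative (ZMod p) // f = 1} +
      Nat.card {f : W →* Multiplicative (ZMod p) // f ≠ 1} =
        Nat.card (W →* Multiplicative (ZMod p)) :=
    card_subtype_add_card_not (fun f : W →* Multiplicative (ZMod p) => f = 1)
  have h2 : Nat.card {f : W →* Multiplicative (ZMod p) // f = 1} = 1 := by
    rw [Nat.card_eq_one_iff_unique]
    exact ⟨⟨fun a b => Subtype.ext (a.2.trans b.2.symm)⟩, ⟨⟨1, rfl⟩⟩⟩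
  have h3 : Nat.card {f : W →* Multiplicative (ZMod p) // f ≠ 1} =
      (p - 1) * Nat.card {M : Subgroup W // Nat.card M = p ^ b} :=
    Cfsg.Agent.H74.Mil.card_eq_mul_of_fibers
      (fun f : {f : W →* Multiplicative (ZMod p) // f ≠ 1} =>
        (⟨f.1.ker, card_ker_of_ne_one b hW f.1 f.2⟩ : {M : Subgroup W // Nat.card M = p ^ b}))
      (p - 1) (fun M => by
        rw [← card_fibre_ker b hW M.1 M.2]
        exact Nat.card_congr (Equiv.subtypeEquivRight (fun f => by simp [Subtype.ext_iff])))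
  omega

theorem two_le_card_max (b : ℕ) (hW : Nat.card W = p ^ (b + 1)) (hnc : ¬ IsCyclic W) :
    2 ≤ Nat.card {M : Subgroup W // Nat.card M = p ^ b} := by
  have hb : p ^ b ∣ Nat.card W := by rw [hW]; exact pow_dvd_pow p (Nat.le_succ b)
  obtain ⟨M₁, hM₁⟩ := Sylow.exists_subgroup_card_pow_prime p hb
  have hM₁top : M₁ ≠ ⊤ := by
    intro h
    rw [h, Subgroup.card_top, hW] at hM₁
    have := Nat.pow_right_injective hp.out.two_le hM₁
    omega
  obtain ⟨x, hx⟩ : ∃ x : W, x ∉ M₁ := by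
    by_contra hcon
    push Not at hcon
    exact hM₁top (eq_top_iff.2 (fun x _ => hcon x))
  have hzx : zpowers x ≠ ⊤ := by
    intro h
    refine hnc ⟨⟨x, fun y => ?_⟩⟩
    have hy : y ∈ zpowers x := by rw [h]; exact mem_top y
    exact hy
  have hdvd : Nat.card (zpowers x) ∣ p ^ (b + 1) := by
    rw [← hW]; exact Subgroup.card_subgroup_dvd_card _
  obtain ⟨j, hj, hj'⟩ := (Nat.dvd_prime_pow hp.out).1 hdvd
  have hjb : j ≤ b := by
    by_contra hcon
    have : j = b + 1 := by omega
    rw [this, ← hW] at hj'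
    exact hzx ((Subgroup.card_eq_iff_eq_top _).1 hj')
  obtain ⟨M₂, hM₂, hxM₂⟩ := Sylow.exists_subgroup_card_pow_prime_le p hb (zpowers x) hj' hjb
  have hne : (⟨M₁, hM₁⟩ : {M : Subgroup W // Nat.card M = p ^ b}) ≠ ⟨M₂, hM₂⟩ := by
    intro h
    have h' : M₁ = M₂ := congrArg Subtype.val h
    exact hx (h' ▸ hxM₂ (mem_zpowers x))
  have : Nontrivial {M : Subgroup W // Nat.card M = p ^ b} := ⟨⟨_, _, hne⟩⟩
  exact Finite.one_lt_card_iff_nontrivial.2 this

/-- a noncyclic group of order `p^(b+1)` has `≡ 1 + p (mod p²)` maximal subgroups -/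
theorem card_max_modEq (b : ℕ) (hW : Nat.card W = p ^ (b + 1)) (hnc : ¬ IsCyclic W) :
    Nat.card {M : Subgroup W // Nat.card M = p ^ b} ≡ 1 + p [MOD p ^ 2] := by
  obtain ⟨d, hd⟩ := card_hom_pow (p := p) (W := W)
  have h1 := card_hom_eq b hW
  have h2 := two_le_card_max b hW hnc
  rw [hd] at h1
  have hp1 := hp.out.one_lt
  have hd2 : 2 ≤ d := by
    by_contra hcon
    have hd1 : d ≤ 1 := by omega
    have h3 : p ^ d ≤ p := by
      calc p ^ d ≤ p ^ 1 := Nat.pow_le_pow_right hp.out.pos hd1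
        _ = p := pow_one p
    have h4 : (p - 1) * 2 ≤ (p - 1) * Nat.card {M : Subgroup W // Nat.card M = p ^ b} :=
      Nat.mul_le_mul_left _ h2
    omega
  have h5 : ((p ^ d : ℕ) : ZMod (p ^ 2)) = 0 := by
    obtain ⟨e, rfl⟩ : ∃ e, d = 2 + e := ⟨d - 2, by omega⟩
    rw [pow_add, Nat.cast_mul, ZMod.natCast_self, zero_mul]
  rw [← ZMod.natCast_eq_natCast_iff]
  have hp2 : (p : ZMod (p ^ 2)) ^ 2 = 0 := by
    have := ZMod.natCast_self (p ^ 2)
    push_cast at this
    exact this
  rw [h1] at h5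
  have hc : ((p - 1 : ℕ) : ZMod (p ^ 2)) = (p : ZMod (p ^ 2)) - 1 := by
    rw [Nat.cast_sub hp.out.one_le]; simp
  rw [Nat.cast_add, Nat.cast_mul, hc, Nat.cast_one] at h5
  rw [Nat.cast_add, Nat.cast_one]
  linear_combination (-(1 + (p : ZMod (p ^ 2)))) * h5 +
    (Nat.card {M : Subgroup W // Nat.card M = p ^ b} : ZMod (p ^ 2)) * hp2

end homs

section main

variable {G : Type u} [Group G] [Finite G]

/-- transfer: subgroups of `G` of order `p^b` inside `T` vs subgroups of `↥T` -/
theorem card_sub_le (p b : ℕ) (T : Subgroup G) :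
    Nat.card {S : {S : Subgroup G // Nat.card S = p ^ b} // S.1 ≤ T} =
      Nat.card {M : Subgroup T // Nat.card M = p ^ b} := by
  refine Nat.card_congr
    { toFun := fun S => ⟨S.1.1.subgroupOf T,
        (Nat.card_congr (Subgroup.subgroupOfEquivOfLe S.2).toEquiv).trans S.1.2⟩
      invFun := fun M => ⟨⟨M.1.map T.subtype,
        ((Nat.card_congr (M.1.equivMapOfInjective T.subtype
          T.subtype_injective).toEquiv).symm).trans M.2⟩, map_subtype_le M.1⟩
      left_inv := fun S => Subtype.ext (Subtype.ext (Subgroup.map_subgroupOf_eq_of_le S.2))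
      right_inv := fun M => Subtype.ext
        (Subgroup.comap_map_eq_self_of_injective T.subtype_injective M.1) }

open Classical in
theorem mu_modEq (p b : ℕ) [hp : Fact p.Prime] (T : Subgroup G) (hT : Nat.card T = p ^ (b + 1)) :
    Nat.card {S : {S : Subgroup G // Nat.card S = p ^ b} // S.1 ≤ T} ≡
      1 + p * (if IsCyclic T then 0 else 1) [MOD p ^ 2] := by
  rw [card_sub_le]
  by_cases hc : IsCyclic T
  · rw [if_pos hc, mul_zero, add_zero]
    haveI := hc
    rw [card_subgroups_cyclic p b (by rw [hT]; exact pow_dvd_pow p (Nat.le_succ b))]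
  · rw [if_neg hc, mul_one]
    exact card_max_modEq b hT hc

/-- `N_b ≡ 1 + p · #(noncyclic subgroups of order p^(b+1))  (mod p²)`. -/
theorem card_modEq_nc (p b : ℕ) [hp : Fact p.Prime] (hdvd : p ^ (b + 1) ∣ Nat.card G) :
    Nat.card {S : Subgroup G // Nat.card S = p ^ b} ≡
      1 + p * Nat.card {T : {T : Subgroup G // Nat.card T = p ^ (b + 1)} // ¬ IsCyclic T.1}
        [MOD p ^ 2] := by
  classical
  haveI : Fintype {T : Subgroup G // Nat.card T = p ^ (b + 1)} := Fintype.ofFinite _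
  have hdvdb : p ^ b ∣ Nat.card G := (pow_dvd_pow p (Nat.le_succ b)).trans hdvd
  obtain ⟨m, hm⟩ := hdvd
  have hmpos : 0 < m := by
    rcases Nat.eq_zero_or_pos m with h | h
    · rw [h, mul_zero] at hm
      have := Nat.card_pos (α := G)
      omega
    · exact h
  have hG := wielandt_count (G := G) p b m hp.out hm
  haveI : NeZero (p ^ (b + 1) * m) := ⟨(Nat.mul_pos (pow_pos hp.out.pos _) hmpos).ne'⟩
  have hZcard : Nat.card (Multiplicative (ZMod (p ^ (b + 1) * m))) = p ^ (b + 1) * m := by simp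
  have hZ := wielandt_count (G := Multiplicative (ZMod (p ^ (b + 1) * m))) p b m hp.out hZcard
  rw [card_pairs_cyclic p b (by rw [hZcard]; exact dvd_mul_right _ _),
    card_subgroups_cyclic p (b + 1) (by rw [hZcard]; exact dvd_mul_right _ _),
    card_subgroups_cyclic p b (by
      rw [hZcard]; exact (pow_dvd_pow p (Nat.le_succ b)).trans (dvd_mul_right _ _))] at hZ
  rw [mul_one, one_mul] at hZ
  have hC : (p ^ (b + 1) * m).choose (p ^ (b + 1)) ≡ (p * m).choose p [MOD p ^ 2 * m] := by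
    apply Nat.ModEq.add_right_cancel' m
    rw [add_comm ((p * m).choose p) m]
    exact hZ
  have hG2 := (hC.symm.add_right _).trans hG
  -- `C' = m * c`
  have hpm : p * m - 1 + 1 = p * m := Nat.sub_add_cancel (Nat.mul_pos hp.out.pos hmpos)
  have hp1 : p - 1 + 1 = p := Nat.sub_add_cancel hp.out.pos
  have hC' : (p * m).choose p = m * (p * m - 1).choose (p - 1) := by
    have h := Nat.add_one_mul_choose_eq (p * m - 1) (p - 1)
    rw [hpm, hp1] at h
    apply Nat.eq_of_mul_eq_mul_right hp.out.pos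
    rw [← h]; ring
  rw [hC'] at hG2
  have hG3 : (p * m - 1).choose (p - 1) +
      Nat.card (Σ T : {T : Subgroup G // Nat.card T = p ^ (b + 1)},
          {S : {S : Subgroup G // Nat.card S = p ^ b} // S.1 ≤ T.1}) ≡
      Nat.card {T : Subgroup G // Nat.card T = p ^ (b + 1)} +
        Nat.card {S : Subgroup G // Nat.card S = p ^ b} * (p * m - 1).choose (p - 1)
        [MOD p ^ 2] := by
    apply Nat.ModEq.mul_left_cancel' hmpos.ne'
    rw [mul_comm m (p ^ 2)]
    refine (Nat.ModEq.trans ?_ hG2).trans ?_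
    · rw [mul_add]
    · rw [mul_add]
      have : m * (Nat.card {S : Subgroup G // Nat.card S = p ^ b} * (p * m - 1).choose (p - 1)) =
          Nat.card {S : Subgroup G // Nat.card S = p ^ b} * (m * (p * m - 1).choose (p - 1)) := by
        ring
      rw [this]
  -- `c ≡ 1`, `N' ≡ 1 (mod p)`
  have hc1 := Cfsg.Agent.S3975.choose_pred_modEq_one p 1 m hmpos
  rw [pow_one] at hc1
  have hN1 := Cfsg.Agent.S3975.result (G := G) p b hp.out hdvdb
  have hpgt := hp.out.one_lt
  obtain ⟨j, hj⟩ : ∃ j, (p * m - 1).choose (p - 1) = 1 + p * j := by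
    refine ⟨(p * m - 1).choose (p - 1) / p, ?_⟩
    have h1 : (p * m - 1).choose (p - 1) % p = 1 := by
      have := hc1
      unfold Nat.ModEq at this
      rw [this, Nat.mod_eq_of_lt hpgt]
    have h2 := Nat.div_add_mod ((p * m - 1).choose (p - 1)) p
    omega
  obtain ⟨k, hk⟩ : ∃ k, Nat.card {S : Subgroup G // Nat.card S = p ^ b} = 1 + p * k := by
    refine ⟨Nat.card {S : Subgroup G // Nat.card S = p ^ b} / p, ?_⟩
    have h1 : Nat.card {S : Subgroup G // Nat.card S = p ^ b} % p = 1 := by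
      have := hN1
      unfold Nat.ModEq at this
      rw [this, Nat.mod_eq_of_lt hpgt]
    have h2 := Nat.div_add_mod (Nat.card {S : Subgroup G // Nat.card S = p ^ b}) p
    omega
  -- the pair count
  have hPi : (Nat.card (Σ T : {T : Subgroup G // Nat.card T = p ^ (b + 1)},
          {S : {S : Subgroup G // Nat.card S = p ^ b} // S.1 ≤ T.1}) : ZMod (p ^ 2)) =
      (Nat.card {T : Subgroup G // Nat.card T = p ^ (b + 1)} : ZMod (p ^ 2)) +
        (p : ZMod (p ^ 2)) *
          (Nat.card {T : {T : Subgroup G // Nat.card T = p ^ (b + 1)} // ¬ IsCyclic T.1} :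
            ZMod (p ^ 2)) := by
    rw [Nat.card_sigma, Nat.cast_sum]
    rw [Finset.sum_congr rfl (fun T _ =>
      (ZMod.natCast_eq_natCast_iff _ _ _).2 (mu_modEq p b T.1 T.2))]
    rw [← Nat.cast_sum, Finset.sum_add_distrib, ← Finset.mul_sum, Finset.sum_const,
      Finset.card_univ, smul_eq_mul, mul_one]
    have h1 : ∑ T : {T : Subgroup G // Nat.card T = p ^ (b + 1)},
        (if IsCyclic T.1 then 0 else 1) =
        Nat.card {T : {T : Subgroup G // Nat.card T = p ^ (b + 1)} // ¬ IsCyclic T.1} := by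
      rw [Nat.card_eq_fintype_card, Fintype.card_subtype, Finset.card_filter]
      apply Finset.sum_congr rfl
      intro T _
      by_cases h : IsCyclic T.1
      · rw [if_pos h, if_neg (not_not.2 h)]
      · rw [if_neg h, if_pos h]
    rw [h1, Nat.card_eq_fintype_card (α := {T : Subgroup G // Nat.card T = p ^ (b + 1)})]
    push_cast
    ring
  have hp2 : (p : ZMod (p ^ 2)) ^ 2 = 0 := by
    have := ZMod.natCast_self (p ^ 2)
    push_cast at this
    exact this
  rw [← ZMod.natCast_eq_natCast_iff] at hG3 ⊢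
  rw [Nat.cast_add, hPi, Nat.cast_add, Nat.cast_mul, hj, hk] at hG3
  rw [hk]
  push_cast at hG3 ⊢
  linear_combination (-1 : ZMod (p ^ 2)) * hG3 - ((k : ZMod (p ^ 2)) * (j : ZMod (p ^ 2))) * hp2

/-- the number of cyclic subgroups of order `p^(b+1)` is `≡ 0` or `1 (mod p)` -/
theorem card_cyclic_mod (p b : ℕ) [hp : Fact p.Prime] (hdvd : p ^ (b + 1) ∣ Nat.card G) :
    Nat.card {C : Subgroup G // IsCyclic C ∧ Nat.card C = p ^ (b + 1)} ≡ 0 [MOD p] ∨
      Nat.card {C : Subgroup G // IsCyclic C ∧ Nat.card C = p ^ (b + 1)} ≡ 1 [MOD p] := by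
  by_cases hp2 : p = 2
  · subst hp2
    rcases Nat.mod_two_eq_zero_or_one
      (Nat.card {C : Subgroup G // IsCyclic C ∧ Nat.card C = 2 ^ (b + 1)}) with h | h
    · left; exact h
    · right; exact h
  rcases Nat.eq_zero_or_pos b with hb | hb
  · -- order `p`: all cyclic
    subst hb
    right
    have h1 := Cfsg.Agent.S3975.result (G := G) p 1 hp.out hdvd
    have h2 : Nat.card {C : Subgroup G // IsCyclic C ∧ Nat.card C = p ^ (0 + 1)} =
        Nat.card {H : Subgroup G // Nat.card H = p ^ 1} :=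
      Nat.card_congr (Equiv.subtypeEquivRight (fun C => by
        constructor
        · rintro ⟨-, h⟩; exact h
        · intro h
          exact ⟨isCyclic_of_prime_card (p := p) (by rw [h, pow_one]), h⟩))
    rw [h2]; exact h1
  · -- `b + 1 ≥ 2`
    obtain ⟨P⟩ : Nonempty (Sylow p G) := inferInstance
    have h1 := Cfsg.Agent.H74.Mil.card_modEq_card_fixed (p := p) P.2
      (Cfsg.Agent.H74.Mil.subAct (P : Subgroup G))
      (fun C : Subgroup G => IsCyclic C ∧ Nat.card C = p ^ (b + 1))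
      (fun q C h => by
        have hT := Cfsg.Agent.H74.Mil.T_invariant (p ^ (b + 1)) 1 (MulAut.conj (q : G)) (C, 1)
          ⟨h.1, h.2, orderOf_one, fun c _ => Commute.one_right c⟩
        exact ⟨hT.1, hT.2.1⟩)
    have h3 := Cfsg.Agent.H74.Mil.card_modEq_card_fixed (p := p) P.2
      (Cfsg.Agent.H74.Mil.subAct (P : Subgroup G))
      (fun C : Subgroup G => IsCyclic C ∧ Nat.card C = p ^ (b + 1) ∧ C ≤ P)
      (fun q C h => by
        have hT := Cfsg.Agent.H74.Mil.T_invariant (p ^ (b + 1)) 1 (MulAut.conj (q : G)) (C, 1)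
          ⟨h.1, h.2.1, orderOf_one, fun c _ => Commute.one_right c⟩
        refine ⟨hT.1, hT.2.1, ?_⟩
        intro x hx
        have hx' : x ∈ C.map (MulAut.conj (q : G)).toMonoidHom := hx
        rw [Cfsg.Agent.H74.Mil.mem_map_conj] at hx'
        have h5 := h.2.2 hx'
        have h6 := mul_mem (mul_mem q.2 h5) (inv_mem q.2)
        simpa [mul_assoc] using h6)
    have h2 : Nat.card {C : Subgroup G // (IsCyclic C ∧ Nat.card C = p ^ (b + 1)) ∧
          ∀ q : (P : Subgroup G),
            (Cfsg.Agent.H74.Mil.subAct (P : Subgroup G)).toSMul.smul q C = C} =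
        Nat.card {C : Subgroup G // (IsCyclic C ∧ Nat.card C = p ^ (b + 1) ∧ C ≤ P) ∧
          ∀ q : (P : Subgroup G),
            (Cfsg.Agent.H74.Mil.subAct (P : Subgroup G)).toSMul.smul q C = C} :=
      Nat.card_congr (Equiv.subtypeEquivRight (fun C => by
        constructor
        · rintro ⟨⟨h1, h2⟩, h3⟩
          exact ⟨⟨h1, h2, Cfsg.Agent.H74.Mil.le_sylow_of_fixed P C (IsPGroup.of_card h2) h3⟩, h3⟩
        · rintro ⟨⟨h1, h2, -⟩, h3⟩
          exact ⟨⟨h1, h2⟩, h3⟩))
    rw [h2] at h1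
    have h4 := h1.trans h3.symm
    by_cases hPc : IsCyclic (P : Subgroup G)
    · right
      refine h4.trans ?_
      have hone : Nat.card {C : Subgroup G // IsCyclic C ∧ Nat.card C = p ^ (b + 1) ∧ C ≤ P} = 1 := by
        rw [Nat.card_eq_one_iff_unique]
        have hdP : p ^ (b + 1) ∣ Nat.card (P : Subgroup G) := P.pow_dvd_card_of_pow_dvd_card hdvd
        obtain ⟨K, hK⟩ := Sylow.exists_subgroup_card_pow_prime p hdP
        refine ⟨⟨?_⟩, ⟨⟨K.map (P : Subgroup G).subtype, ?_, ?_, map_subtype_le K⟩⟩⟩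
        · rintro ⟨C₁, -, hc₁, hle₁⟩ ⟨C₂, -, hc₂, hle₂⟩
          apply Subtype.ext
          show C₁ = C₂
          have e1 : Nat.card (C₁.subgroupOf (P : Subgroup G)) = p ^ (b + 1) :=
            (Nat.card_congr (Subgroup.subgroupOfEquivOfLe hle₁).toEquiv).trans hc₁
          have e2 : Nat.card (C₂.subgroupOf (P : Subgroup G)) = p ^ (b + 1) :=
            (Nat.card_congr (Subgroup.subgroupOfEquivOfLe hle₂).toEquiv).trans hc₂
          have e3 := eq_of_card_eq_of_isCyclic _ _ (e1.trans e2.symm)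
          rw [← Subgroup.map_subgroupOf_eq_of_le hle₁, ← Subgroup.map_subgroupOf_eq_of_le hle₂, e3]
        · exact (K.equivMapOfInjective (P : Subgroup G).subtype
            (P : Subgroup G).subtype_injective).isCyclic.1 inferInstance
        · exact ((Nat.card_congr (K.equivMapOfInjective (P : Subgroup G).subtype
            (P : Subgroup G).subtype_injective).toEquiv).symm).trans hK
      rw [hone]
    · left
      refine h4.trans ?_
      exact (Nat.modEq_zero_iff_dvd).2
        (Cfsg.Agent.H74.Mil.miller_sub hp2 (P : Subgroup G) P.2 hPc (b + 1) (by omega))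

/-- **Subgroups of order `p^a` modulo `p²`** when `p^(a+1)` divides the group order. -/
theorem card_subgroups_mod_sq (p a : ℕ) [hp : Fact p.Prime] (hdvd : p ^ (a + 1) ∣ Nat.card G) :
    Nat.card {H : Subgroup G // Nat.card H = p ^ a} ≡ 1 [MOD p ^ 2] ∨
      Nat.card {H : Subgroup G // Nat.card H = p ^ a} ≡ 1 + p [MOD p ^ 2] := by
  have h1 := card_modEq_nc (G := G) p a hdvd
  have h2 := card_subtype_add_card_not
    (fun T : {T : Subgroup G // Nat.card T = p ^ (a + 1)} => IsCyclic T.1)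
  have h3 : Nat.card {T : {T : Subgroup G // Nat.card T = p ^ (a + 1)} // IsCyclic T.1} =
      Nat.card {C : Subgroup G // IsCyclic C ∧ Nat.card C = p ^ (a + 1)} :=
    Nat.card_congr ((Equiv.subtypeSubtypeEquivSubtypeInter
      (fun T : Subgroup G => Nat.card T = p ^ (a + 1)) (fun T => IsCyclic T)).trans
      (Equiv.subtypeEquivRight (fun C => and_comm)))
  have h4 := Cfsg.Agent.S3975.result (G := G) p (a + 1) hp.out hdvd
  rw [← h2, h3] at h4
  rcases card_cyclic_mod (G := G) p a hdvd with h5 | h5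
  · right
    have h6 : Nat.card {T : {T : Subgroup G // Nat.card T = p ^ (a + 1)} // ¬ IsCyclic T.1} ≡ 1
        [MOD p] := by
      have := (h5.add_right _).symm.trans h4
      simpa using this
    have h7 := Nat.ModEq.mul_left' p h6
    rw [mul_one, ← pow_two] at h7
    exact h1.trans (h7.add_left 1)
  · left
    have h6 : Nat.card {T : {T : Subgroup G // Nat.card T = p ^ (a + 1)} // ¬ IsCyclic T.1} ≡ 0
        [MOD p] := by
      have h8 := (h5.add_right _).symm.trans h4
      exact Nat.ModEq.add_left_cancel' 1 (by simpa using h8)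
    have h7 := Nat.ModEq.mul_left' p h6
    rw [mul_zero, ← pow_two] at h7
    exact h1.trans (by simpa using h7.add_left 1)

end main

end Cfsg.Agent.H74.Wie
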